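import Groth.Prelude.Def_FibCat2
import Mathlib.CategoryTheory.FiberedCategory.Fibered

/-!
# Elementary calculus in categories fibred in groupoids (helper895)

Everything is phrased with `p.IsHomLift f φ`; no choice of pullbacks.
-/

set_option autoImplicit false
set_option backward.isDefEq.respectTransparency false
set_option backward.isDefEq.respectTransparency.types false

universe v₃ u₃ v₂ u₂ v u

open CategoryTheory

namespace K895.Fib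

variable {C : Type u} [Category.{v} C]

section Basic

variable {E : Type u₂} [Category.{v₂} E] {p : E ⥤ C}

/-- in a category fibred in groupoids every arrow is strongly cartesian over every morphism it lies over -/
theorem isSC (h : FibCat.IsFibGrpd p) {U V : C} (f : V ⟶ U) {y x : E} (φ : y ⟶ x)
    (hφ : p.IsHomLift f φ) : p.IsStronglyCartesian f φ := by
  have := h
  have hsc := FibCat.IsFibGrpd.isStronglyCartesian (p := p) φ
  obtain ⟨rfl⟩ := IsHomLift.domain_eq p f φ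
  obtain ⟨rfl⟩ := IsHomLift.codomain_eq p f φ
  have : f = p.map φ := IsHomLift.eq_of_isHomLift p f φ
  rw [this]
  exact hsc

theorem exists_lift (h : FibCat.IsFibGrpd p) {U V : C} (f : V ⟶ U) (x : E) (hx : p.obj x = U) :
    ∃ (y : E) (φ : y ⟶ x), p.IsHomLift f φ := by
  subst hx
  exact FibCat.IsFibGrpd.exists_lift f

theorem exists_fac (h : FibCat.IsFibGrpd p) {U V W : C} (g : W ⟶ V) (f : V ⟶ U) {z y x : E}
    (φ : y ⟶ x) (ψ : z ⟶ x) (hφ : p.IsHomLift f φ) (hψ : p.IsHomLift (g ≫ f) ψ) :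
    ∃ χ : z ⟶ y, p.IsHomLift g χ ∧ χ ≫ φ = ψ := by
  have := isSC h f φ hφ
  exact ⟨Functor.IsStronglyCartesian.map p f φ (g := g) rfl ψ, inferInstance,
    Functor.IsStronglyCartesian.fac p f φ rfl ψ⟩

theorem hom_unique (h : FibCat.IsFibGrpd p) {U V W : C} (g : W ⟶ V) (f : V ⟶ U) {z y x : E}
    (φ : y ⟶ x) (hφ : p.IsHomLift f φ) (χ χ' : z ⟶ y) (hχ : p.IsHomLift g χ)
    (hχ' : p.IsHomLift g χ') (e : χ ≫ φ = χ' ≫ φ) : χ = χ' := by
  have := isSC h f φ hφ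
  exact Functor.IsStronglyCartesian.ext p f φ g e

theorem isIso (h : FibCat.IsFibGrpd p) {U V : C} (f : V ⟶ U) [IsIso f] {y x : E} (φ : y ⟶ x)
    (hφ : p.IsHomLift f φ) : IsIso φ := by
  have := isSC h f φ hφ
  exact Functor.IsStronglyCartesian.isIso_of_base_isIso p f φ

/-- two lifts of the same morphism with the same target: a comparison isomorphism over the identity -/
theorem exists_iso (h : FibCat.IsFibGrpd p) {U V : C} (f : V ⟶ U) {z y x : E}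
    (φ : y ⟶ x) (ψ : z ⟶ x) (hφ : p.IsHomLift f φ) (hψ : p.IsHomLift f ψ) :
    ∃ χ : z ≅ y, p.IsHomLift (𝟙 V) χ.hom ∧ p.IsHomLift (𝟙 V) χ.inv ∧ χ.hom ≫ φ = ψ ∧
      χ.inv ≫ ψ = φ := by
  obtain ⟨χ, hχ, e⟩ := exists_fac h (𝟙 V) f φ ψ hφ (by rwa [Category.id_comp])
  have := isIso h (𝟙 V) χ hχ
  refine ⟨asIso χ, hχ, ?_, e, ?_⟩
  · exact inferInstanceAs (p.IsHomLift (𝟙 V) (inv χ))
  · simp [← e]

theorem lift_comp {U V W : C} {g : W ⟶ V} {f : V ⟶ U} {z y x : E} {χ : z ⟶ y} {φ : y ⟶ x}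
    (hχ : p.IsHomLift g χ) (hφ : p.IsHomLift f φ) : p.IsHomLift (g ≫ f) (χ ≫ φ) :=
  inferInstance

theorem lift_id_comp {U V : C} {f : V ⟶ U} {z y x : E} {χ : z ⟶ y} {φ : y ⟶ x}
    (hχ : p.IsHomLift (𝟙 V) χ) (hφ : p.IsHomLift f φ) : p.IsHomLift f (χ ≫ φ) :=
  inferInstance

theorem lift_comp_id {U V : C} {f : V ⟶ U} {z y x : E} {χ : z ⟶ y} {φ : y ⟶ x}
    (hχ : p.IsHomLift f χ) (hφ : p.IsHomLift (𝟙 U) φ) : p.IsHomLift f (χ ≫ φ) :=
  inferInstance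

theorem lift_inv {V : C} {z y : E} {χ : z ⟶ y} [IsIso χ]
    (hχ : p.IsHomLift (𝟙 V) χ) : p.IsHomLift (𝟙 V) (inv χ) := inferInstance

theorem lift_eq {U V : C} {f f' : V ⟶ U} {y x : E} {φ : y ⟶ x} (hφ : p.IsHomLift f φ)
    (e : f = f') : p.IsHomLift f' φ := e ▸ hφ

theorem obj_eq_of_lift_left {U V : C} {f : V ⟶ U} {y x : E} {φ : y ⟶ x} (hφ : p.IsHomLift f φ) :
    p.obj y = V := IsHomLift.domain_eq p f φ

theorem obj_eq_of_lift_right {U V : C} {f : V ⟶ U} {y x : E} {φ : y ⟶ x} (hφ : p.IsHomLift f φ) :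
    p.obj x = U := IsHomLift.codomain_eq p f φ

end Basic

section Based

variable {𝒳 : BasedCategory.{v₂, u₂} C} {𝒴 : BasedCategory.{v₃, u₃} C}

theorem lift_map (F : 𝒳 ⥤ᵇ 𝒴) {U V : C} {f : V ⟶ U} {y x : 𝒳.obj} {φ : y ⟶ x}
    (hφ : 𝒳.p.IsHomLift f φ) : 𝒴.p.IsHomLift f (F.map φ) := inferInstance

theorem lift_of_map (F : 𝒳 ⥤ᵇ 𝒴) {U V : C} {f : V ⟶ U} {y x : 𝒳.obj} {φ : y ⟶ x}
    (hφ : 𝒴.p.IsHomLift f (F.map φ)) : 𝒳.p.IsHomLift f φ := BasedFunctor.isHomLift_map F f φ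

/-- components of a 2-isomorphism -/
def appIso {F G : 𝒳 ⥤ᵇ 𝒴} (e : F ≅ G) (x : 𝒳.obj) : F.obj x ≅ G.obj x :=
  ((BasedNatTrans.forgetful _ _).mapIso e).app x

theorem appIso_hom_lift {F G : 𝒳 ⥤ᵇ 𝒴} (e : F ≅ G) {U : C} {x : 𝒳.obj} (hx : 𝒳.p.obj x = U) :
    𝒴.p.IsHomLift (𝟙 U) (appIso e x).hom :=
  BasedNatTrans.isHomLift e.hom hx

theorem appIso_inv_lift {F G : 𝒳 ⥤ᵇ 𝒴} (e : F ≅ G) {U : C} {x : 𝒳.obj} (hx : 𝒳.p.obj x = U) :
    𝒴.p.IsHomLift (𝟙 U) (appIso e x).inv :=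
  BasedNatTrans.isHomLift e.inv hx

theorem appIso_naturality {F G : 𝒳 ⥤ᵇ 𝒴} (e : F ≅ G) {x y : 𝒳.obj} (φ : x ⟶ y) :
    F.map φ ≫ (appIso e y).hom = (appIso e x).hom ≫ G.map φ :=
  e.hom.toNatTrans.naturality φ

theorem appIso_naturality_inv {F G : 𝒳 ⥤ᵇ 𝒴} (e : F ≅ G) {x y : 𝒳.obj} (φ : x ⟶ y) :
    G.map φ ≫ (appIso e y).inv = (appIso e x).inv ≫ F.map φ :=
  e.inv.toNatTrans.naturality φ

/-- `IsEquivOver F` gives: full, faithful, and every object of the target is isomorphic over the identity to an object in the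
image. -/
theorem IsEquivOver.elim {F : 𝒳 ⥤ᵇ 𝒴} (hF : FibCat.IsEquivOver F) :
    F.toFunctor.Full ∧ F.toFunctor.Faithful ∧
      ∀ y : 𝒴.obj, ∃ (x : 𝒳.obj) (e : F.obj x ≅ y), 𝒴.p.IsHomLift (𝟙 (𝒴.p.obj y)) e.hom ∧
        𝒳.p.obj x = 𝒴.p.obj y := by
  obtain ⟨G, ⟨a⟩, ⟨b⟩⟩ := hF
  have he : F.toFunctor.IsEquivalence := by
    let E : 𝒳.obj ≌ 𝒴.obj := CategoryTheory.Equivalence.mk F.toFunctor G.toFunctor
      ((BasedNatTrans.forgetful _ _).mapIso a).symm ((BasedNatTrans.forgetful _ _).mapIso b)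
    exact E.isEquivalence_functor
  refine ⟨inferInstance, inferInstance, fun y => ?_⟩
  exact ⟨G.obj y, appIso b y, appIso_hom_lift b rfl, G.w_obj y⟩

end Based

end K895.Fib
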