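import Groth.Prelude.Def_AlgSt
import Groth.Agent.Gerb.K895.Fib

/-!
# Gluing in (pre)stacks in groupoids, cleavage free (helper895)
-/

set_option autoImplicit false
set_option backward.isDefEq.respectTransparency false
set_option backward.isDefEq.respectTransparency.types false

universe v₃ u₃ v₂ u₂ v u

open CategoryTheory K895.Fib

namespace K895.Glue

variable {C : Type u} [Category.{v} C]

/-- a based functor from its values -/
def mkBased {𝒜 : BasedCategory.{v₃, u₃} C} {𝒳 : BasedCategory.{v₂, u₂} C}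
    (obj : 𝒜.obj → 𝒳.obj) (map : ∀ {a b : 𝒜.obj}, (a ⟶ b) → (obj a ⟶ obj b))
    (hlift : ∀ {a b : 𝒜.obj} (f : a ⟶ b), 𝒳.p.IsHomLift (𝒜.p.map f) (map f))
    (hid : ∀ a : 𝒜.obj, map (𝟙 a) = 𝟙 (obj a))
    (hcomp : ∀ {a b c : 𝒜.obj} (f : a ⟶ b) (g : b ⟶ c), map (f ≫ g) = map f ≫ map g) :
    𝒜 ⥤ᵇ 𝒳 where
  toFunctor :=
    { obj := obj
      map := map
      map_id := hid
      map_comp := hcomp }
  w := CategoryTheory.Functor.ext
    (fun a => by
      have := hlift (𝟙 a)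
      exact IsHomLift.domain_eq 𝒳.p (𝒜.p.map (𝟙 a)) (map (𝟙 a)))
    (fun a b f => by
      have := hlift f
      exact IsHomLift.fac' 𝒳.p (𝒜.p.map f) (map f))

section Yo

variable {𝒳 : BasedCategory.{v₂, u₂} C} (h : FibCat.IsFibGrpd 𝒳.p)
  {U : C} (x : 𝒳.obj) (hx : 𝒳.p.obj x = U)

/-- chosen pullback of `x` along `T.hom` -/
noncomputable def yoObj (T : Over U) : 𝒳.obj := (exists_lift h T.hom x hx).choose

/-- the chosen arrow -/
noncomputable def yoHom (T : Over U) : yoObj h x hx T ⟶ x := (exists_lift h T.hom x hx).choose_spec.choose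

theorem yoHom_lift (T : Over U) : 𝒳.p.IsHomLift T.hom (yoHom h x hx T) :=
  (exists_lift h T.hom x hx).choose_spec.choose_spec

theorem exists_yoMap {T' T : Over U} (g : T' ⟶ T) :
    ∃ χ : yoObj h x hx T' ⟶ yoObj h x hx T, 𝒳.p.IsHomLift g.left χ ∧
      χ ≫ yoHom h x hx T = yoHom h x hx T' :=
  exists_fac h g.left T.hom (yoHom h x hx T) (yoHom h x hx T') (yoHom_lift h x hx T)
    (lift_eq (yoHom_lift h x hx T') (Over.w g).symm)

/-- transition maps -/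
noncomputable def yoMap {T' T : Over U} (g : T' ⟶ T) : yoObj h x hx T' ⟶ yoObj h x hx T :=
  (exists_yoMap h x hx g).choose

theorem yoMap_lift {T' T : Over U} (g : T' ⟶ T) : 𝒳.p.IsHomLift g.left (yoMap h x hx g) :=
  (exists_yoMap h x hx g).choose_spec.1

@[reassoc]
theorem yoMap_comp {T' T : Over U} (g : T' ⟶ T) :
    yoMap h x hx g ≫ yoHom h x hx T = yoHom h x hx T' :=
  (exists_yoMap h x hx g).choose_spec.2

theorem yoMap_unique {T' T : Over U} (g : T' ⟶ T) (χ : yoObj h x hx T' ⟶ yoObj h x hx T)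
    (hχ : 𝒳.p.IsHomLift g.left χ) (e : χ ≫ yoHom h x hx T = yoHom h x hx T') :
    χ = yoMap h x hx g :=
  hom_unique h g.left T.hom (yoHom h x hx T) (yoHom_lift h x hx T) _ _ hχ (yoMap_lift h x hx g)
    (e.trans (yoMap_comp h x hx g).symm)

/-- the functor `C/U ⟶ 𝒳` of an object over `U` -/
noncomputable def yo : FibCat.overCat U ⥤ᵇ 𝒳 :=
  mkBased (𝒜 := FibCat.overCat U) (yoObj h x hx) (fun g => yoMap h x hx g)
    (fun g => yoMap_lift h x hx g)
    (fun T => (yoMap_unique h x hx (𝟙 T) (𝟙 _)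
      (IsHomLift.id (obj_eq_of_lift_left (yoHom_lift h x hx T))) (Category.id_comp _)).symm)
    (fun {a b c} f g => (yoMap_unique h x hx (f ≫ g) (yoMap h x hx f ≫ yoMap h x hx g)
      (lift_comp (yoMap_lift h x hx f) (yoMap_lift h x hx g))
      (by rw [Category.assoc]; erw [yoMap_comp, yoMap_comp])).symm)

end Yo

section NatTrans

variable {𝒜 : BasedCategory.{v₃, u₃} C} {𝒳 : BasedCategory.{v₂, u₂} C}

/-- a 2-morphism from components -/
def mkTrans {F G : 𝒜 ⥤ᵇ 𝒳} (app : ∀ a, F.obj a ⟶ G.obj a)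
    (hlift : ∀ a, 𝒳.p.IsHomLift (𝟙 (𝒜.p.obj a)) (app a))
    (nat : ∀ {a b : 𝒜.obj} (f : a ⟶ b), F.map f ≫ app b = app a ≫ G.map f) : F ⟶ G :=
  BasedNatTrans.mk { app := app, naturality := fun _ _ f => nat f } hlift

theorem mkTrans_app {F G : 𝒜 ⥤ᵇ 𝒳} (app : ∀ a, F.obj a ⟶ G.obj a)
    (hlift : ∀ a, 𝒳.p.IsHomLift (𝟙 (𝒜.p.obj a)) (app a))
    (nat : ∀ {a b : 𝒜.obj} (f : a ⟶ b), F.map f ≫ app b = app a ≫ G.map f) (a : 𝒜.obj) :
    (BasedNatTrans.toNatTrans (mkTrans app hlift nat)).app a = app a := rfl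

theorem trans_ext {F G : 𝒜 ⥤ᵇ 𝒳} {α β : F ⟶ G}
    (e : ∀ a, (BasedNatTrans.toNatTrans α).app a = (BasedNatTrans.toNatTrans β).app a) : α = β := by
  apply BasedNatTrans.homCategory.ext
  ext a
  exact e a

end NatTrans

section GlueHom

variable {𝒳 : BasedCategory.{v₂, u₂} C} (h : FibCat.IsFibGrpd 𝒳.p)
  {U : C} {x x' : 𝒳.obj} (hx : 𝒳.p.obj x = U) (hx' : 𝒳.p.obj x' = U)

/-- the 2-morphism of functors `C/U ⟶ 𝒳` attached to a morphism over the identity -/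
noncomputable def yoTrans (b : x ⟶ x') (hb : 𝒳.p.IsHomLift (𝟙 U) b) : yo h x hx ⟶ yo h x' hx' :=
  have key : ∀ T : Over U, ∃ χ : yoObj h x hx T ⟶ yoObj h x' hx' T, 𝒳.p.IsHomLift (𝟙 T.left) χ ∧
      χ ≫ yoHom h x' hx' T = yoHom h x hx T ≫ b := fun T =>
    exists_fac h (𝟙 T.left) T.hom (yoHom h x' hx' T) (yoHom h x hx T ≫ b) (yoHom_lift h x' hx' T)
      (lift_eq (lift_comp_id (yoHom_lift h x hx T) hb) (Category.id_comp _).symm)
  mkTrans (𝒜 := FibCat.overCat U) (F := yo h x hx) (G := yo h x' hx')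
    (fun T => (key T).choose) (fun T => (key T).choose_spec.1)
    (fun {T' T} g => by
      refine hom_unique h g.left T.hom (yoHom h x' hx' T) (yoHom_lift h x' hx' T) _ _
        (lift_comp_id (yoMap_lift h x hx g) (key T).choose_spec.1)
        (lift_id_comp (key T').choose_spec.1 (yoMap_lift h x' hx' g)) ?_
      change (yoMap h x hx g ≫ (key T).choose) ≫ yoHom h x' hx' T =
        ((key T').choose ≫ yoMap h x' hx' g) ≫ yoHom h x' hx' T
      rw [Category.assoc, Category.assoc, (key T).choose_spec.2, yoMap_comp, yoMap_comp_assoc,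
        (key T').choose_spec.2])

theorem yoTrans_app_comp (b : x ⟶ x') (hb : 𝒳.p.IsHomLift (𝟙 U) b) (T : Over U) :
    (BasedNatTrans.toNatTrans (yoTrans h hx hx' b hb)).app T ≫ yoHom h x' hx' T =
      yoHom h x hx T ≫ b :=
  (exists_fac h (𝟙 T.left) T.hom (yoHom h x' hx' T) (yoHom h x hx T ≫ b) (yoHom_lift h x' hx' T)
      (lift_eq (lift_comp_id (yoHom_lift h x hx T) hb) (Category.id_comp _).symm)).choose_spec.2

include h in
/-- Uniqueness of gluing for morphisms over the identity. -/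
theorem glue_unique {R : Sieve U} (hR : Stk.IsPrestackFor R 𝒳)
    (b b' : x ⟶ x') (hb : 𝒳.p.IsHomLift (𝟙 U) b) (hb' : 𝒳.p.IsHomLift (𝟙 U) b')
    (hloc : ∀ ⦃V : C⦄ (f : V ⟶ U), R f → ∃ (y : 𝒳.obj) (φ : y ⟶ x), 𝒳.p.IsHomLift f φ ∧
      φ ≫ b = φ ≫ b') : b = b' := by
  have hx := obj_eq_of_lift_left hb
  have hx' := obj_eq_of_lift_right hb
  have := hR.2
  have e : yoTrans h hx hx' b hb = yoTrans h hx hx' b' hb' := by
    apply (Stk.resSieve R 𝒳).map_injective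
    apply trans_ext
    intro T
    change (BasedNatTrans.toNatTrans (yoTrans h hx hx' b hb)).app T.obj =
      (BasedNatTrans.toNatTrans (yoTrans h hx hx' b' hb')).app T.obj
    refine hom_unique h (𝟙 T.obj.left) T.obj.hom (yoHom h x' hx' T.obj) (yoHom_lift h x' hx' T.obj) _ _
      (BasedNatTrans.isHomLift (𝒳 := FibCat.overCat U) _ rfl)
      (BasedNatTrans.isHomLift (𝒳 := FibCat.overCat U) _ rfl) ?_
    rw [yoTrans_app_comp, yoTrans_app_comp]
    obtain ⟨y, φ, hφ, e⟩ := hloc T.obj.hom T.property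
    obtain ⟨c, -, hc⟩ := exists_fac h (𝟙 _) T.obj.hom φ (yoHom h x hx T.obj) hφ
      (lift_eq (yoHom_lift h x hx T.obj) (Category.id_comp _).symm)
    rw [← hc, Category.assoc, e, Category.assoc]
  have e2 := congrArg (fun α => (BasedNatTrans.toNatTrans α).app (Over.mk (𝟙 U)) ≫
    yoHom h x' hx' (Over.mk (𝟙 U))) e
  simp only [yoTrans_app_comp] at e2
  have hi : IsIso (yoHom h x hx (Over.mk (𝟙 U))) :=
    isIso h (𝟙 U) _ (yoHom_lift h x hx (Over.mk (𝟙 U)))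
  exact (cancel_epi _).1 e2

include h in
/-- Gluing of morphisms over the identity: a predicate `P` on pairs `(φ : y ⟶ x, ψ : y ⟶ x')`, stable under precomposition,
functional, and locally non-empty, comes from a unique morphism. -/
theorem glue_hom (hx : 𝒳.p.obj x = U) (hx' : 𝒳.p.obj x' = U)
    {R : Sieve U} (hR : Stk.IsPrestackFor R 𝒳)
    (P : ∀ ⦃y : 𝒳.obj⦄, (y ⟶ x) → (y ⟶ x') → Prop)
    (hex : ∀ ⦃V : C⦄ (f : V ⟶ U), R f → ∃ (y : 𝒳.obj) (φ : y ⟶ x) (ψ : y ⟶ x'),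
      𝒳.p.IsHomLift f φ ∧ 𝒳.p.IsHomLift f ψ ∧ P φ ψ)
    (hst : ∀ ⦃z y : 𝒳.obj⦄ (χ : z ⟶ y) (φ : y ⟶ x) (ψ : y ⟶ x'), P φ ψ → P (χ ≫ φ) (χ ≫ ψ))
    (hun : ∀ ⦃V : C⦄ (f : V ⟶ U), R f → ∀ ⦃y : 𝒳.obj⦄ (φ : y ⟶ x) (ψ ψ' : y ⟶ x'),
      𝒳.p.IsHomLift f φ → 𝒳.p.IsHomLift f ψ → 𝒳.p.IsHomLift f ψ' → P φ ψ → P φ ψ' → ψ = ψ') :
    ∃ b : x ⟶ x', 𝒳.p.IsHomLift (𝟙 U) b ∧ ∀ ⦃V : C⦄ (f : V ⟶ U), R f →
      ∀ ⦃y : 𝒳.obj⦄ (φ : y ⟶ x), 𝒳.p.IsHomLift f φ → P φ (φ ≫ b) := by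
  have := hR.1
  have key : ∀ T : Over U, R T.hom → ∃ ψ : yoObj h x hx T ⟶ x', 𝒳.p.IsHomLift T.hom ψ ∧
      P (yoHom h x hx T) ψ := by
    intro T hT
    obtain ⟨y, φ, ψ, hφ, hψ, hP⟩ := hex T.hom hT
    obtain ⟨c, hc, ec⟩ := exists_fac h (𝟙 _) T.hom φ (yoHom h x hx T) hφ
      (lift_eq (yoHom_lift h x hx T) (Category.id_comp _).symm)
    exact ⟨c ≫ ψ, lift_id_comp hc hψ, ec ▸ hst c φ ψ hP⟩
  choose ψ hψ hP using key
  have key2 : ∀ (T : Over U) (hT : R T.hom), ∃ χ : yoObj h x hx T ⟶ yoObj h x' hx' T,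
      𝒳.p.IsHomLift (𝟙 T.left) χ ∧ χ ≫ yoHom h x' hx' T = ψ T hT := fun T hT =>
    exists_fac h (𝟙 T.left) T.hom _ _ (yoHom_lift h x' hx' T)
      (lift_eq (hψ T hT) (Category.id_comp _).symm)
  choose χ hχ eχ using key2
  have key3 : ∀ (T' T : Over U) (hT' : R T'.hom) (hT : R T.hom) (g : T' ⟶ T),
      yoMap h x hx g ≫ ψ T hT = ψ T' hT' := by
    intro T' T hT' hT g
    refine hun T'.hom hT' (yoHom h x hx T') _ _ (yoHom_lift h x hx T') ?_ (hψ T' hT') ?_ (hP T' hT')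
    · exact lift_eq (lift_comp (yoMap_lift h x hx g) (hψ T hT)) (Over.w g)
    · have := hst (yoMap h x hx g) _ _ (hP T hT)
      rwa [yoMap_comp] at this
  let α : (Stk.resSieve R 𝒳).obj (yo h x hx) ⟶ (Stk.resSieve R 𝒳).obj (yo h x' hx') :=
    mkTrans (𝒜 := Stk.sieveCat R) (F := (Stk.resSieve R 𝒳).obj (yo h x hx))
      (G := (Stk.resSieve R 𝒳).obj (yo h x' hx')) (fun T => χ T.obj T.property)
      (fun T => hχ T.obj T.property)
      (fun {T' T} g => by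
        refine hom_unique h g.hom.left T.obj.hom (yoHom h x' hx' T.obj) (yoHom_lift h x' hx' T.obj) _ _
          (lift_comp_id (yoMap_lift h x hx g.hom) (hχ T.obj T.property))
          (lift_id_comp (hχ T'.obj T'.property) (yoMap_lift h x' hx' g.hom)) ?_
        change (yoMap h x hx g.hom ≫ χ T.obj T.property) ≫ yoHom h x' hx' T.obj =
          (χ T'.obj T'.property ≫ yoMap h x' hx' g.hom) ≫ yoHom h x' hx' T.obj
        rw [Category.assoc, Category.assoc, eχ, yoMap_comp, eχ,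
          key3 T'.obj T.obj T'.property T.property g.hom])
  obtain ⟨β, hβ⟩ := (Stk.resSieve R 𝒳).map_surjective α
  let I : Over U := Over.mk (𝟙 U)
  have hI := yoHom_lift h x hx I
  have hi : IsIso (yoHom h x hx I) := isIso h (𝟙 U) _ hI
  let βI : yoObj h x hx I ⟶ yoObj h x' hx' I := (BasedNatTrans.toNatTrans β).app I
  let b : x ⟶ x' := inv (yoHom h x hx I) ≫ βI ≫ yoHom h x' hx' I
  have hb : 𝒳.p.IsHomLift (𝟙 U) b :=
    lift_comp_id (lift_inv hI) (lift_comp_id (f := 𝟙 U)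
      (BasedNatTrans.isHomLift (𝒳 := FibCat.overCat U) β rfl) (yoHom_lift h x' hx' I))
  have hbT : ∀ (T : Over U) (hT : R T.hom), yoHom h x hx T ≫ b = ψ T hT := by
    intro T hT
    let g : T ⟶ I := Over.homMk T.hom (by simp [I])
    have e1 : yoHom h x hx T = yoMap h x hx g ≫ yoHom h x hx I := (yoMap_comp h x hx g).symm
    have e3 : (BasedNatTrans.toNatTrans β).app T = χ T hT :=
      congrArg (fun α => (BasedNatTrans.toNatTrans α).app (⟨T, hT⟩ : (Stk.sieveCat R).obj)) hβ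
    have e2 : yoMap h x hx g ≫ βI = χ T hT ≫ yoMap h x' hx' g := by
      rw [← e3]; exact (BasedNatTrans.toNatTrans β).naturality g
    simp only [b]
    rw [e1, Category.assoc, IsIso.hom_inv_id_assoc, reassoc_of% e2, yoMap_comp, eχ]
  refine ⟨b, hb, fun V f hf y φ hφ => ?_⟩
  obtain ⟨c, hc, ec⟩ := exists_fac h (𝟙 V) f (yoHom h x hx (Over.mk f)) φ (yoHom_lift h x hx (Over.mk f))
    (lift_eq hφ (Category.id_comp _).symm)
  rw [← ec, Category.assoc, hbT (Over.mk f) hf]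
  exact hst c _ _ (hP (Over.mk f) hf)

end GlueHom

section GlueObj

variable {𝒳 : BasedCategory.{v₂, u₂} C}

/-- Effective descent: a functor out of a covering sieve is represented by an object. -/
theorem glue_obj {U : C} {R : Sieve U} (hR : Stk.IsStackFor R 𝒳) (D : Stk.sieveCat R ⥤ᵇ 𝒳) :
    ∃ (x : 𝒳.obj) (_ : 𝒳.p.obj x = U) (d : ∀ T : (Stk.sieveCat R).obj, D.obj T ⟶ x),
      (∀ T, 𝒳.p.IsHomLift T.obj.hom (d T)) ∧
      ∀ (T' T : (Stk.sieveCat R).obj) (g : T' ⟶ T), D.map g ≫ d T = d T' := by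
  have : (Stk.resSieve R 𝒳).IsEquivalence := hR
  let X : FibCat.overCat U ⥤ᵇ 𝒳 := (Stk.resSieve R 𝒳).objPreimage D
  let e : (Stk.resSieve R 𝒳).obj X ≅ D := (Stk.resSieve R 𝒳).objObjPreimageIso D
  let g (T : Over U) : T ⟶ Over.mk (𝟙 U) := Over.homMk T.hom (by simp)
  refine ⟨X.obj (Over.mk (𝟙 U)), X.w_obj _, fun T => (appIso e T).inv ≫ X.map (g T.obj), fun T => ?_, ?_⟩
  · refine lift_id_comp (appIso_inv_lift e rfl) ?_
    exact lift_map X (φ := g T.obj) (IsHomLift.map (FibCat.overCat U).p (g T.obj))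
  · intro T' T f
    have e1 := appIso_naturality_inv e f
    rw [← Category.assoc]
    erw [e1]
    rw [Category.assoc]
    congr 1
    change X.map f.hom ≫ X.map (g T.obj) = X.map (g T'.obj)
    rw [← X.toFunctor.map_comp]
    congr 1
    apply Over.OverMorphism.ext
    change f.hom.left ≫ T.obj.hom = T'.obj.hom
    exact Over.w f.hom

end GlueObj

end K895.Glue
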