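import Groth.Prelude.Def_AlgSp
import Groth.Prelude.Def_NonAbH2
import Mathlib.AlgebraicGeometry.AlgClosed.Basic

/-!
# Covering sieves of the big fppf site `Over S` (helper895)
-/

set_option autoImplicit false

universe u

open CategoryTheory CategoryTheory.Limits AlgebraicGeometry Opposite

namespace K895.Fppf

variable {S : Scheme.{u}}

/-- a covering sieve of `T` contains a jointly surjective family of flat morphisms locally of finite presentation -/
theorem exists_family_of_mem {T : Over S} {R : Sieve T} (hR : R ∈ QuotSh.J Scheme.fppfPrecoverage S T) :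
    ∃ (I : Type (u + 1)) (V : I → Over S) (g : ∀ i, V i ⟶ T), (∀ i, R (g i)) ∧ (∀ i, Flat (g i).left) ∧
      (∀ i, LocallyOfFinitePresentation (g i).left) ∧ ∀ t : T.left, ∃ i, t ∈ Set.range (g i).left := by
  have hR' : Sieve.overEquiv T R ∈ Scheme.fppfPrecoverage.toGrothendieck T.left := hR
  rw [Precoverage.mem_toGrothendieck_iff_of_isStableUnderComposition] at hR'
  obtain ⟨P, hP, hle⟩ := hR'
  obtain ⟨I, X, f, rfl⟩ := P.exists_eq_ofArrows
  rw [Scheme.fppfPrecoverage, Scheme.ofArrows_mem_precoverage_iff] at hP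
  refine ⟨I, fun i => Over.mk (f i ≫ T.hom), fun i => Over.homMk (f i), fun i => ?_, fun i => (hP.2 i).1,
    fun i => (hP.2 i).2, hP.1⟩
  exact (Sieve.overEquiv_iff _ _).1 (hle _ _ ⟨i⟩)

/-- a jointly surjective family of flat lfp morphisms generates a covering sieve -/
theorem mem_of_family {T : Over S} {R : Sieve T} {I : Type (u + 1)} (V : I → Over S) (g : ∀ i, V i ⟶ T)
    (hR : ∀ i, R (g i)) (h1 : ∀ i, Flat (g i).left) (h2 : ∀ i, LocallyOfFinitePresentation (g i).left)
    (h3 : ∀ t : T.left, ∃ i, t ∈ Set.range (g i).left) : R ∈ QuotSh.J Scheme.fppfPrecoverage S T := by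
  change Sieve.overEquiv T R ∈ Scheme.fppfPrecoverage.toGrothendieck T.left
  rw [Precoverage.mem_toGrothendieck_iff_of_isStableUnderComposition]
  refine ⟨Presieve.ofArrows (fun i => (V i).left) (fun i => (g i).left), ?_, ?_⟩
  · rw [Scheme.fppfPrecoverage, Scheme.ofArrows_mem_precoverage_iff]
    exact ⟨h3, fun i => ⟨h1 i, h2 i⟩⟩
  · rintro _ _ ⟨i⟩
    rw [Sieve.overEquiv_iff]
    let e : Over.mk ((g i).left ≫ T.hom) ⟶ V i := Over.homMk (𝟙 _) (by simp)
    have : (Over.homMk (g i).left : Over.mk ((g i).left ≫ T.hom) ⟶ T) = e ≫ g i := by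
      ext; simp [e]
    rw [this]
    exact R.downward_closed (hR i) e

/-- a single flat surjective morphism locally of finite presentation generates a covering sieve -/
theorem mem_of_single {T V : Over S} {R : Sieve T} (g : V ⟶ T) (hR : R g) [Flat g.left]
    [LocallyOfFinitePresentation g.left] [Surjective g.left] : R ∈ QuotSh.J Scheme.fppfPrecoverage S T :=
  mem_of_family (I := PUnit) (fun _ => V) (fun _ => g) (fun _ => hR) (fun _ => inferInstance)
    (fun _ => inferInstance) (fun t => ⟨⟨⟩, g.left.surjective t⟩)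

/-- over an algebraically closed field every covering sieve is the maximal one -/
theorem algClosed (Ω : Type u) [Field Ω] [IsAlgClosed Ω] (t : Spec (CommRingCat.of Ω) ⟶ S)
    {R : Sieve (Over.mk t)} (hR : R ∈ QuotSh.J Scheme.fppfPrecoverage S (Over.mk t)) : R (𝟙 _) := by
  obtain ⟨I, V, g, hg, -, h2, h3⟩ := exists_family_of_mem hR
  obtain ⟨i, v, -⟩ := h3 (default : Spec (CommRingCat.of Ω))
  have : LocallyOfFinitePresentation (g i).left := h2 i
  have : JacobsonSpace (Over.mk t).left := inferInstanceAs (JacobsonSpace (Spec (CommRingCat.of Ω)))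
  have : JacobsonSpace (V i).left := LocallyOfFiniteType.jacobsonSpace (g i).left
  have hne : (closedPoints (V i).left).Nonempty := by
    have := closure_closedPoints (X := (V i).left)
    rw [← closure_nonempty_iff, this]
    exact ⟨v, trivial⟩
  obtain ⟨x, hx⟩ := hne
  let s : Spec (CommRingCat.of Ω) ⟶ (V i).left := pointOfClosedPoint (g i).left x hx
  have hs : s ≫ (g i).left = 𝟙 _ := pointOfClosedPoint_comp _ _ _
  have hw : s ≫ (V i).hom = t := by
    have := Over.w (g i)
    rw [← this, ← Category.assoc, hs]; exact Category.id_comp _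
  let s' : Over.mk t ⟶ V i := Over.homMk s hw
  have : 𝟙 _ = s' ≫ g i := by
    ext1; exact hs.symm
  rw [this]
  exact R.downward_closed (hg i) s'

end K895.Fppf
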