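import Groth.Agent.Gerb.K895.TwoMor
import Mathlib.CategoryTheory.Sites.Sheaf
import Mathlib.Algebra.Category.Grp.Limits

/-!
# The sheaf banding a gerbe with commutative automorphism groups (helper895)
-/

set_option autoImplicit false
set_option backward.isDefEq.respectTransparency false
set_option backward.isDefEq.respectTransparency.types false

universe v₅ u₅ v₄ u₄ v₃ u₃ v₂ u₂ v u

open CategoryTheory Opposite K895.Fib K895.Glue K895.Global K895.TwoMor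

namespace K895.Band

variable {C : Type u} [Category.{v} C] {J : GrothendieckTopology C}

/-- Gluing morphisms over the identity, strong form: `P` is functional over every base morphism, and the glued morphism
satisfies `φ ≫ b = ψ` for every pair with `P φ ψ`. -/
theorem glue_hom' {𝒳 : BasedCategory.{v₂, u₂} C} (h : Stk.IsPrestack J 𝒳) {U : C} {x x' : 𝒳.obj}
    (hx : 𝒳.p.obj x = U) (hx' : 𝒳.p.obj x' = U)
    (R : Sieve U) (hR : R ∈ J U)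
    (P : ∀ ⦃y : 𝒳.obj⦄, (y ⟶ x) → (y ⟶ x') → Prop)
    (hlift : ∀ ⦃y : 𝒳.obj⦄ (φ : y ⟶ x) (ψ : y ⟶ x'), P φ ψ → ∀ ⦃V : C⦄ (f : V ⟶ U),
      𝒳.p.IsHomLift f φ → 𝒳.p.IsHomLift f ψ)
    (hex : ∀ ⦃V : C⦄ (f : V ⟶ U), R f → ∃ (y : 𝒳.obj) (φ : y ⟶ x) (ψ : y ⟶ x'),
      𝒳.p.IsHomLift f φ ∧ P φ ψ)
    (hst : ∀ ⦃z y : 𝒳.obj⦄ (χ : z ⟶ y) (φ : y ⟶ x) (ψ : y ⟶ x'), P φ ψ → P (χ ≫ φ) (χ ≫ ψ))
    (hun : ∀ ⦃y : 𝒳.obj⦄ (φ : y ⟶ x) (ψ ψ' : y ⟶ x'), P φ ψ → P φ ψ' → ψ = ψ') :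
    ∃ b : x ⟶ x', 𝒳.p.IsHomLift (𝟙 U) b ∧
      ∀ ⦃y : 𝒳.obj⦄ (φ : y ⟶ x) (ψ : y ⟶ x'), P φ ψ → φ ≫ b = ψ := by
  obtain ⟨b, hb, hP⟩ := glue_hom h.1 hx hx' (h.2 R hR) P
    (fun V f hf => by
      obtain ⟨y, φ, ψ, hφ, hP⟩ := hex f hf
      exact ⟨y, φ, ψ, hφ, hlift φ ψ hP f hφ, hP⟩) hst
    (fun V f _ y φ ψ ψ' _ _ _ h1 h2 => hun φ ψ ψ' h1 h2)
  refine ⟨b, hb, fun y φ ψ hφψ => ?_⟩
  subst hx
  have hφ : 𝒳.p.IsHomLift (𝒳.p.map φ) φ := IsHomLift.map 𝒳.p φ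
  have hψ : 𝒳.p.IsHomLift (𝒳.p.map φ) ψ := hlift φ ψ hφψ _ hφ
  refine glue_unique' h (𝒳.p.map φ) _ _ (lift_comp_id hφ hb) hψ _ (J.pullback_stable (𝒳.p.map φ) hR)
    fun V f hf => ?_
  obtain ⟨z, χ, hχ⟩ := exists_lift h.1 f y rfl
  refine ⟨z, χ, hχ, ?_⟩
  have h1 := hP (f ≫ 𝒳.p.map φ) hf (χ ≫ φ) (lift_comp hχ hφ)
  rw [← Category.assoc]
  exact hun _ _ _ h1 (hst χ φ ψ hφψ)

section presheaf

variable (𝒮 : BasedCategory.{v, max u v} C)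

/-- families of automorphisms over `𝒮/U`, natural for all arrows -/
def IsNat {U : C} (α : ∀ (x : 𝒮.obj) (_ : 𝒮.p.obj x ⟶ U), Gerb.AutO x) : Prop :=
  ∀ ⦃x' x : 𝒮.obj⦄ (φ : x' ⟶ x) (f : 𝒮.p.obj x ⟶ U),
    (α x' (𝒮.p.map φ ≫ f)).hom.1 ≫ φ = φ ≫ (α x f).hom.1

/-- the group of natural families -/
def sec (U : C) : Subgroup (∀ (x : 𝒮.obj) (_ : 𝒮.p.obj x ⟶ U), Gerb.AutO x) where
  carrier := {α | IsNat 𝒮 α}
  one_mem' := fun x' x φ f => (Category.id_comp φ).trans (Category.comp_id φ).symm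
  mul_mem' := by
    intro α β hα hβ x' x φ f
    change ((β x' _).hom.1 ≫ (α x' _).hom.1) ≫ φ = φ ≫ (β x f).hom.1 ≫ (α x f).hom.1
    rw [Category.assoc, hα φ f, reassoc_of% (hβ φ f)]
  inv_mem' := by
    intro α hα x' x φ f
    change (α x' _).inv.1 ≫ φ = φ ≫ (α x f).inv.1
    have h1 := hα φ f
    have h2 := congrArg (fun t => (α x' (𝒮.p.map φ ≫ f)).inv.1 ≫ t ≫ (α x f).inv.1) h1
    simp only [Category.assoc] at h2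
    rw [autO_hom_inv, Category.comp_id] at h2
    have h3 : (α x' (𝒮.p.map φ ≫ f)).inv.1 ≫ (α x' (𝒮.p.map φ ≫ f)).hom.1 = 𝟙 _ := autO_inv_hom _
    rw [reassoc_of% h3] at h2
    exact h2.symm

variable {𝒮}

theorem sec_ext {U : C} {α β : sec 𝒮 U} (h : ∀ (x : 𝒮.obj) (f : 𝒮.p.obj x ⟶ U),
    (α.1 x f).hom.1 = (β.1 x f).hom.1) : α = β :=
  Subtype.ext (funext fun x => funext fun f => autO_ext (h x f))

theorem sec_nat {U : C} (α : sec 𝒮 U) {x' x : 𝒮.obj} (φ : x' ⟶ x) (f : 𝒮.p.obj x ⟶ U) :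
    (α.1 x' (𝒮.p.map φ ≫ f)).hom.1 ≫ φ = φ ≫ (α.1 x f).hom.1 := α.2 φ f

/-- restriction -/
def res {U V : C} (g : V ⟶ U) : sec 𝒮 U →* sec 𝒮 V where
  toFun α := ⟨fun x f => α.1 x (f ≫ g), fun x' x φ f => by
    have := α.2 φ (f ≫ g)
    rw [← Category.assoc] at this
    exact this⟩
  map_one' := rfl
  map_mul' _ _ := rfl

variable (𝒮) in
/-- the presheaf of groups -/
def psh : Cᵒᵖ ⥤ GrpCat.{max u v} where
  obj U := GrpCat.of (sec 𝒮 U.unop)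
  map g := GrpCat.ofHom (res g.unop)
  map_id U := by
    apply GrpCat.hom_ext
    apply MonoidHom.ext
    intro α
    apply sec_ext
    intro x f
    change ((α : sec 𝒮 _).1 x (f ≫ 𝟙 _)).hom.1 = _
    rw [Category.comp_id]; rfl
  map_comp g h := by
    apply GrpCat.hom_ext
    apply MonoidHom.ext
    intro α
    apply sec_ext
    intro x f
    change ((α : sec 𝒮 _).1 x (f ≫ h.unop ≫ g.unop)).hom.1 = (α.1 x ((f ≫ h.unop) ≫ g.unop)).hom.1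
    rw [Category.assoc]

end presheaf

section sheaf

variable {𝒮 : BasedCategory.{v, max u v} C} (h : Stk.IsPrestack J 𝒮)

include h

theorem sep {U : C} (R : Sieve U) (hR : R ∈ J U) (α β : sec 𝒮 U)
    (e : ∀ ⦃V : C⦄ (g : V ⟶ U), R g → res g α = res g β) : α = β := by
  apply sec_ext
  intro x f
  refine glue_unique h.1 (h.2 _ (J.pullback_stable f hR)) _ _ (autO_lift _) (autO_lift _)
    fun V k hk => ?_
  obtain ⟨y, φ, hφ⟩ := exists_lift h.1 k x rfl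
  obtain rfl : 𝒮.p.obj y = V := obj_eq_of_lift_left hφ
  obtain rfl : k = 𝒮.p.map φ := IsHomLift.eq_of_isHomLift 𝒮.p k φ
  refine ⟨y, φ, hφ, ?_⟩
  rw [← sec_nat, ← sec_nat]
  have h1 := congrArg (fun t => (t.1 y (𝟙 _)).hom.1) (e _ hk)
  change (α.1 y (𝟙 _ ≫ 𝒮.p.map φ ≫ f)).hom.1 = (β.1 y (𝟙 _ ≫ 𝒮.p.map φ ≫ f)).hom.1 at h1
  rw [Category.id_comp] at h1
  rw [h1]

theorem isSheaf : Presieve.IsSheaf J (psh 𝒮 ⋙ forget GrpCat) := by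
  intro U R hR s hs
  rw [Presieve.compatible_iff_sieveCompatible] at hs
  -- the value of the compatible family
  let σ : ∀ ⦃V : C⦄ (g : V ⟶ U), R g → sec 𝒮 V := fun V g hg => s g hg
  have hσ : ∀ ⦃V W : C⦄ (g : V ⟶ U) (k : W ⟶ V) (hg : R g), σ (k ≫ g) (R.downward_closed hg k) =
      res k (σ g hg) := fun V W g k hg => hs g k hg
  have hσ' : ∀ ⦃V W : C⦄ (g : V ⟶ U) (k : W ⟶ V) (g' : W ⟶ U) (hg : R g) (hg' : R g') (_ : g' = k ≫ g)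
      (x : 𝒮.obj) (f : 𝒮.p.obj x ⟶ W), (σ g' hg').1 x f = (σ g hg).1 x (f ≫ k) := by
    rintro V W g k _ hg hg' rfl x f
    have := hσ g k hg
    exact congrArg (fun t => t.1 x f) this
  let P : ∀ (x : 𝒮.obj) (f : 𝒮.p.obj x ⟶ U) ⦃y : 𝒮.obj⦄, (y ⟶ x) → (y ⟶ x) → Prop :=
    fun x f y φ ψ => ∃ hg : R (𝒮.p.map φ ≫ f), ψ = ((σ _ hg).1 y (𝟙 _)).hom.1 ≫ φ
  have key : ∀ (x : 𝒮.obj) (f : 𝒮.p.obj x ⟶ U), ∃ b : x ⟶ x, 𝒮.p.IsHomLift (𝟙 (𝒮.p.obj x)) b ∧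
      ∀ ⦃y : 𝒮.obj⦄ (φ ψ : y ⟶ x), P x f φ ψ → φ ≫ b = ψ := by
    intro x f
    refine glue_hom' h rfl rfl _ (J.pullback_stable f hR) (P x f) ?_ ?_ ?_ ?_
    · rintro y φ _ ⟨hg, rfl⟩ V k hk
      exact lift_id_comp (autO_lift' (obj_eq_of_lift_left hk) _) hk
    · intro V k hk
      obtain ⟨y, φ, hφ⟩ := exists_lift h.1 k x rfl
      obtain rfl : 𝒮.p.obj y = V := obj_eq_of_lift_left hφ
      obtain rfl : k = 𝒮.p.map φ := IsHomLift.eq_of_isHomLift 𝒮.p k φ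
      exact ⟨y, φ, _, hφ, hk, rfl⟩
    · rintro z y χ φ _ ⟨hg, rfl⟩
      have hg' : R (𝒮.p.map (χ ≫ φ) ≫ f) := by
        rw [Functor.map_comp, Category.assoc]; exact R.downward_closed hg _
      refine ⟨hg', ?_⟩
      rw [hσ' (𝒮.p.map φ ≫ f) (𝒮.p.map χ) _ hg hg' (by rw [Functor.map_comp, Category.assoc])]
      have := sec_nat (σ _ hg) χ (𝟙 _)
      rw [Category.comp_id] at this
      rw [Category.id_comp, ← Category.assoc, ← this, Category.assoc]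
    · rintro y φ _ _ ⟨hg, rfl⟩ ⟨hg', rfl⟩
      rfl
  choose b hb eb using key
  have hnat : IsNat 𝒮 (U := U) (fun x f => mkAut h.1 (b x f) (hb x f)) := by
    intro x' x m f
    change b x' (𝒮.p.map m ≫ f) ≫ m = m ≫ b x f
    refine glue_unique' h (𝒮.p.map m) _ _ (lift_id_comp (hb _ _) (IsHomLift.map 𝒮.p m))
      (lift_comp_id (IsHomLift.map 𝒮.p m) (hb x f)) _ (J.pullback_stable (𝒮.p.map m ≫ f) hR)
      fun V k hk => ?_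
    obtain ⟨y, φ, hφ⟩ := exists_lift h.1 k x' rfl
    obtain rfl : 𝒮.p.obj y = V := obj_eq_of_lift_left hφ
    obtain rfl : k = 𝒮.p.map φ := IsHomLift.eq_of_isHomLift 𝒮.p k φ
    refine ⟨y, φ, hφ, ?_⟩
    have h1 := eb x' (𝒮.p.map m ≫ f) φ _ ⟨hk, rfl⟩
    have hk' : R (𝒮.p.map (φ ≫ m) ≫ f) := by
      rw [Functor.map_comp, Category.assoc]; exact hk
    have h2 := eb x f (φ ≫ m) _ ⟨hk', rfl⟩
    rw [reassoc_of% h1, ← Category.assoc φ m, h2, hσ' _ (𝟙 _) _ hk hk' (by simp), Category.comp_id]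
  refine ⟨(⟨fun x f => mkAut h.1 (b x f) (hb x f), hnat⟩ : sec 𝒮 U), ?_, ?_⟩
  · intro V g hg
    change res g _ = σ g hg
    apply sec_ext
    intro x f
    change b x (f ≫ g) = _
    have hg' : R (𝒮.p.map (𝟙 x) ≫ f ≫ g) := by
      rw [CategoryTheory.Functor.map_id, Category.id_comp]; exact R.downward_closed hg f
    have h1 := eb x (f ≫ g) (𝟙 x) _ ⟨hg', rfl⟩
    rw [Category.id_comp, Category.comp_id] at h1
    rw [h1, hσ' g f _ hg hg' (by simp), Category.id_comp]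
  · intro t ht
    have ht' : ∀ ⦃V : C⦄ (g : V ⟶ U) (hg : R g), res g (t : sec 𝒮 U) = σ g hg := fun V g hg => ht g hg
    refine sep h R hR _ _ fun V g hg => ?_
    rw [ht' g hg]
    apply sec_ext
    intro x f
    change _ = b x (f ≫ g)
    have hg' : R (𝒮.p.map (𝟙 x) ≫ f ≫ g) := by
      rw [CategoryTheory.Functor.map_id, Category.id_comp]; exact R.downward_closed hg f
    have h1 := eb x (f ≫ g) (𝟙 x) _ ⟨hg', rfl⟩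
    rw [Category.id_comp, Category.comp_id] at h1
    rw [h1, hσ' g f _ hg hg' (by simp), Category.id_comp]

end sheaf

section banding

variable {𝒮 : BasedCategory.{v, max u v} C} (h : Stk.IsPrestack J 𝒮)
  (hg : Gerb.LocSurjHom J (FibCat.toSelf 𝒮))

/-- evaluation at an object -/
def ev (x : 𝒮.obj) : sec 𝒮 (𝒮.p.obj x) →* Gerb.AutO x where
  toFun α := α.1 x (𝟙 _)
  map_one' := rfl
  map_mul' _ _ := rfl

include h hg in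
theorem ev_injective (x : 𝒮.obj) : Function.Injective (ev x) := by
  rw [injective_iff_map_eq_one]
  intro α hα
  have hα' : (α.1 x (𝟙 _)).hom.1 = 𝟙 x := congrArg (fun t => t.hom.1) hα
  apply sec_ext
  intro y f
  change (α.1 y f).hom.1 = 𝟙 y
  obtain ⟨xf, ψ, hψ⟩ := exists_lift h.1 f x rfl
  obtain ⟨R, hR, hloc⟩ := Equiv.locSurjHom_toSelf_iff.1 hg _ y xf rfl (obj_eq_of_lift_left hψ)
  refine glue_unique h.1 (h.2 R hR) _ _ (autO_lift _) (IsHomLift.id rfl) fun V k hk => ?_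
  obtain ⟨w, φ, χ, hφ, hχ⟩ := hloc k hk
  obtain rfl : 𝒮.p.obj w = V := obj_eq_of_lift_left hφ
  obtain rfl : k = 𝒮.p.map φ := IsHomLift.eq_of_isHomLift 𝒮.p k φ
  refine ⟨w, φ, hφ, ?_⟩
  rw [← sec_nat, Category.comp_id]
  have hχψ : 𝒮.p.IsHomLift (𝒮.p.map φ ≫ f) (χ ≫ ψ) := lift_comp hχ hψ
  have e1 : 𝒮.p.map φ ≫ f = 𝒮.p.map (χ ≫ ψ) := IsHomLift.eq_of_isHomLift 𝒮.p _ (χ ≫ ψ)
  have e2 : (α.1 w (𝒮.p.map φ ≫ f)).hom.1 = 𝟙 w := by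
    refine hom_unique h.1 (𝟙 _) (𝒮.p.map φ ≫ f) (χ ≫ ψ) hχψ _ _ (autO_lift _) (IsHomLift.id rfl) ?_
    have := sec_nat α (χ ≫ ψ) (𝟙 _)
    rw [Category.comp_id, hα', Category.comp_id] at this
    rw [e1, this, Category.id_comp]
  rw [e2, Category.id_comp]

include h hg in
theorem ev_surjective (hcomm : ∀ (x : 𝒮.obj) (α β : Gerb.AutO x), α * β = β * α) (x : 𝒮.obj) :
    Function.Surjective (ev x) := by
  intro a
  let P : ∀ (y : 𝒮.obj) (f : 𝒮.p.obj y ⟶ 𝒮.p.obj x) ⦃w : 𝒮.obj⦄, (w ⟶ y) → (w ⟶ y) → Prop :=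
    fun y f w φ ψ => ∃ (χ : w ⟶ x) (b : w ⟶ w), 𝒮.p.map χ = 𝒮.p.map φ ≫ f ∧
      𝒮.p.IsHomLift (𝟙 (𝒮.p.obj w)) b ∧ b ≫ χ = χ ≫ a.hom.1 ∧ ψ = b ≫ φ
  have hexb : ∀ {w : 𝒮.obj} (χ : w ⟶ x), ∃ b : w ⟶ w, 𝒮.p.IsHomLift (𝟙 (𝒮.p.obj w)) b ∧
      b ≫ χ = χ ≫ a.hom.1 := fun {w} χ =>
    exists_fac h.1 (𝟙 _) (𝒮.p.map χ) χ (χ ≫ a.hom.1) (IsHomLift.map 𝒮.p χ)
      (lift_eq (lift_comp_id (IsHomLift.map 𝒮.p χ) (autO_lift a)) (Category.id_comp _).symm)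
  have huni : ∀ {w : 𝒮.obj} (χ χ' : w ⟶ x) (b b' : w ⟶ w), 𝒮.p.map χ = 𝒮.p.map χ' →
      𝒮.p.IsHomLift (𝟙 (𝒮.p.obj w)) b → 𝒮.p.IsHomLift (𝟙 (𝒮.p.obj w)) b' →
      b ≫ χ = χ ≫ a.hom.1 → b' ≫ χ' = χ' ≫ a.hom.1 → b = b' := by
    intro w χ χ' b b' e hb hb' eb eb'
    obtain ⟨δ, hδ, eδ⟩ := exists_fac h.1 (𝟙 _) (𝒮.p.map χ) χ χ' (IsHomLift.map 𝒮.p χ)
      (lift_eq (IsHomLift.map 𝒮.p χ') (by rw [e, Category.id_comp]))
    have h1 : b' ≫ δ = δ ≫ b := by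
      refine hom_unique h.1 (𝟙 _) (𝒮.p.map χ) χ (IsHomLift.map 𝒮.p χ) _ _
        (lift_id_comp hb' hδ) (lift_id_comp hδ hb) ?_
      rw [Category.assoc, Category.assoc, eδ, eb, reassoc_of% eδ, eb']
    have h2 := congrArg (fun t => t.hom.1) (hcomm w (mkAut h.1 δ hδ) (mkAut h.1 b' hb'))
    have h3 : b' ≫ δ = δ ≫ b' := h2
    have := isIso h.1 (𝟙 _) δ hδ
    exact ((cancel_epi δ).1 (h3.symm.trans h1)).symm
  have key : ∀ (y : 𝒮.obj) (f : 𝒮.p.obj y ⟶ 𝒮.p.obj x), ∃ b : y ⟶ y,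
      𝒮.p.IsHomLift (𝟙 (𝒮.p.obj y)) b ∧ ∀ ⦃w : 𝒮.obj⦄ (φ ψ : w ⟶ y), P y f φ ψ → φ ≫ b = ψ := by
    intro y f
    obtain ⟨xf, ψ₀, hψ₀⟩ := exists_lift h.1 f x rfl
    obtain ⟨R, hR, hloc⟩ := Equiv.locSurjHom_toSelf_iff.1 hg _ y xf rfl (obj_eq_of_lift_left hψ₀)
    refine glue_hom' h rfl rfl R hR (P y f) ?_ ?_ ?_ ?_
    · rintro w φ _ ⟨χ, b, -, hb, -, rfl⟩ V k hk
      obtain rfl : 𝒮.p.obj w = V := obj_eq_of_lift_left hk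
      exact lift_id_comp hb hk
    · intro V k hk
      obtain ⟨w, φ, χ, hφ, hχ⟩ := hloc k hk
      obtain rfl : 𝒮.p.obj w = V := obj_eq_of_lift_left hφ
      obtain rfl : k = 𝒮.p.map φ := IsHomLift.eq_of_isHomLift 𝒮.p k φ
      have hχψ : 𝒮.p.IsHomLift (𝒮.p.map φ ≫ f) (χ ≫ ψ₀) := lift_comp hχ hψ₀
      have e1 : 𝒮.p.map φ ≫ f = 𝒮.p.map (χ ≫ ψ₀) := IsHomLift.eq_of_isHomLift 𝒮.p _ (χ ≫ ψ₀)
      obtain ⟨b, hb, eb⟩ := hexb (χ ≫ ψ₀)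
      exact ⟨w, φ, _, hφ, χ ≫ ψ₀, b, e1.symm, hb, eb, rfl⟩
    · rintro z w k φ _ ⟨χ, b, e1, hb, eb, rfl⟩
      obtain ⟨b', hb', eb'⟩ := exists_fac h.1 (𝟙 _) (𝒮.p.map k) k (k ≫ b) (IsHomLift.map 𝒮.p k)
        (lift_eq (lift_comp_id (IsHomLift.map 𝒮.p k) hb) (Category.id_comp _).symm)
      refine ⟨k ≫ χ, b', by rw [Functor.map_comp, Functor.map_comp, e1, Category.assoc], hb', ?_, ?_⟩
      · rw [reassoc_of% eb', eb, Category.assoc]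
      · rw [reassoc_of% eb']
    · rintro w φ _ _ ⟨χ, b, e1, hb, eb, rfl⟩ ⟨χ', b', e1', hb', eb', rfl⟩
      rw [huni χ χ' b b' (e1.trans e1'.symm) hb hb' eb eb']
  choose b hb eb using key
  have hnat : IsNat 𝒮 (U := 𝒮.p.obj x) (fun y f => mkAut h.1 (b y f) (hb y f)) := by
    intro y' y m f
    change b y' (𝒮.p.map m ≫ f) ≫ m = m ≫ b y f
    obtain ⟨xf, ψ₀, hψ₀⟩ := exists_lift h.1 (𝒮.p.map m ≫ f) x rfl
    obtain ⟨R, hR, hloc⟩ := Equiv.locSurjHom_toSelf_iff.1 hg _ y' xf rfl (obj_eq_of_lift_left hψ₀)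
    refine glue_unique' h (𝒮.p.map m) _ _ (lift_id_comp (hb _ _) (IsHomLift.map 𝒮.p m))
      (lift_comp_id (IsHomLift.map 𝒮.p m) (hb y f)) R hR fun V k hk => ?_
    obtain ⟨w, φ, χ, hφ, hχ⟩ := hloc k hk
    obtain rfl : 𝒮.p.obj w = V := obj_eq_of_lift_left hφ
    obtain rfl : k = 𝒮.p.map φ := IsHomLift.eq_of_isHomLift 𝒮.p k φ
    have hχψ : 𝒮.p.IsHomLift (𝒮.p.map φ ≫ 𝒮.p.map m ≫ f) (χ ≫ ψ₀) := lift_comp hχ hψ₀
    have e1 : 𝒮.p.map φ ≫ 𝒮.p.map m ≫ f = 𝒮.p.map (χ ≫ ψ₀) :=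
      IsHomLift.eq_of_isHomLift 𝒮.p _ (χ ≫ ψ₀)
    obtain ⟨c, hc, ec⟩ := hexb (χ ≫ ψ₀)
    refine ⟨w, φ, hφ, ?_⟩
    have h1 := eb y' (𝒮.p.map m ≫ f) φ _ ⟨χ ≫ ψ₀, c, e1.symm, hc, ec, rfl⟩
    have h2 := eb y f (φ ≫ m) _ ⟨χ ≫ ψ₀, c, by rw [← e1, Functor.map_comp, Category.assoc], hc, ec, rfl⟩
    rw [reassoc_of% h1, ← Category.assoc φ m, h2]
  refine ⟨⟨fun y f => mkAut h.1 (b y f) (hb y f), hnat⟩, ?_⟩
  apply autO_ext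
  change b x (𝟙 _) = a.hom.1
  have h1 := eb x (𝟙 _) (𝟙 x) _ ⟨𝟙 x, a.hom.1, by simp, autO_lift a, by simp, rfl⟩
  rw [Category.id_comp, Category.comp_id] at h1
  exact h1

/-- the banding -/
noncomputable def banding (hcomm : ∀ (x : 𝒮.obj) (α β : Gerb.AutO x), α * β = β * α) :
    Gerb.Banding 𝒮 (psh 𝒮) where
  iso x := MulEquiv.ofBijective (ev x) ⟨ev_injective h hg x, ev_surjective h hg hcomm x⟩
  natural {x' x} φ a := by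
    change ((a : sec 𝒮 (𝒮.p.obj x)).1 x' (𝟙 _ ≫ 𝒮.p.map φ)).hom.1 ≫ φ =
      φ ≫ ((a : sec 𝒮 (𝒮.p.obj x)).1 x (𝟙 _)).hom.1
    have := sec_nat a φ (𝟙 _)
    rw [Category.comp_id] at this
    rw [Category.id_comp, this]

end banding

end K895.Band
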