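import Groth.Prelude.Def_AlgSt6
import Groth.Prelude.Def_StGerb
import Groth.Agent.AlgSp.K615.Pt

/-!
# Group objects of `Over B` from groups of points (helper895)

`B` a sheaf over `S`.  For `s : (AlgSt.ofSp B).obj` write `hh s : Over B` for `h_T ⟶ B`.  A sheaf `G` over `B` whose sets of
points `hh s ⟶ G` carry groups `A s`, compatibly with restriction, is a group object (`exists_grpObj`).
-/

set_option autoImplicit false
set_option backward.isDefEq.respectTransparency false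
set_option backward.isDefEq.respectTransparency.types false

universe w v u

open CategoryTheory CategoryTheory.Limits MonoidalCategory CartesianMonoidalCategory MonObj GrpObj AlgebraicGeometry
open Opposite AlgSp

namespace K895.GrpSh

variable {S : Scheme.{u}} {B : Sp S}

/-- The map `h_T ⟶ B` of a section of `B` over `T`. -/
noncomputable abbrev sy (s : (AlgSt.ofSp B).obj) : (yon S).obj s.base ⟶ B :=
  ((J S).uliftYonedaEquiv).symm s.sec

theorem sy_comp {s s' : (AlgSt.ofSp B).obj} (σ : s ⟶ s') : (yon S).map σ.hom ≫ sy s' = sy s := by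
  change (J S).uliftYoneda.map σ.hom ≫ ((J S).uliftYonedaEquiv).symm s'.sec = _
  rw [GrothendieckTopology.uliftYonedaEquiv_symm_naturality_left, σ.map_sec]

/-- `h_T` over `B`. -/
noncomputable abbrev hh (s : (AlgSt.ofSp B).obj) : Over B := Over.mk (sy s)

/-- the map of a morphism of sections -/
noncomputable abbrev hmap {s s' : (AlgSt.ofSp B).obj} (σ : s ⟶ s') : hh s ⟶ hh s' :=
  AlgSt.bHom σ.hom (sy_comp σ)

theorem hmap_id (s : (AlgSt.ofSp B).obj) : hmap (𝟙 s) = 𝟙 (hh s) := AlgSt.bHom_id _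

theorem hmap_comp {s s' s'' : (AlgSt.ofSp B).obj} (σ : s ⟶ s') (τ : s' ⟶ s'') :
    hmap (σ ≫ τ) = hmap σ ≫ hmap τ := AlgSt.bHom_comp _ _ _ _ _

/-- the object of `ofSp B` under a point of `P` -/
noncomputable abbrev ob (P : Over B) {T : Over S} (x : (yon S).obj T ⟶ P.left) : (AlgSt.ofSp B).obj :=
  ⟨T, (J S).uliftYonedaEquiv (x ≫ P.hom)⟩

/-- the point as a morphism over `B` -/
noncomputable abbrev kk (P : Over B) {T : Over S} (x : (yon S).obj T ⟶ P.left) : hh (ob P x) ⟶ P :=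
  Over.homMk x (((J S).uliftYonedaEquiv.symm_apply_apply (x ≫ P.hom)).symm)

/-- restriction of `ob` -/
noncomputable abbrev obMap (P : Over B) {T T' : Over S} (g : T' ⟶ T) (x : (yon S).obj T ⟶ P.left) :
    ob P ((yon S).map g ≫ x) ⟶ ob P x :=
  ⟨g, by
    change B.obj.map g.op ((J S).uliftYonedaEquiv (x ≫ P.hom)) = (J S).uliftYonedaEquiv (((yon S).map g ≫ x) ≫ P.hom)
    rw [Category.assoc]
    exact GrothendieckTopology.uliftYonedaEquiv_naturality _ _ _⟩

theorem hmap_obMap (P : Over B) {T T' : Over S} (g : T' ⟶ T) (x : (yon S).obj T ⟶ P.left) :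
    hmap (obMap P g x) ≫ kk P x = kk P ((yon S).map g ≫ x) := by
  ext : 1
  rfl

/-- a section and the object of its point -/
noncomputable abbrev toOb {P : Over B} {s : (AlgSt.ofSp B).obj} (k : hh s ⟶ P) : s ⟶ ob P k.left :=
  ⟨𝟙 _, by
    change B.obj.map (𝟙 _) ((J S).uliftYonedaEquiv (k.left ≫ P.hom)) = s.sec
    have h : k.left ≫ P.hom = sy s := Over.w k
    rw [h, Equiv.apply_symm_apply, B.obj.map_id]
    rfl⟩

theorem hmap_toOb {P : Over B} {s : (AlgSt.ofSp B).obj} (k : hh s ⟶ P) : hmap (toOb k) ≫ kk P k.left = k := by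
  ext : 1
  change (yon S).map (𝟙 _) ≫ k.left = k.left
  rw [(yon S).map_id, Category.id_comp]

theorem hom_ext {P Q : Over B} {m m' : P ⟶ Q} (h : ∀ (s : (AlgSt.ofSp B).obj) (k : hh s ⟶ P), k ≫ m = k ≫ m') :
    m = m' := by
  ext : 1
  apply K615.Pt.hom_ext
  intro T x
  exact congrArg (fun k => k.left) (h _ (kk P x))

theorem exists_hom {P Q : Over B} (φ : ∀ s : (AlgSt.ofSp B).obj, (hh s ⟶ P) → (hh s ⟶ Q))
    (hφ : ∀ {s s' : (AlgSt.ofSp B).obj} (σ : s ⟶ s') (k : hh s' ⟶ P), φ s (hmap σ ≫ k) = hmap σ ≫ φ s' k) :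
    ∃ m : P ⟶ Q, ∀ (s : (AlgSt.ofSp B).obj) (k : hh s ⟶ P), k ≫ m = φ s k := by
  let ψ : ∀ T : Over S, ((yon S).obj T ⟶ P.left) → ((yon S).obj T ⟶ Q.left) := fun T x => (φ _ (kk P x)).left
  have hψ : ∀ (T T' : Over S) (g : T' ⟶ T) (x : (yon S).obj T ⟶ P.left),
      ψ T' ((yon S).map g ≫ x) = (yon S).map g ≫ ψ T x := by
    intro T T' g x
    change (φ _ (kk P ((yon S).map g ≫ x))).left = _
    rw [← hmap_obMap, hφ]
    rfl
  have key : ∀ {T : Over S} (x : (yon S).obj T ⟶ P.left), x ≫ K615.Pt.homOfPt ψ hψ = ψ T x := fun x =>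
    K615.Pt.comp_homOfPt ψ hψ _ x
  refine ⟨Over.homMk (K615.Pt.homOfPt ψ hψ) ?_, ?_⟩
  · apply K615.Pt.hom_ext
    intro T x
    rw [← Category.assoc, key]
    have h1 : (φ _ (kk P x)).left ≫ Q.hom = sy (ob P x) := Over.w _
    have h2 : x ≫ P.hom = sy (ob P x) := Over.w (kk P x)
    exact h1.trans h2.symm
  · intro s k
    ext : 1
    change k.left ≫ K615.Pt.homOfPt ψ hψ = _
    rw [key]
    change (φ _ (kk P k.left)).left = _
    conv_rhs => rw [← hmap_toOb k, hφ]
    change _ = (yon S).map (𝟙 _) ≫ _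
    rw [(yon S).map_id, Category.id_comp]

section Grp

variable (A : (AlgSt.ofSp B).obj → Type w) [∀ s, Group (A s)]
  (res : ∀ {s s' : (AlgSt.ofSp B).obj} (_ : s ⟶ s'), A s' →* A s)

/-- natural families of elements of `A` over the points of `P` -/
noncomputable def fam (P : Over B) : Subgroup (∀ (s : (AlgSt.ofSp B).obj) (_ : hh s ⟶ P), A s) where
  carrier := {α | ∀ {s s' : (AlgSt.ofSp B).obj} (σ : s ⟶ s') (k : hh s' ⟶ P), α s (hmap σ ≫ k) = res σ (α s' k)}
  one_mem' := fun {s s'} σ k => (map_one (res σ)).symm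
  mul_mem' := by
    intro α β hα hβ s s' σ k
    change α s (hmap σ ≫ k) * β s (hmap σ ≫ k) = res σ (α s' k * β s' k)
    rw [map_mul, hα σ k, hβ σ k]
  inv_mem' := by
    intro α hα s s' σ k
    change (α s (hmap σ ≫ k))⁻¹ = res σ (α s' k)⁻¹
    rw [map_inv, hα σ k]

/-- restriction of families -/
noncomputable def famMap {P Q : Over B} (m : P ⟶ Q) : fam A res Q →* fam A res P where
  toFun α := ⟨fun s k => α.1 s (k ≫ m), fun {s s'} σ k => by
    change α.1 s ((hmap σ ≫ k) ≫ m) = res σ (α.1 s' (k ≫ m))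
    rw [Category.assoc]
    exact α.2 σ (k ≫ m)⟩
  map_one' := rfl
  map_mul' _ _ := rfl

/-- the presheaf of families -/
noncomputable def famF : (Over B)ᵒᵖ ⥤ GrpCat.{max (u + 1) w} where
  obj P := GrpCat.of (fam A res P.unop)
  map m := GrpCat.ofHom (famMap A res m.unop)
  map_id P := by
    ext α s k
    change α.1 s (k ≫ 𝟙 _) = α.1 s k
    rw [Category.comp_id]
  map_comp {P Q R} m n := by
    ext α s k
    change α.1 s (k ≫ n.unop ≫ m.unop) = α.1 s ((k ≫ n.unop) ≫ m.unop)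
    rw [Category.assoc]

variable {A res} {G : Over B} (ρ : ∀ s : (AlgSt.ofSp B).obj, (hh s ⟶ G) ≃ A s)
  (hρ : ∀ {s s' : (AlgSt.ofSp B).obj} (σ : s ⟶ s') (k : hh s' ⟶ G), ρ s (hmap σ ≫ k) = res σ (ρ s' k))

include hρ in
theorem exists_inv {P : Over B} (α : fam A res P) :
    ∃ m : P ⟶ G, ∀ (s : (AlgSt.ofSp B).obj) (k : hh s ⟶ P), k ≫ m = (ρ s).symm (α.1 s k) := by
  refine exists_hom (fun s k => (ρ s).symm (α.1 s k)) ?_
  intro s s' σ k
  apply (ρ s).injective
  rw [Equiv.apply_symm_apply, hρ, Equiv.apply_symm_apply]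
  exact α.2 σ k

/-- families and maps to `G` -/
noncomputable def homEq (P : Over B) : (P ⟶ G) ≃ fam A res P where
  toFun m := ⟨fun s k => ρ s (k ≫ m), fun {s s'} σ k => by
    change ρ s ((hmap σ ≫ k) ≫ m) = res σ (ρ s' (k ≫ m))
    rw [Category.assoc]
    exact hρ σ (k ≫ m)⟩
  invFun α := (exists_inv ρ hρ α).choose
  left_inv m := by
    apply hom_ext
    intro s k
    rw [(exists_inv ρ hρ _).choose_spec]
    change (ρ s).symm (ρ s (k ≫ m)) = _
    rw [Equiv.symm_apply_apply]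
  right_inv α := by
    apply Subtype.ext
    funext s k
    change ρ s (k ≫ (exists_inv ρ hρ _).choose) = _
    rw [(exists_inv ρ hρ _).choose_spec, Equiv.apply_symm_apply]

/-- `G` represents families -/
noncomputable def rep : (famF A res ⋙ forget GrpCat).RepresentableBy G where
  homEquiv {P} := homEq ρ hρ P
  homEquiv_comp {P Q} m g := by
    apply Subtype.ext
    funext s k
    change ρ s (k ≫ m ≫ g) = ρ s ((k ≫ m) ≫ g)
    rw [Category.assoc]

include hρ in
theorem exists_grpObj : ∃ _ : GrpObj G, ∀ (s : (AlgSt.ofSp B).obj) (k k' : hh s ⟶ G), ρ s (k * k') = ρ s k * ρ s k' := by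
  let _ := GrpObj.ofRepresentableBy G (famF A res) (rep ρ hρ)
  refine ⟨GrpObj.ofRepresentableBy G (famF A res) (rep ρ hρ), fun s k k' => ?_⟩
  have h : (rep ρ hρ).homEquiv' (k * k') = (rep ρ hρ).homEquiv' k * (rep ρ hρ).homEquiv' k' := by
    change (rep ρ hρ).homEquiv' (lift k k' ≫ (rep ρ hρ).homEquiv'.symm ((rep ρ hρ).homEquiv' (fst G G) *
      (rep ρ hρ).homEquiv' (snd G G))) = (rep ρ hρ).homEquiv' k * (rep ρ hρ).homEquiv' k'
    simp only [(rep ρ hρ).homEquiv'_comp, Equiv.apply_symm_apply, map_mul]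
    simp only [← (rep ρ hρ).homEquiv'_comp]
    simp
  have h2 := congrFun (congrFun (congrArg Subtype.val h) s) (𝟙 _)
  change ρ s (𝟙 _ ≫ (k * k')) = ρ s (𝟙 _ ≫ k) * ρ s (𝟙 _ ≫ k') at h2
  rw [Category.id_comp, Category.id_comp, Category.id_comp] at h2
  exact h2

end Grp

end K895.GrpSh
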