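import Groth.Prelude.Def_StGerb
import Groth.Agent.Gerb.K895.Glue

/-!
# Formal properties of gerbes (helper895): base change, composition, descent of `IsGerbeOver`, invariance under equivalence.
All universes arbitrary; only "fibred in groupoids" is used.
-/

set_option autoImplicit false
set_option backward.isDefEq.respectTransparency false
set_option backward.isDefEq.respectTransparency.types false

universe v₅ u₅ v₄ u₄ v₃ u₃ v₂ u₂ v u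

open CategoryTheory K895.Fib K895.Glue

namespace K895.Over

variable {C : Type u} [Category.{v} C] (J : GrothendieckTopology C)

section comp

variable {𝒳 : BasedCategory.{v₂, u₂} C} {𝒴 : BasedCategory.{v₃, u₃} C} {𝒵 : BasedCategory.{v₄, u₄} C}
  (F : 𝒳 ⥤ᵇ 𝒴) (G : 𝒴 ⥤ᵇ 𝒵)

variable {J}

/-- version of local surjectivity on objects with free base object -/
theorem locSurjObj_at {F : 𝒳 ⥤ᵇ 𝒴} (hF : Gerb.LocSurjObj J F) {U : C} (y : 𝒴.obj) (hy : 𝒴.p.obj y = U) :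
    ∃ R ∈ J U, ∀ ⦃V : C⦄ (f : V ⟶ U), R f →
      ∃ (x : 𝒳.obj) (g : F.obj x ⟶ y), 𝒴.p.IsHomLift f g := by
  subst hy; exact hF y

/-- version of local surjectivity on morphisms with free base object -/
theorem locSurjHom_at {F : 𝒳 ⥤ᵇ 𝒴} (hF : Gerb.LocSurjHom J F) {U : C} (x x' : 𝒳.obj)
    (b : F.obj x ⟶ F.obj x') (hx : 𝒳.p.obj x = U) (hb : 𝒴.p.IsHomLift (𝟙 U) b) :
    ∃ R ∈ J U, ∀ ⦃V : C⦄ (f : V ⟶ U), R f →
      ∃ (x₀ : 𝒳.obj) (φ : x₀ ⟶ x) (ψ : x₀ ⟶ x'),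
        𝒳.p.IsHomLift f φ ∧ 𝒳.p.IsHomLift f ψ ∧ F.map φ ≫ b = F.map ψ := by
  subst hx; exact hF x x' b hb

theorem locSurjObj_comp {F : 𝒳 ⥤ᵇ 𝒴} {G : 𝒴 ⥤ᵇ 𝒵} (hF : Gerb.LocSurjObj J F)
    (hG : Gerb.LocSurjObj J G) : Gerb.LocSurjObj J (BasedFunctor.comp F G) := by
  intro z
  obtain ⟨R, hR, h⟩ := hG z
  choose y g hg using h
  have hy : ∀ ⦃V : C⦄ (f : V ⟶ 𝒵.p.obj z) (hf : R f), 𝒴.p.obj (y f hf) = V := fun V f hf =>
    (G.w_obj _).symm.trans (obj_eq_of_lift_left (hg f hf))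
  choose R' hR' h' using fun ⦃V : C⦄ (f : V ⟶ 𝒵.p.obj z) (hf : R f) =>
    locSurjObj_at hF (y f hf) (hy f hf)
  refine ⟨Sieve.bind R.arrows R', J.bind_covering hR (fun {V} f hf => hR' f hf), ?_⟩
  rintro W _ ⟨V, k, f, hf, hk, rfl⟩
  obtain ⟨x, φ, hφ⟩ := h' f hf k hk
  exact ⟨x, G.map φ ≫ g f hf, lift_comp (lift_map G hφ) (hg f hf)⟩

theorem locSurjHom_comp (h𝒳 : FibCat.IsFibGrpd 𝒳.p) (h𝒴 : FibCat.IsFibGrpd 𝒴.p)
    {F : 𝒳 ⥤ᵇ 𝒴} {G : 𝒴 ⥤ᵇ 𝒵} (hF : Gerb.LocSurjHom J F)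
    (hG : Gerb.LocSurjHom J G) : Gerb.LocSurjHom J (BasedFunctor.comp F G) := by
  intro x x' b hb
  obtain ⟨R, hR, h⟩ := locSurjHom_at hG (F.obj x) (F.obj x') b (F.w_obj x) hb
  have hx' : 𝒳.p.obj x' = 𝒳.p.obj x :=
    ((F.w_obj x').symm.trans (G.w_obj _).symm).trans (obj_eq_of_lift_right hb)
  have key : ∀ ⦃V : C⦄ (f : V ⟶ 𝒳.p.obj x), R f → ∃ R' ∈ J V, ∀ ⦃W : C⦄ (k : W ⟶ V), R' k →
      ∃ (x₀ : 𝒳.obj) (φ : x₀ ⟶ x) (ψ : x₀ ⟶ x'),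
        𝒳.p.IsHomLift (k ≫ f) φ ∧ 𝒳.p.IsHomLift (k ≫ f) ψ ∧
          G.map (F.map φ) ≫ b = G.map (F.map ψ) := by
    intro V f hf
    obtain ⟨y₀, φ, ψ, hφ, hψ, e⟩ := h f hf
    obtain ⟨x₁, φ₁, hφ₁⟩ := exists_lift h𝒳 f x rfl
    obtain ⟨x₂, φ₂, hφ₂⟩ := exists_lift h𝒳 f x' hx'
    obtain ⟨c₁, -, hc₁, -, ec₁⟩ := exists_iso h𝒴 f φ (F.map φ₁) hφ (lift_map F hφ₁)
    obtain ⟨c₂, -, hc₂, -, ec₂⟩ := exists_iso h𝒴 f (F.map φ₂) ψ (lift_map F hφ₂) hψ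
    -- c₁ : F x₁ ≅ y₀, c₂ : y₀ ≅ F x₂
    obtain ⟨c₁', hc₁', -, ec₁', -⟩ := exists_iso h𝒴 f φ (F.map φ₁) hφ (lift_map F hφ₁)
    obtain ⟨c₂', hc₂', -, ec₂', -⟩ := exists_iso h𝒴 f (F.map φ₂) ψ (lift_map F hφ₂) hψ
    obtain ⟨R', hR', h'⟩ := locSurjHom_at hF x₁ x₂ (c₁'.hom ≫ c₂'.hom)
      (obj_eq_of_lift_left hφ₁) (lift_id_comp hc₁' hc₂')
    refine ⟨R', hR', fun W k hk => ?_⟩
    obtain ⟨x₀, α, β, hα, hβ, e'⟩ := h' k hk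
    refine ⟨x₀, α ≫ φ₁, β ≫ φ₂, lift_comp hα hφ₁, lift_comp hβ hφ₂, ?_⟩
    have e1 : F.map (β ≫ φ₂) = F.map α ≫ c₁'.hom ≫ ψ := by
      rw [F.toFunctor.map_comp, ← e', Category.assoc, Category.assoc, ec₂']
    have e2 : F.map (α ≫ φ₁) = F.map α ≫ c₁'.hom ≫ φ := by
      rw [F.toFunctor.map_comp, ec₁']
    rw [e1, e2, G.toFunctor.map_comp, G.toFunctor.map_comp, G.toFunctor.map_comp, G.toFunctor.map_comp,
      Category.assoc, Category.assoc, e]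
  choose! R' hR' h' using key
  refine ⟨Sieve.bind R.arrows (fun V f _ => R' f), J.bind_covering hR (fun {V} f hf => hR' f hf), ?_⟩
  rintro W _ ⟨V, k, f, hf, hk, rfl⟩
  exact h' f hf k hk

theorem isGerbeOver_comp (h𝒳 : FibCat.IsFibGrpd 𝒳.p) (h𝒴 : FibCat.IsFibGrpd 𝒴.p)
    {F : 𝒳 ⥤ᵇ 𝒴} {G : 𝒴 ⥤ᵇ 𝒵} (hF : Gerb.IsGerbeOver J F)
    (hG : Gerb.IsGerbeOver J G) : Gerb.IsGerbeOver J (BasedFunctor.comp F G) :=
  ⟨locSurjObj_comp hF.1 hG.1, locSurjHom_comp h𝒳 h𝒴 hF.2 hG.2⟩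

end comp

section square

variable {𝒳 : BasedCategory.{v₂, u₂} C} {𝒴 : BasedCategory.{v₃, u₃} C} {𝒳' : BasedCategory.{v₄, u₄} C}
  {𝒴' : BasedCategory.{v₅, u₅} C}
  {F : 𝒳 ⥤ᵇ 𝒴} {G : 𝒴' ⥤ᵇ 𝒴} {F' : 𝒳' ⥤ᵇ 𝒴'} {G' : 𝒳' ⥤ᵇ 𝒳}
  (e : BasedFunctor.comp F' G ≅ BasedFunctor.comp G' F)

/-- the elementary content of a 2-cartesian square: objects -/
theorem square_obj (hc : FibCat.IsTwoCartOver F' G' e) {U : C} (y' : 𝒴'.obj) (x : 𝒳.obj)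
    (i : G.obj y' ≅ F.obj x) (hy : 𝒴'.p.obj y' = U)
    (hi : 𝒴.p.IsHomLift (𝟙 U) i.hom) :
    ∃ (w : 𝒳'.obj) (a : F'.obj w ≅ y') (b : G'.obj w ≅ x), 𝒳'.p.obj w = U ∧
      𝒴'.p.IsHomLift (𝟙 U) a.hom ∧ 𝒳.p.IsHomLift (𝟙 U) b.hom ∧
      G.map a.hom ≫ i.hom = (appIso e w).hom ≫ F.map b.hom := by
  subst hy
  obtain ⟨-, -, hs⟩ := IsEquivOver.elim hc
  let o : (FibCat.fp G F).obj := ⟨{ fst := y', snd := x, iso := i }, hi⟩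
  obtain ⟨w, c, hc', hw⟩ := hs o
  have hw' : 𝒳'.p.obj w = 𝒴'.p.obj y' := hw
  refine ⟨w, ⟨c.hom.hom.fst, c.inv.hom.fst, ?_, ?_⟩, ⟨c.hom.hom.snd, c.inv.hom.snd, ?_, ?_⟩, hw', ?_, ?_, ?_⟩
  · exact congrArg (fun t => t.hom.fst) c.hom_inv_id
  · exact congrArg (fun t => t.hom.fst) c.inv_hom_id
  · exact congrArg (fun t => t.hom.snd) c.hom_inv_id
  · exact congrArg (fun t => t.hom.snd) c.inv_hom_id
  · exact lift_map (FibCat.fpFst G F) hc'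
  · exact lift_map (FibCat.fpSnd G F) hc'
  · exact c.hom.hom.w

/-- the elementary content of a 2-cartesian square: morphisms -/
theorem square_hom (hc : FibCat.IsTwoCartOver F' G' e) {w w' : 𝒳'.obj} {U V : C} (f : V ⟶ U)
    (a : F'.obj w ⟶ F'.obj w') (b : G'.obj w ⟶ G'.obj w')
    (ha : 𝒴'.p.IsHomLift f a)
    (h : G.map a ≫ (appIso e w').hom = (appIso e w).hom ≫ F.map b) :
    ∃ c : w ⟶ w', 𝒳'.p.IsHomLift f c ∧ F'.map c = a ∧ G'.map c = b := by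
  obtain ⟨hfull, -, -⟩ := IsEquivOver.elim hc
  let m : (FibCat.fpLift F' G' e).obj w ⟶ (FibCat.fpLift F' G' e).obj w' :=
    ObjectProperty.homMk { fst := a, snd := b, w := h }
  obtain ⟨c, hc⟩ := (FibCat.fpLift F' G' e).toFunctor.map_surjective m
  have h1 : F'.map c = a := congrArg (fun t => t.hom.fst) hc
  have h2 : G'.map c = b := congrArg (fun t => t.hom.snd) hc
  refine ⟨c, ?_, h1, h2⟩
  apply lift_of_map F'
  rw [h1]; exact ha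

variable {J}

theorem isGerbeOver_of_square (h𝒴 : FibCat.IsFibGrpd 𝒴.p)
    (h𝒳' : FibCat.IsFibGrpd 𝒳'.p) (h𝒴' : FibCat.IsFibGrpd 𝒴'.p)
    (hc : FibCat.IsTwoCartOver F' G' e) (hF : Gerb.IsGerbeOver J F) : Gerb.IsGerbeOver J F' := by
  constructor
  · intro y'
    obtain ⟨R, hR, h⟩ := locSurjObj_at hF.1 (U := 𝒴'.p.obj y') (G.obj y') (G.w_obj y')
    refine ⟨R, hR, fun V f hf => ?_⟩
    obtain ⟨x, g, hg⟩ := h f hf
    obtain ⟨y₁, φ, hφ⟩ := exists_lift h𝒴' f y' rfl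
    obtain ⟨c, hc₁, -, -, -⟩ := exists_iso h𝒴 f g (G.map φ) hg (lift_map G hφ)
    obtain ⟨w, a, b, -, ha, hb, -⟩ := square_obj e hc y₁ x c (obj_eq_of_lift_left hφ) hc₁
    exact ⟨w, a.hom ≫ φ, lift_id_comp ha hφ⟩
  · intro x₁ x₂ b hb
    have hx₂ : 𝒳'.p.obj x₂ = 𝒳'.p.obj x₁ := (F'.w_obj x₂).symm.trans (obj_eq_of_lift_right hb)
    let b₁ : F.obj (G'.obj x₁) ⟶ F.obj (G'.obj x₂) :=
      (appIso e x₁).inv ≫ G.map b ≫ (appIso e x₂).hom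
    have hb₁ : 𝒴.p.IsHomLift (𝟙 (𝒳'.p.obj x₁)) b₁ :=
      lift_id_comp (appIso_inv_lift e rfl) (lift_id_comp (lift_map G hb) (appIso_hom_lift e hx₂))
    obtain ⟨R, hR, h⟩ := locSurjHom_at hF.2 (U := 𝒳'.p.obj x₁) (G'.obj x₁) (G'.obj x₂) b₁
      (G'.w_obj x₁) hb₁
    refine ⟨R, hR, fun V f hf => ?_⟩
    obtain ⟨x₀, φ, ψ, hφ, hψ, e₀⟩ := h f hf
    obtain ⟨x₁', χ, hχ⟩ := exists_lift h𝒳' f x₁ rfl
    obtain ⟨c, hc₁, -, ec, -⟩ := exists_iso h𝒴 f (F.map φ) (G.map (F'.map χ) ≫ (appIso e x₁).hom)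
      (lift_map F hφ) (lift_comp_id (lift_map G (lift_map F' hχ)) (appIso_hom_lift e rfl))
    obtain ⟨w, a, b', -, ha, hb', e'⟩ := square_obj e hc (F'.obj x₁') x₀ c
      ((F'.w_obj x₁').trans (obj_eq_of_lift_left hχ)) hc₁
    obtain ⟨φ', hφ', eφ', -⟩ := square_hom e hc (w := w) (w' := x₁) f (a.hom ≫ F'.map χ) (b'.hom ≫ φ)
      (lift_id_comp ha (lift_map F' hχ)) (by
        rw [G.toFunctor.map_comp, F.toFunctor.map_comp, Category.assoc, ← ec, reassoc_of% e'])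
    obtain ⟨ψ', hψ', eψ', -⟩ := square_hom e hc (w := w) (w' := x₂) f (a.hom ≫ F'.map χ ≫ b)
      (b'.hom ≫ ψ) (lift_id_comp ha (lift_comp_id (lift_map F' hχ) hb)) (by
        have : G.map b ≫ (appIso e x₂).hom = (appIso e x₁).hom ≫ b₁ := by simp [b₁]
        rw [G.toFunctor.map_comp, G.toFunctor.map_comp, F.toFunctor.map_comp, Category.assoc,
          Category.assoc, this, ← e₀, ← reassoc_of% ec, reassoc_of% e'])
    exact ⟨w, φ', ψ', hφ', hψ', by rw [eφ', eψ', Category.assoc]⟩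

theorem isGerbeOver_of_square_of_locSurjObj (h𝒳 : FibCat.IsFibGrpd 𝒳.p) (h𝒴 : FibCat.IsFibGrpd 𝒴.p)
    (h𝒳' : FibCat.IsFibGrpd 𝒳'.p) (h𝒴' : FibCat.IsFibGrpd 𝒴'.p)
    (hc : FibCat.IsTwoCartOver F' G' e) (hG : Gerb.LocSurjObj J G)
    (hF' : Gerb.IsGerbeOver J F') : Gerb.IsGerbeOver J F := by
  constructor
  · intro y
    have h1 : Gerb.LocSurjObj J (BasedFunctor.comp F' G) := locSurjObj_comp hF'.1 hG
    obtain ⟨R, hR, h⟩ := h1 y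
    refine ⟨R, hR, fun V f hf => ?_⟩
    obtain ⟨w, g, hg⟩ := h f hf
    refine ⟨G'.obj w, (appIso e w).inv ≫ g, lift_id_comp (appIso_inv_lift e ?_) hg⟩
    exact ((BasedFunctor.comp F' G).w_obj w).symm.trans (obj_eq_of_lift_left hg)
  · intro x₁ x₂ b hb
    have hx₂ : 𝒳.p.obj x₂ = 𝒳.p.obj x₁ := (F.w_obj x₂).symm.trans (obj_eq_of_lift_right hb)
    obtain ⟨R, hR, h⟩ := locSurjObj_at hG (U := 𝒳.p.obj x₁) (F.obj x₁) (F.w_obj x₁)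
    have key : ∀ ⦃V : C⦄ (f : V ⟶ 𝒳.p.obj x₁), R f → ∃ R' ∈ J V, ∀ ⦃W : C⦄ (k : W ⟶ V), R' k →
        ∃ (x₀ : 𝒳.obj) (φ : x₀ ⟶ x₁) (ψ : x₀ ⟶ x₂),
          𝒳.p.IsHomLift (k ≫ f) φ ∧ 𝒳.p.IsHomLift (k ≫ f) ψ ∧ F.map φ ≫ b = F.map ψ := by
      intro V f hf
      obtain ⟨y', g, hg⟩ := h f hf
      obtain ⟨z₁, φ₁, hφ₁⟩ := exists_lift h𝒳 f x₁ rfl
      obtain ⟨z₂, φ₂, hφ₂⟩ := exists_lift h𝒳 f x₂ hx₂
      obtain ⟨c₁, hc₁, -, ec₁, -⟩ := exists_iso h𝒴 f (F.map φ₁) g (lift_map F hφ₁) hg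
      obtain ⟨c₂, hc₂, -, ec₂, -⟩ := exists_iso h𝒴 f (F.map φ₂) (g ≫ b) (lift_map F hφ₂)
        (lift_comp_id hg hb)
      have hy' : 𝒴'.p.obj y' = V := (G.w_obj y').symm.trans (obj_eq_of_lift_left hg)
      obtain ⟨w₁, a₁, b₁, hw₁, ha₁, hb₁, e₁⟩ := square_obj e hc y' z₁ c₁ hy' hc₁
      obtain ⟨w₂, a₂, b₂, hw₂, ha₂, hb₂, e₂⟩ := square_obj e hc y' z₂ c₂ hy' hc₂
      have ha₂' : 𝒴'.p.IsHomLift (𝟙 V) a₂.inv := by
        have := lift_inv (χ := a₂.hom) ha₂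
        rwa [IsIso.Iso.inv_hom] at this
      obtain ⟨R', hR', h'⟩ := locSurjHom_at hF'.2 w₁ w₂ (a₁.hom ≫ a₂.inv) hw₁ (lift_id_comp ha₁ ha₂')
      refine ⟨R', hR', fun W k hk => ?_⟩
      obtain ⟨w₀, α, β, hα, hβ, e'⟩ := h' k hk
      refine ⟨G'.obj w₀, G'.map α ≫ b₁.hom ≫ φ₁, G'.map β ≫ b₂.hom ≫ φ₂,
        lift_comp (lift_map G' hα) (lift_id_comp hb₁ hφ₁),
        lift_comp (lift_map G' hβ) (lift_id_comp hb₂ hφ₂), ?_⟩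
      have hα' := appIso_naturality e α
      have hβ' := appIso_naturality e β
      -- F (G' α) = e⁻¹ ≫ G (F' α) ≫ e
      have eα : F.map (G'.map α) ≫ F.map b₁.hom =
          (appIso e w₀).inv ≫ G.map (F'.map α) ≫ G.map a₁.hom ≫ c₁.hom := by
        rw [e₁]
        have : (appIso e w₀).hom ≫ F.map (G'.map α) = G.map (F'.map α) ≫ (appIso e w₁).hom := hα'.symm
        rw [← reassoc_of% this, Iso.inv_hom_id_assoc]
      have eβ : F.map (G'.map β) ≫ F.map b₂.hom =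
          (appIso e w₀).inv ≫ G.map (F'.map β) ≫ G.map a₂.hom ≫ c₂.hom := by
        rw [e₂]
        have : (appIso e w₀).hom ≫ F.map (G'.map β) = G.map (F'.map β) ≫ (appIso e w₂).hom := hβ'.symm
        rw [← reassoc_of% this, Iso.inv_hom_id_assoc]
      have e'' : G.map (F'.map β) ≫ G.map a₂.hom = G.map (F'.map α) ≫ G.map a₁.hom := by
        rw [← G.toFunctor.map_comp, ← G.toFunctor.map_comp, ← e']
        simp
      rw [F.toFunctor.map_comp, F.toFunctor.map_comp, F.toFunctor.map_comp, F.toFunctor.map_comp,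
        reassoc_of% eα, reassoc_of% eβ]
      simp only [Category.assoc]
      rw [ec₂, reassoc_of% ec₁, reassoc_of% e'']
    choose! R' hR' h' using key
    refine ⟨Sieve.bind R.arrows (fun V f _ => R' f), J.bind_covering hR (fun {V} f hf => hR' f hf), ?_⟩
    rintro W _ ⟨V, k, f, hf, hk, rfl⟩
    exact h' f hf k hk

end square

end K895.Over
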