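import Groth.Prelude.Def_StGerb
import Groth.Agent.Gerb.K895.Over

/-!
# Invariance under equivalences over the base; elementary form of `Gerb.IsGerbe` (helper895)
-/

set_option autoImplicit false
set_option backward.isDefEq.respectTransparency false
set_option backward.isDefEq.respectTransparency.types false

universe v₅ u₅ v₄ u₄ v₃ u₃ v₂ u₂ v u

open CategoryTheory K895.Fib K895.Glue

namespace K895.Equiv

variable {C : Type u} [Category.{v} C]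

section calculus

variable {𝒳 : BasedCategory.{v₂, u₂} C} {𝒴 : BasedCategory.{v₃, u₃} C} {𝒵 : BasedCategory.{v₄, u₄} C}

theorem symm {F : 𝒳 ⥤ᵇ 𝒴} (hF : FibCat.IsEquivOver F) :
    ∃ G : 𝒴 ⥤ᵇ 𝒳, FibCat.IsEquivOver G ∧ Nonempty (BasedFunctor.comp F G ≅ BasedFunctor.id 𝒳) ∧
      Nonempty (BasedFunctor.comp G F ≅ BasedFunctor.id 𝒴) := by
  obtain ⟨G, a, b⟩ := hF
  exact ⟨G, ⟨F, b, a⟩, a, b⟩

/-- criterion -/
theorem of_full_faithful_locEssSurj {F : 𝒳 ⥤ᵇ 𝒴} [F.toFunctor.Full] [F.toFunctor.Faithful]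
    (h : ∀ y : 𝒴.obj, ∃ (x : 𝒳.obj) (e : F.obj x ≅ y), 𝒴.p.IsHomLift (𝟙 (𝒴.p.obj y)) e.hom) :
    FibCat.IsEquivOver F := by
  choose g e he using h
  have hg : ∀ y, 𝒳.p.obj (g y) = 𝒴.p.obj y := fun y =>
    (F.w_obj _).symm.trans (obj_eq_of_lift_left (he y))
  have hinv : ∀ y, 𝒴.p.IsHomLift (𝟙 (𝒴.p.obj y)) (e y).inv := fun y => by
    have := lift_inv (χ := (e y).hom) (he y)
    rwa [IsIso.Iso.inv_hom] at this
  let G : 𝒴 ⥤ᵇ 𝒳 := mkBased (𝒜 := 𝒴) g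
    (fun {a b} f => F.toFunctor.preimage ((e a).hom ≫ f ≫ (e b).inv))
    (fun {a b} f => by
      apply lift_of_map F
      rw [Functor.map_preimage]
      exact lift_id_comp (he a) (lift_comp_id (IsHomLift.map 𝒴.p f) (hinv b)))
    (fun a => by
      apply F.toFunctor.map_injective
      simp)
    (fun {a b c} f f' => by
      apply F.toFunctor.map_injective
      simp)
  have hG : ∀ {a b : 𝒴.obj} (f : a ⟶ b), F.map (G.map f) = (e a).hom ≫ f ≫ (e b).inv :=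
    fun {a b} f => F.toFunctor.map_preimage _
  refine ⟨G, ⟨BasedNatIso.mkNatIso (NatIso.ofComponents
      (fun x => F.toFunctor.preimageIso (e (F.obj x))) ?_) ?_⟩,
    ⟨BasedNatIso.mkNatIso (NatIso.ofComponents (fun y => e y) ?_) ?_⟩⟩
  · intro x x' f
    apply F.toFunctor.map_injective
    rw [F.toFunctor.map_comp, F.toFunctor.map_comp]
    change F.map (G.map (F.map f)) ≫ F.map (F.toFunctor.preimage (e (F.obj x')).hom) =
      F.map (F.toFunctor.preimage (e (F.obj x)).hom) ≫ F.map f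
    rw [hG, Functor.map_preimage, Functor.map_preimage]
    simp
  · intro x
    apply lift_of_map F
    change 𝒴.p.IsHomLift _ (F.map (F.toFunctor.preimage (e (F.obj x)).hom))
    rw [Functor.map_preimage]
    have := he (F.obj x)
    rwa [F.w_obj] at this
  · intro y y' f
    change F.map (G.map f) ≫ (e y').hom = (e y).hom ≫ f
    rw [hG]; simp
  · intro y
    exact he y

theorem comp {F : 𝒳 ⥤ᵇ 𝒴} {G : 𝒴 ⥤ᵇ 𝒵} (hF : FibCat.IsEquivOver F) (hG : FibCat.IsEquivOver G) :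
    FibCat.IsEquivOver (BasedFunctor.comp F G) := by
  obtain ⟨f1, f2, f3⟩ := IsEquivOver.elim hF
  obtain ⟨g1, g2, g3⟩ := IsEquivOver.elim hG
  have : (BasedFunctor.comp F G).toFunctor.Full :=
    inferInstanceAs (F.toFunctor ⋙ G.toFunctor).Full
  have : (BasedFunctor.comp F G).toFunctor.Faithful :=
    inferInstanceAs (F.toFunctor ⋙ G.toFunctor).Faithful
  refine of_full_faithful_locEssSurj fun z => ?_
  obtain ⟨y, e, he, hy⟩ := g3 z
  obtain ⟨x, e', he', hx⟩ := f3 y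
  refine ⟨x, G.toFunctor.mapIso e' ≪≫ e, ?_⟩
  have h1 := lift_map G he'
  rw [hy] at h1
  exact lift_id_comp h1 he

theorem isFibGrpd_of_equiv {F : 𝒳 ⥤ᵇ 𝒴} (hF : FibCat.IsEquivOver F) (h : FibCat.IsFibGrpd 𝒳.p) :
    FibCat.IsFibGrpd 𝒴.p := by
  obtain ⟨G, hG, -, -⟩ := symm hF
  obtain ⟨f1, f2, f3⟩ := IsEquivOver.elim hF
  obtain ⟨g1, g2, g3⟩ := IsEquivOver.elim hG
  constructor
  · intro y V f
    obtain ⟨x, e, he, hx⟩ := f3 y
    obtain ⟨x', φ, hφ⟩ := exists_lift h f x hx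
    exact ⟨F.obj x', F.map φ ≫ e.hom, lift_comp_id (lift_map F hφ) he⟩
  · intro y' y φ
    constructor
    intro z g ψ hψ
    obtain ⟨χ, hχ, eχ⟩ := exists_fac h g (𝒴.p.map φ) (G.map φ) (G.map ψ)
      (lift_map G (IsHomLift.map 𝒴.p φ)) (lift_map G hψ)
    refine ⟨G.toFunctor.preimage χ, ⟨lift_of_map G ?_, ?_⟩, ?_⟩
    · rw [Functor.map_preimage]; exact hχ
    · apply G.toFunctor.map_injective
      rw [G.toFunctor.map_comp, Functor.map_preimage]; exact eχ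
    · rintro χ' ⟨hχ', eχ'⟩
      apply G.toFunctor.map_injective
      rw [Functor.map_preimage]
      refine hom_unique h g (𝒴.p.map φ) (G.map φ) (lift_map G (IsHomLift.map 𝒴.p φ)) _ _
        (lift_map G hχ') hχ ?_
      rw [← G.toFunctor.map_comp, eχ', eχ]

end calculus

section post

variable {𝒜 : BasedCategory.{v₅, u₅} C} {𝒳 : BasedCategory.{v₂, u₂} C} {𝒴 : BasedCategory.{v₃, u₃} C}

variable (𝒜) in
/-- postcomposition -/
def post (F : 𝒳 ⥤ᵇ 𝒴) : (𝒜 ⥤ᵇ 𝒳) ⥤ (𝒜 ⥤ᵇ 𝒴) where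
  obj A := BasedFunctor.comp A F
  map α := BasedCategory.whiskerRight α F
  map_id A := by
    apply trans_ext; intro a
    exact F.toFunctor.map_id _
  map_comp α β := by
    apply trans_ext; intro a
    exact F.toFunctor.map_comp _ _

theorem post_isEquivalence (F : 𝒳 ⥤ᵇ 𝒴) (hF : FibCat.IsEquivOver F) :
    (post 𝒜 F).IsEquivalence := by
  obtain ⟨G, ⟨a⟩, ⟨b⟩⟩ := hF
  let unit : 𝟭 (𝒜 ⥤ᵇ 𝒳) ≅ post 𝒜 F ⋙ post 𝒜 G :=
    NatIso.ofComponents (fun A => (Stk.restr A 𝒳).mapIso a.symm) (fun {A B} α => by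
      apply trans_ext; intro x
      exact (appIso_naturality a.symm ((BasedNatTrans.toNatTrans α).app x)))
  let counit : post 𝒜 G ⋙ post 𝒜 F ≅ 𝟭 (𝒜 ⥤ᵇ 𝒴) :=
    NatIso.ofComponents (fun A => (Stk.restr A 𝒴).mapIso b) (fun {A B} α => by
      apply trans_ext; intro x
      exact (appIso_naturality b ((BasedNatTrans.toNatTrans α).app x)))
  exact (CategoryTheory.Equivalence.mk _ _ unit counit).isEquivalence_functor

theorem isStackFor_of_equiv {U : C} (R : Sieve U) (F : 𝒳 ⥤ᵇ 𝒴) (hF : FibCat.IsEquivOver F)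
    (h : Stk.IsStackFor R 𝒳) : Stk.IsStackFor R 𝒴 := by
  have h1 := post_isEquivalence (𝒜 := FibCat.overCat U) F hF
  have h2 := post_isEquivalence (𝒜 := Stk.sieveCat R) F hF
  have h3 : (Stk.resSieve R 𝒳).IsEquivalence := h
  let e : post (FibCat.overCat U) F ⋙ Stk.resSieve R 𝒴 ≅ Stk.resSieve R 𝒳 ⋙ post (Stk.sieveCat R) F :=
    NatIso.ofComponents (fun A => Iso.refl _) (fun {A B} α => by
      apply trans_ext; intro x
      exact (Category.comp_id _).trans (Category.id_comp _).symm)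
  have h4 : (post (FibCat.overCat U) F ⋙ Stk.resSieve R 𝒴).IsEquivalence :=
    Functor.isEquivalence_of_iso e.symm
  exact Functor.isEquivalence_of_comp_left (post (FibCat.overCat U) F) (Stk.resSieve R 𝒴)

theorem isStack_of_equiv (J : GrothendieckTopology C) (F : 𝒳 ⥤ᵇ 𝒴) (hF : FibCat.IsEquivOver F)
    (h : Stk.IsStack J 𝒳) : Stk.IsStack J 𝒴 :=
  ⟨isFibGrpd_of_equiv hF h.1, fun _ R hR => isStackFor_of_equiv R F hF (h.2 R hR)⟩

end post

section elem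

variable {𝒳 : BasedCategory.{v₂, u₂} C} {𝒴 : BasedCategory.{v₃, u₃} C} {J : GrothendieckTopology C}

theorem locSurjObj_toSelf_iff : Gerb.LocSurjObj J (FibCat.toSelf 𝒳) ↔
    ∀ U : C, ∃ R ∈ J U, ∀ ⦃V : C⦄ (f : V ⟶ U), R f → ∃ x : 𝒳.obj, 𝒳.p.obj x = V := by
  constructor
  · intro h U
    obtain ⟨R, hR, h'⟩ := h U
    refine ⟨R, hR, fun V f hf => ?_⟩
    obtain ⟨x, g, hg⟩ := h' f hf
    exact ⟨x, IsHomLift.domain_eq (FibCat.selfOver C).p f g⟩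
  · intro h U
    obtain ⟨R, hR, h'⟩ := h U
    refine ⟨R, hR, fun V f hf => ?_⟩
    obtain ⟨x, rfl⟩ := h' f hf
    exact ⟨x, f, IsHomLift.map (𝟭 C) f⟩

theorem locSurjHom_toSelf_iff : Gerb.LocSurjHom J (FibCat.toSelf 𝒳) ↔
    ∀ (U : C) (x x' : 𝒳.obj), 𝒳.p.obj x = U → 𝒳.p.obj x' = U → ∃ R ∈ J U, ∀ ⦃V : C⦄ (f : V ⟶ U), R f →
      ∃ (x₀ : 𝒳.obj) (φ : x₀ ⟶ x) (ψ : x₀ ⟶ x'), 𝒳.p.IsHomLift f φ ∧ 𝒳.p.IsHomLift f ψ := by
  constructor
  · intro h U x x' hx hx'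
    subst hx
    obtain ⟨R, hR, h'⟩ := h x x' (eqToHom hx'.symm)
      (IsHomLift.of_fac' _ _ _ rfl hx' (by simp [FibCat.toSelf]; rfl))
    refine ⟨R, hR, fun V f hf => ?_⟩
    obtain ⟨x₀, φ, ψ, hφ, hψ, -⟩ := h' f hf
    exact ⟨x₀, φ, ψ, hφ, hψ⟩
  · intro h x x' b hb
    have hx' : 𝒳.p.obj x' = 𝒳.p.obj x :=
      IsHomLift.codomain_eq (FibCat.selfOver C).p (𝟙 (𝒳.p.obj x)) b
    obtain ⟨R, hR, h'⟩ := h (𝒳.p.obj x) x x' rfl hx'
    refine ⟨R, hR, fun V f hf => ?_⟩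
    obtain ⟨x₀, φ, ψ, hφ, hψ⟩ := h' f hf
    refine ⟨x₀, φ, ψ, hφ, hψ, ?_⟩
    have hb' : b = eqToHom hx'.symm := by
      have := @IsHomLift.fac' _ _ _ _ (𝟭 C) _ _ _ _ (𝟙 (𝒳.p.obj x)) b hb
      simpa using this
    subst hb'
    have e1 := IsHomLift.fac' 𝒳.p f φ
    have e2 := IsHomLift.fac' 𝒳.p f ψ
    change 𝒳.p.map φ ≫ eqToHom hx'.symm = 𝒳.p.map ψ
    rw [e1, e2]; simp

theorem isGerbe_of_equiv (F : 𝒳 ⥤ᵇ 𝒴) (hF : FibCat.IsEquivOver F) (h : Gerb.IsGerbe J 𝒳) :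
    Gerb.IsGerbe J 𝒴 := by
  obtain ⟨hs, ha, hb⟩ := h
  refine ⟨isStack_of_equiv J F hF hs, ?_, ?_⟩
  · rw [locSurjObj_toSelf_iff] at ha ⊢
    intro U
    obtain ⟨R, hR, h'⟩ := ha U
    refine ⟨R, hR, fun V f hf => ?_⟩
    obtain ⟨x, hx⟩ := h' f hf
    exact ⟨F.obj x, (F.w_obj x).trans hx⟩
  · rw [locSurjHom_toSelf_iff] at hb ⊢
    intro U y y' hy hy'
    obtain ⟨-, -, f3⟩ := IsEquivOver.elim hF
    obtain ⟨x, e, he, hx⟩ := f3 y
    obtain ⟨x', e', he', hx'⟩ := f3 y'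
    rw [hy] at hx he
    rw [hy'] at hx' he'
    obtain ⟨R, hR, h'⟩ := hb U x x' hx hx'
    refine ⟨R, hR, fun V f hf => ?_⟩
    obtain ⟨x₀, φ, ψ, hφ, hψ⟩ := h' f hf
    exact ⟨F.obj x₀, F.map φ ≫ e.hom, F.map ψ ≫ e'.hom,
      lift_comp_id (lift_map F hφ) he, lift_comp_id (lift_map F hψ) he'⟩

end elem

end K895.Equiv
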