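import Groth.Prelude.Def_StGerb
import Groth.Agent.Gerb.K895.Equiv

/-!
# A fully faithful functor of stacks which is locally essentially surjective is an equivalence (helper895)
-/

set_option autoImplicit false
set_option backward.isDefEq.respectTransparency false
set_option backward.isDefEq.respectTransparency.types false

universe v₅ u₅ v₄ u₄ v₃ u₃ v₂ u₂ v u

open CategoryTheory K895.Fib K895.Glue

namespace K895.LocEquiv

variable {C : Type u} [Category.{v} C] {J : GrothendieckTopology C}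

theorem isPrestack_of_isStack {𝒳 : BasedCategory.{v₂, u₂} C} (h : Stk.IsStack J 𝒳) : Stk.IsPrestack J 𝒳 :=
  ⟨h.1, fun _ R hR => by
    have := h.2 R hR
    have : (Stk.resSieve R 𝒳).IsEquivalence := this
    exact ⟨inferInstance, inferInstance⟩⟩

variable {𝒳 : BasedCategory.{v₂, u₂} C} {𝒴 : BasedCategory.{v₃, u₃} C}

theorem essSurj_of_locSurjObj (h𝒳 : Stk.IsStack J 𝒳) (h𝒴 : Stk.IsPrestack J 𝒴) (F : 𝒳 ⥤ᵇ 𝒴)
    [F.toFunctor.Full] [F.toFunctor.Faithful] {U : C} (R : Sieve U) (hR : R ∈ J U) (y : 𝒴.obj)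
    (hy : 𝒴.p.obj y = U)
    (h : ∀ ⦃V : C⦄ (f : V ⟶ U), R f → ∃ (x : 𝒳.obj) (g : F.obj x ⟶ y), 𝒴.p.IsHomLift f g) :
    ∃ (x : 𝒳.obj) (b : F.obj x ⟶ y), 𝒴.p.IsHomLift (𝟙 U) b := by
  choose x g hg using fun (T : Over U) (hT : R T.hom) => h T.hom hT
  have hfac : ∀ (T' T : Over U) (hT' : R T'.hom) (hT : R T.hom) (k : T' ⟶ T),
      ∃ χ : x T' hT' ⟶ x T hT, 𝒳.p.IsHomLift k.left χ ∧ F.map χ ≫ g T hT = g T' hT' := by
    intro T' T hT' hT k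
    obtain ⟨c, hc, ec⟩ := exists_fac h𝒴.1 k.left T.hom (g T hT) (g T' hT') (hg T hT)
      (lift_eq (hg T' hT') (Over.w k).symm)
    refine ⟨F.toFunctor.preimage c, lift_of_map F ?_, ?_⟩
    · rw [Functor.map_preimage]; exact hc
    · rw [Functor.map_preimage]; exact ec
  choose χ hχ eχ using hfac
  have uniq : ∀ {z : 𝒴.obj} {W : C} (T : Over U) (hT : R T.hom) (k : W ⟶ T.left)
      (c c' : z ⟶ F.obj (x T hT)), 𝒴.p.IsHomLift k c → 𝒴.p.IsHomLift k c' → c ≫ g T hT = c' ≫ g T hT →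
      c = c' := fun T hT k c c' hc hc' e => hom_unique h𝒴.1 k T.hom (g T hT) (hg T hT) c c' hc hc' e
  have hx : ∀ (T : Over U) (hT : R T.hom), 𝒳.p.obj (x T hT) = T.left := fun T hT =>
    (F.w_obj _).symm.trans (obj_eq_of_lift_left (hg T hT))
  let D : Stk.sieveCat R ⥤ᵇ 𝒳 := mkBased (𝒜 := Stk.sieveCat R) (fun T => x T.obj T.property)
    (fun {T' T} k => χ T'.obj T.obj T'.property T.property k.hom)
    (fun {T' T} k => hχ T'.obj T.obj T'.property T.property k.hom)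
    (fun T => by
      apply F.toFunctor.map_injective
      refine uniq T.obj T.property (𝟙 _) _ _
        (lift_map F (hχ T.obj T.obj T.property T.property (𝟙 T : T ⟶ T).hom)) ?_ ?_
      · rw [F.toFunctor.map_id]
        exact IsHomLift.id ((F.w_obj _).trans (hx _ _))
      · rw [eχ]; simp)
    (fun {T₁ T₂ T₃} k k' => by
      apply F.toFunctor.map_injective
      refine uniq T₃.obj T₃.property (k.hom.left ≫ k'.hom.left) _ _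
        (lift_map F (hχ T₁.obj T₃.obj T₁.property T₃.property (k ≫ k').hom)) ?_ ?_
      · exact lift_map F (lift_comp (hχ T₁.obj T₂.obj T₁.property T₂.property k.hom)
          (hχ T₂.obj T₃.obj T₂.property T₃.property k'.hom))
      · rw [eχ, F.toFunctor.map_comp, Category.assoc, eχ, eχ])
  obtain ⟨x₀, hx₀, d, hd, ed⟩ := glue_obj (h𝒳.2 R hR) D
  have hd' : ∀ (T : Over U) (hT : R T.hom), 𝒳.p.IsHomLift T.hom (d ⟨T, hT⟩) := fun T hT => hd ⟨T, hT⟩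
  have ed' : ∀ (T' T : Over U) (hT' : R T'.hom) (hT : R T.hom) (k : T' ⟶ T),
      χ T' T hT' hT k ≫ d ⟨T, hT⟩ = d ⟨T', hT'⟩ := fun T' T hT' hT k =>
    ed ⟨T', hT'⟩ ⟨T, hT⟩ (ObjectProperty.homMk k)
  let P : ∀ ⦃z : 𝒴.obj⦄, (z ⟶ F.obj x₀) → (z ⟶ y) → Prop := fun z α β =>
    ∃ (T : Over U) (hT : R T.hom) (γ : z ⟶ F.obj (x T hT)), α = γ ≫ F.map (d ⟨T, hT⟩) ∧ β = γ ≫ g T hT
  have key : ∀ {z : 𝒴.obj} {V : C} (f : V ⟶ U) (hf : R f) (α : z ⟶ F.obj x₀) (β : z ⟶ y),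
      𝒴.p.IsHomLift f α → P α β → ∃ γ : z ⟶ F.obj (x (Over.mk f) hf), 𝒴.p.IsHomLift (𝟙 V) γ ∧
        α = γ ≫ F.map (d ⟨Over.mk f, hf⟩) ∧ β = γ ≫ g (Over.mk f) hf := by
    rintro z V f hf α β hα ⟨T, hT, γ, rfl, rfl⟩
    have hz : 𝒴.p.obj z = V := obj_eq_of_lift_left hα
    subst hz
    let k : 𝒴.p.obj z ⟶ T.left := 𝒴.p.map γ ≫ eqToHom (((F.w_obj _).trans (hx T hT)))
    have hk : 𝒴.p.IsHomLift k γ := inferInstance
    have hw : k ≫ T.hom = f := by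
      have h1 : 𝒴.p.IsHomLift (k ≫ T.hom) (γ ≫ F.map (d ⟨T, hT⟩)) := lift_comp hk (lift_map F (hd' T hT))
      have h2 := hα
      have e1 := IsHomLift.fac 𝒴.p (k ≫ T.hom) (γ ≫ F.map (d ⟨T, hT⟩))
      have e2 := IsHomLift.fac 𝒴.p f (γ ≫ F.map (d ⟨T, hT⟩))
      exact e1.trans e2.symm
    let k' : Over.mk f ⟶ T := Over.homMk k hw
    obtain ⟨γ', hγ', eγ'⟩ := exists_fac h𝒴.1 (𝟙 _) k (F.map (χ (Over.mk f) T hf hT k')) γ
      (lift_map F (hχ _ _ _ _ k')) (lift_eq hk (Category.id_comp _).symm)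
    refine ⟨γ', hγ', ?_, ?_⟩
    · rw [← eγ', Category.assoc, ← F.toFunctor.map_comp, ed']
    · rw [← eγ', Category.assoc, eχ]
  have hex : ∀ ⦃V : C⦄ (f : V ⟶ U), R f → ∃ (z : 𝒴.obj) (φ : z ⟶ F.obj x₀) (ψ : z ⟶ y),
      𝒴.p.IsHomLift f φ ∧ 𝒴.p.IsHomLift f ψ ∧ P φ ψ := by
    intro V f hf
    refine ⟨F.obj (x (Over.mk f) hf), F.map (d ⟨Over.mk f, hf⟩), g (Over.mk f) hf, ?_, ?_, ?_⟩
    · exact lift_map F (hd' (Over.mk f) hf)
    · exact hg (Over.mk f) hf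
    · exact ⟨Over.mk f, hf, 𝟙 _, (Category.id_comp _).symm, (Category.id_comp _).symm⟩
  have hst : ∀ ⦃z' z : 𝒴.obj⦄ (k : z' ⟶ z) (φ : z ⟶ F.obj x₀) (ψ : z ⟶ y), P φ ψ → P (k ≫ φ) (k ≫ ψ) := by
    rintro z' z k _ _ ⟨T, hT, γ, rfl, rfl⟩
    exact ⟨T, hT, k ≫ γ, (Category.assoc _ _ _).symm, (Category.assoc _ _ _).symm⟩
  have hun : ∀ ⦃V : C⦄ (f : V ⟶ U), R f → ∀ ⦃z : 𝒴.obj⦄ (φ : z ⟶ F.obj x₀) (ψ ψ' : z ⟶ y),
      𝒴.p.IsHomLift f φ → 𝒴.p.IsHomLift f ψ → 𝒴.p.IsHomLift f ψ' → P φ ψ → P φ ψ' → ψ = ψ' := by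
    intro V f hf z α β β' hα _ _ hP hP'
    obtain ⟨γ, hγ, e1, e2⟩ := key f hf α β hα hP
    obtain ⟨γ', hγ', e1', e2'⟩ := key f hf α β' hα hP'
    have : γ = γ' := hom_unique h𝒴.1 (𝟙 V) f (F.map (d ⟨Over.mk f, hf⟩))
      (lift_map F (hd' (Over.mk f) hf)) γ γ' hγ hγ' (e1.symm.trans e1')
    rw [e2, e2', this]
  obtain ⟨b, hb, -⟩ := glue_hom h𝒴.1 (x := F.obj x₀) (x' := y) ((F.w_obj x₀).trans hx₀) hy (h𝒴.2 R hR) P
    hex hst hun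
  exact ⟨x₀, b, hb⟩

theorem isEquivOver_of_locSurjObj (h𝒳 : Stk.IsStack J 𝒳) (h𝒴 : Stk.IsPrestack J 𝒴) (F : 𝒳 ⥤ᵇ 𝒴)
    [F.toFunctor.Full] [F.toFunctor.Faithful] (h : Gerb.LocSurjObj J F) : FibCat.IsEquivOver F := by
  apply Equiv.of_full_faithful_locEssSurj
  intro y
  obtain ⟨R, hR, h'⟩ := h y
  obtain ⟨x, b, hb⟩ := essSurj_of_locSurjObj h𝒳 h𝒴 F R hR y rfl h'
  have := isIso h𝒴.1 (𝟙 _) b hb
  exact ⟨x, asIso b, hb⟩

end K895.LocEquiv
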