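import Groth.Prelude.Def_StGerb2
import Groth.Agent.Gerb.K895.LocEquiv

/-!
# Gerbes with a global object (helper895)
-/

set_option autoImplicit false
set_option backward.isDefEq.respectTransparency false
set_option backward.isDefEq.respectTransparency.types false

universe v₅ u₅ v₄ u₄ v₃ u₃ v₂ u₂ v u

open CategoryTheory K895.Fib K895.Glue

namespace K895.Global

variable {C : Type u} [Category.{v} C] {J : GrothendieckTopology C}

section aut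

variable {𝒳 : BasedCategory.{v₂, u₂} C} {𝒴 : BasedCategory.{v₃, u₃} C}

/-- an automorphism over the identity from an endomorphism over the identity -/
noncomputable def mkAut (h : FibCat.IsFibGrpd 𝒳.p) {x : 𝒳.obj} (k : x ⟶ x)
    (hk : 𝒳.p.IsHomLift (𝟙 (𝒳.p.obj x)) k) : Gerb.AutO x :=
  have := isIso h (𝟙 _) k hk
  { hom := ⟨k, hk⟩
    inv := ⟨inv k, lift_inv hk⟩
    hom_inv_id := Subtype.ext (IsIso.hom_inv_id k)
    inv_hom_id := Subtype.ext (IsIso.inv_hom_id k) }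

@[simp] theorem mkAut_hom_val (h : FibCat.IsFibGrpd 𝒳.p) {x : 𝒳.obj} (k : x ⟶ x)
    (hk : 𝒳.p.IsHomLift (𝟙 (𝒳.p.obj x)) k) : (mkAut h k hk).hom.1 = k := rfl

theorem autO_ext {x : 𝒳.obj} {α β : Gerb.AutO x} (e : α.hom.1 = β.hom.1) : α = β :=
  Aut.ext (Subtype.ext e)

theorem autO_lift {x : 𝒳.obj} (α : Gerb.AutO x) : 𝒳.p.IsHomLift (𝟙 (𝒳.p.obj x)) α.hom.1 := α.hom.2

theorem autO_lift' {x : 𝒳.obj} {U : C} (hx : 𝒳.p.obj x = U) (α : Gerb.AutO x) :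
    𝒳.p.IsHomLift (𝟙 U) α.hom.1 := by subst hx; exact α.hom.2

@[simp] theorem autO_one (x : 𝒳.obj) : (1 : Gerb.AutO x).hom.1 = 𝟙 x := rfl

@[simp] theorem autO_mul {x : 𝒳.obj} (α β : Gerb.AutO x) : (α * β).hom.1 = β.hom.1 ≫ α.hom.1 := rfl

@[simp] theorem autO_hom_inv {x : 𝒳.obj} (α : Gerb.AutO x) : α.hom.1 ≫ α.inv.1 = 𝟙 x :=
  congrArg Subtype.val α.hom_inv_id

@[simp] theorem autO_inv_hom {x : 𝒳.obj} (α : Gerb.AutO x) : α.inv.1 ≫ α.hom.1 = 𝟙 x :=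
  congrArg Subtype.val α.inv_hom_id

theorem lift_toSelf_map {V U : C} {f : V ⟶ U} {y x : 𝒳.obj} {φ : y ⟶ x} (hφ : 𝒳.p.IsHomLift f φ) :
    𝒳.p.IsHomLift f φ := hφ

end aut

section triv

variable {𝒳 : BasedCategory.{v₂, u₂} C} {T : C} (hT : Limits.IsTerminal T)
  (hf : FibCat.IsFibGrpd 𝒳.p) (hg : Gerb.LocSurjHom J (FibCat.toSelf 𝒳)) (s : 𝒳.obj) (hs : 𝒳.p.obj s = T)

include hT hf hg hs

/-- every object is locally isomorphic to the pullback of the global object -/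
theorem exists_triv {U : C} (x : 𝒳.obj) (hx : 𝒳.p.obj x = U) :
    ∃ R ∈ J U, ∀ ⦃V : C⦄ (f : V ⟶ U), R f → ∃ (x₀ : 𝒳.obj) (a : x₀ ⟶ x) (_ : x₀ ⟶ s),
      𝒳.p.IsHomLift f a := by
  obtain ⟨sU, c, hc⟩ := exists_lift hf (hT.from U) s hs
  obtain ⟨R, hR, h⟩ := Equiv.locSurjHom_toSelf_iff.1 hg U x sU hx (obj_eq_of_lift_left hc)
  refine ⟨R, hR, fun V f hf' => ?_⟩
  obtain ⟨x₀, a, b, ha, hb⟩ := h f hf'
  exact ⟨x₀, a, b ≫ c, ha⟩

omit hf hg in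
theorem lift_terminal {V : C} {x : 𝒳.obj} (c : x ⟶ s) (hx : 𝒳.p.obj x = V) :
    𝒳.p.IsHomLift (hT.from V) c := by
  subst hx hs
  have : hT.from (𝒳.p.obj x) = 𝒳.p.map c := hT.hom_ext _ _
  rw [this]
  exact IsHomLift.map 𝒳.p c

/-- two objects are locally isomorphic, compatibly with maps to the global object -/
theorem exists_triv₂ {U : C} (x x' : 𝒳.obj) (hx : 𝒳.p.obj x = U) (hx' : 𝒳.p.obj x' = U) :
    ∃ R ∈ J U, ∀ ⦃V : C⦄ (f : V ⟶ U), R f → ∃ (x₀ : 𝒳.obj) (a : x₀ ⟶ x) (a' : x₀ ⟶ x') (_ : x₀ ⟶ s),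
      𝒳.p.IsHomLift f a ∧ 𝒳.p.IsHomLift f a' := by
  obtain ⟨R, hR, h⟩ := exists_triv hT hf hg s hs x hx
  obtain ⟨R', hR', h'⟩ := exists_triv hT hf hg s hs x' hx'
  refine ⟨R ⊓ R', J.intersection_covering hR hR', fun V f hff => ?_⟩
  obtain ⟨x₀, a, c, ha⟩ := h f hff.1
  obtain ⟨x₁, a', c', ha'⟩ := h' f hff.2
  obtain ⟨i, hi, -, -, -⟩ := exists_iso hf (hT.from V) c' c
    (lift_terminal hT s hs c' (obj_eq_of_lift_left ha'))
    (lift_terminal hT s hs c (obj_eq_of_lift_left ha))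
  exact ⟨x₀, a, i.hom ≫ a', c, ha, lift_id_comp hi ha'⟩

end triv

section equiv

variable {𝒳 : BasedCategory.{v₂, u₂} C} {𝒴 : BasedCategory.{v₃, u₃} C} {T : C} (hT : Limits.IsTerminal T)
  (h𝒳 : Gerb.IsGerbe J 𝒳) (F : 𝒳 ⥤ᵇ 𝒴) (s : 𝒳.obj) (hs : 𝒳.p.obj s = T)

include hT h𝒳 hs

theorem faithful (h𝒴 : FibCat.IsFibGrpd 𝒴.p)
    (hF : ∀ (x : 𝒳.obj) (_ : x ⟶ s), Function.Injective (Gerb.autMap F x)) : F.toFunctor.Faithful := by
  have hfib := h𝒳.1.1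
  constructor
  intro x x' α β e
  have e' : F.map α = F.map β := e
  have hp : 𝒳.p.map α = 𝒳.p.map β := by
    have h1 : 𝒳.p.IsHomLift (𝒳.p.map α) β := by
      apply lift_of_map F
      rw [← e']
      exact lift_map F (IsHomLift.map 𝒳.p α)
    exact IsHomLift.eq_of_isHomLift 𝒳.p (𝒳.p.map α) β
  have hα : 𝒳.p.IsHomLift (𝒳.p.map α) α := IsHomLift.map 𝒳.p α
  have hβ : 𝒳.p.IsHomLift (𝒳.p.map α) β := hp ▸ IsHomLift.map 𝒳.p β
  obtain ⟨k, hk, ek⟩ := exists_fac hfib (𝟙 _) (𝒳.p.map α) α β hα (lift_eq hβ (Category.id_comp _).symm)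
  have hFk : F.map k = 𝟙 (F.obj x) := by
    refine hom_unique h𝒴 (𝟙 _) (𝒳.p.map α) (F.map α) (lift_map F hα) _ _ (lift_map F hk)
      (IsHomLift.id (F.w_obj x)) ?_
    rw [← F.toFunctor.map_comp, ek, Category.id_comp, e']
  obtain ⟨R, hR, hloc⟩ := exists_triv hT hfib h𝒳.2.2 s hs x rfl
  have hpre := (LocEquiv.isPrestack_of_isStack h𝒳.1).2 R hR
  have hk1 : k = 𝟙 x := by
    refine glue_unique hfib hpre k (𝟙 x) hk (IsHomLift.id rfl) fun V f hf => ?_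
    obtain ⟨x₀, a, c, ha⟩ := hloc f hf
    refine ⟨x₀, a, ha, ?_⟩
    obtain ⟨k₀, hk₀, ek₀⟩ := exists_fac hfib (𝟙 V) f a (a ≫ k) ha
      (lift_eq (lift_comp_id ha hk) (Category.id_comp _).symm)
    have hx₀ : 𝒳.p.obj x₀ = V := obj_eq_of_lift_left ha
    subst hx₀
    have hFk₀ : F.map k₀ = 𝟙 _ := by
      refine hom_unique h𝒴 (𝟙 _) f (F.map a) (lift_map F ha) _ _ (lift_map F hk₀)
        (IsHomLift.id (F.w_obj x₀)) ?_
      rw [← F.toFunctor.map_comp, ek₀, F.toFunctor.map_comp, hFk, Category.comp_id, Category.id_comp]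
    have : mkAut hfib k₀ hk₀ = 1 := by
      apply hF x₀ c
      apply autO_ext
      exact hFk₀.trans (F.toFunctor.map_id x₀).symm
    have hk₀' : k₀ = 𝟙 x₀ := congrArg (fun t => t.hom.1) this
    rw [← ek₀, hk₀', Category.id_comp, Category.comp_id]
  rw [← ek, hk1, Category.id_comp]

theorem full (h𝒴 : Stk.IsPrestack J 𝒴)
    (hF : ∀ (x : 𝒳.obj) (_ : x ⟶ s), Function.Bijective (Gerb.autMap F x)) : F.toFunctor.Full := by
  have hfaith := faithful hT h𝒳 F s hs h𝒴.1 (fun x c => (hF x c).1)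
  have hfib := h𝒳.1.1
  have key : ∀ {U : C} (x x' : 𝒳.obj) (b : F.obj x ⟶ F.obj x'), 𝒳.p.obj x = U →
      𝒴.p.IsHomLift (𝟙 U) b → ∃ b₀ : x ⟶ x', F.map b₀ = b := by
    intro U x x' b hx hb
    have hx' : 𝒳.p.obj x' = U := (F.w_obj x').symm.trans (obj_eq_of_lift_right hb)
    obtain ⟨R, hR, hloc⟩ := exists_triv₂ hT hfib h𝒳.2.2 s hs x x' hx hx'
    have hpre := (LocEquiv.isPrestack_of_isStack h𝒳.1).2 R hR
    obtain ⟨b₀, hb₀, h⟩ := glue_hom hfib hx hx' hpre (fun y φ ψ => F.map φ ≫ b = F.map ψ)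
      (by
        intro V f hf
        obtain ⟨x₀, a, a', c, ha, ha'⟩ := hloc f hf
        have hx₀ : 𝒳.p.obj x₀ = V := obj_eq_of_lift_left ha
        subst hx₀
        obtain ⟨γ, hγ, eγ⟩ := exists_fac h𝒴.1 (𝟙 _) f (F.map a') (F.map a ≫ b) (lift_map F ha')
          (lift_eq (lift_comp_id (lift_map F ha) hb) (Category.id_comp _).symm)
        have hγ' : 𝒴.p.IsHomLift (𝟙 (𝒴.p.obj (F.obj x₀))) γ := by rw [F.w_obj]; exact hγ
        obtain ⟨δ, hδ⟩ := (hF x₀ c).2 (mkAut h𝒴.1 γ hγ')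
        have hδ' : F.map δ.hom.1 = γ := congrArg (fun t => t.hom.1) hδ
        refine ⟨x₀, a, δ.hom.1 ≫ a', ha, lift_id_comp (autO_lift δ) ha', ?_⟩
        rw [F.toFunctor.map_comp, hδ', eγ])
      (by
        intro z y χ φ ψ e
        rw [F.toFunctor.map_comp, F.toFunctor.map_comp, Category.assoc, e])
      (by
        intro V f hf y φ ψ ψ' _ _ _ e e'
        exact F.toFunctor.map_injective (e.symm.trans e'))
    refine ⟨b₀, glue_unique h𝒴.1 (h𝒴.2 R hR) _ _ (lift_map F hb₀) hb fun V f hf => ?_⟩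
    obtain ⟨x₀, a, a', c, ha, ha'⟩ := hloc f hf
    exact ⟨F.obj x₀, F.map a, lift_map F ha, by rw [h f hf a ha, F.toFunctor.map_comp]⟩
  constructor
  intro x x' b
  have hb : 𝒴.p.IsHomLift (𝒴.p.map b) b := IsHomLift.map 𝒴.p b
  obtain ⟨x'', c, hc⟩ := exists_lift hfib (𝒴.p.map b) x' (F.w_obj x').symm
  have hx'' : 𝒳.p.obj x'' = 𝒴.p.obj (F.obj x) := obj_eq_of_lift_left hc
  obtain ⟨b', hb', eb'⟩ := exists_fac h𝒴.1 (𝟙 _) (𝒴.p.map b) (F.map c) b (lift_map F hc)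
    (lift_eq hb (Category.id_comp _).symm)
  obtain ⟨b₀, e₀⟩ := key x x'' b' (F.w_obj x).symm hb'
  exact ⟨b₀ ≫ c, by rw [F.toFunctor.map_comp, ← eb']; exact congrArg (· ≫ F.map c) e₀⟩

theorem locSurjObj (h𝒴 : FibCat.IsFibGrpd 𝒴.p) (hg : Gerb.LocSurjHom J (FibCat.toSelf 𝒴)) :
    Gerb.LocSurjObj J F := by
  intro y
  obtain ⟨R, hR, h⟩ := exists_triv hT h𝒴 hg (F.obj s) ((F.w_obj s).trans hs) y rfl
  refine ⟨R, hR, fun V f hf => ?_⟩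
  obtain ⟨y₀, a, c, ha⟩ := h f hf
  obtain ⟨sV, d, hd⟩ := exists_lift h𝒳.1.1 (hT.from V) s hs
  obtain ⟨i, hi, -, -, -⟩ := exists_iso h𝒴 (hT.from V) c (F.map d)
    (lift_terminal hT (F.obj s) ((F.w_obj s).trans hs) c (obj_eq_of_lift_left ha)) (lift_map F hd)
  exact ⟨sV, i.hom ≫ a, lift_id_comp hi ha⟩

theorem isEquivOver_of_bijective (h𝒴 : Gerb.IsGerbe J 𝒴)
    (hF : ∀ (x : 𝒳.obj) (_ : x ⟶ s), Function.Bijective (Gerb.autMap F x)) : FibCat.IsEquivOver F := by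
  have h1 := faithful hT h𝒳 F s hs h𝒴.1.1 (fun x c => (hF x c).1)
  have h2 := full hT h𝒳 F s hs (LocEquiv.isPrestack_of_isStack h𝒴.1) hF
  exact LocEquiv.isEquivOver_of_locSurjObj h𝒳.1 (LocEquiv.isPrestack_of_isStack h𝒴.1) F
    (locSurjObj hT h𝒳 F s hs h𝒴.1.1 h𝒴.2.2)

end equiv

end K895.Global
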