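import Groth.Agent.Gerb.K895.Tri
import Groth.Agent.Gerb.K895.Global
import Mathlib.CategoryTheory.Monoidal.Cartesian.Grp

/-!
# The action of the band on the presheaf of triples (helper895)

For a banding `β` of `ℋ` by the points of a group object `D`, the group of `V`-points of `D` acts on the triples
`(a, b, θ)` over `V`, simply transitively on those with the same `a` and `b`.
-/

set_option autoImplicit false
set_option backward.isDefEq.respectTransparency false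
set_option backward.isDefEq.respectTransparency.types false

universe w v₂ u₂ v u

open CategoryTheory Opposite

namespace K895.Tri

variable {C : Type u} [Category.{v} C] {ℋ : BasedCategory.{v₂, u₂} C} {T U : C}
  {y : FibCat.overCat T ⥤ᵇ ℋ} {x : FibCat.overCat U ⥤ᵇ ℋ} [CartesianMonoidalCategory C] {D : C} [GrpObj D]

/-- The automorphism attached to a point of the band. -/
def bIso (β : Gerb.Banding ℋ (yonedaGrpObj D)) {z : ℋ.obj} {V : C} (hz : ℋ.p.obj z = V) (d : V ⟶ D) : z ⟶ z :=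
  (β.iso z (eqToHom hz ≫ d : ℋ.p.obj z ⟶ D)).hom.1

theorem bIso_lift (β : Gerb.Banding ℋ (yonedaGrpObj D)) {z : ℋ.obj} {V : C} (hz : ℋ.p.obj z = V) (d : V ⟶ D) :
    ℋ.p.IsHomLift (𝟙 V) (bIso β hz d) :=
  Global.autO_lift' hz _

theorem bIso_nat (β : Gerb.Banding ℋ (yonedaGrpObj D)) {z z' : ℋ.obj} {V V' : C} (hz : ℋ.p.obj z = V)
    (hz' : ℋ.p.obj z' = V') {g : V' ⟶ V} {φ : z' ⟶ z} (hφ : ℋ.p.IsHomLift g φ) (d : V ⟶ D) :
    bIso β hz' (g ≫ d) ≫ φ = φ ≫ bIso β hz d := by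
  subst hz hz'
  have e : g = ℋ.p.map φ := by
    have := IsHomLift.fac' ℋ.p g φ
    simpa using this.symm
  subst e
  have := β.natural φ (eqToHom rfl ≫ d : ℋ.p.obj z ⟶ D)
  unfold bIso
  rw [← this]
  congr 4
  change eqToHom rfl ≫ ℋ.p.map φ ≫ d = ℋ.p.map φ ≫ eqToHom rfl ≫ d
  simp

theorem bIso_existsUnique (hℋ : FibCat.IsFibGrpd ℋ.p) (β : Gerb.Banding ℋ (yonedaGrpObj D)) {z : ℋ.obj} {V : C}
    (hz : ℋ.p.obj z = V) (k : z ⟶ z) (hk : ℋ.p.IsHomLift (𝟙 V) k) : ∃! d : V ⟶ D, bIso β hz d = k := by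
  subst hz
  obtain ⟨d, hd⟩ := (β.iso z).surjective (Global.mkAut hℋ k hk)
  refine ⟨d, ?_, ?_⟩
  · change (β.iso z (eqToHom rfl ≫ d : ℋ.p.obj z ⟶ D)).hom.1 = k
    have : (eqToHom rfl ≫ d : ℋ.p.obj z ⟶ D) = d := by simp
    rw [this, hd]
    rfl
  · intro d' hd'
    apply (β.iso z).injective
    rw [hd]
    apply Global.autO_ext
    have : (eqToHom rfl ≫ d' : ℋ.p.obj z ⟶ D) = d' := by simp
    have h2 : (β.iso z (eqToHom rfl ≫ d' : ℋ.p.obj z ⟶ D)).hom.1 = k := hd'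
    rw [this] at h2
    exact h2

/-- The action of a point of the band on triples. -/
def act (β : Gerb.Banding ℋ (yonedaGrpObj D)) {V : C} (d : V ⟶ D) (s : Sec.{w} y x V) : Sec.{w} y x V where
  a := s.a
  b := s.b
  θ := bIso β (y.w_obj (Over.mk s.a)) d ≫ s.θ
  hθ := Fib.lift_id_comp (bIso_lift β _ d) s.hθ

theorem act_rel (β : Gerb.Banding ℋ (yonedaGrpObj D)) {V V' : C} {g : V' ⟶ V} (d : V ⟶ D)
    {s' : Sec.{w} y x V'} {s : Sec.{w} y x V} (h : Rel g s' s) : Rel g (act β (g ≫ d) s') (act β d s) where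
  ha := h.ha
  hb := h.hb
  w := by
    change (bIso β _ (g ≫ d) ≫ s'.θ) ≫ x.map (up g h.hb) = y.map (up g h.ha) ≫ bIso β _ d ≫ s.θ
    rw [Category.assoc, h.w, ← Category.assoc, ← Category.assoc,
      bIso_nat β (y.w_obj (Over.mk s.a)) (y.w_obj (Over.mk s'.a)) (lift_map_up y g h.ha)]

theorem act_existsUnique (hℋ : FibCat.IsFibGrpd ℋ.p) (β : Gerb.Banding ℋ (yonedaGrpObj D)) {V : C}
    {s t : Sec.{w} y x V} (ha : s.a = t.a) (hb : s.b = t.b) : ∃! d : V ⟶ D, act β d t = s := by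
  obtain ⟨a, b, θ, hθ⟩ := s
  obtain ⟨a', b', θ', hθ'⟩ := t
  dsimp only at ha hb
  subst ha hb
  have : IsIso θ' := Fib.isIso hℋ (𝟙 V) θ' hθ'
  obtain ⟨d, hd, hu⟩ := bIso_existsUnique hℋ β (y.w_obj (Over.mk a)) (θ ≫ inv θ')
    (Fib.lift_id_comp hθ (Fib.lift_inv hθ'))
  refine ⟨d, ?_, ?_⟩
  · change (⟨a, b, bIso β _ d ≫ θ', _⟩ : Sec.{w} y x V) = _
    congr 1
    rw [hd]
    simp
  · intro d' hd'
    apply hu
    have h1 : (⟨a, b, bIso β (y.w_obj (Over.mk a)) d' ≫ θ', Fib.lift_id_comp (bIso_lift β _ d') hθ'⟩ :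
      Sec.{w} y x V) = ⟨a, b, θ, hθ⟩ := hd'
    have h2 : bIso β (y.w_obj (Over.mk a)) d' ≫ θ' = θ := by
      injection h1
    rw [← h2]
    simp

end K895.Tri
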