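import Groth.Agent.AlgSp.K594.Local
import Mathlib.AlgebraicGeometry.Morphisms.FlatDescent

/-!
# Descent of properties of morphisms of schemes along a jointly surjective family of flat lfp morphisms (helper895)
-/

set_option autoImplicit false
set_option backward.isDefEq.respectTransparency.types false

universe v u

open CategoryTheory CategoryTheory.Limits AlgebraicGeometry MorphismProperty

namespace K895.FppfDesc

/-- Flatness codescends along faithfully flat ring maps. -/
theorem flat_codescends : RingHom.CodescendsAlong.{u} RingHom.Flat RingHom.FaithfullyFlat := by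
  refine RingHom.CodescendsAlong.mk _ RingHom.Flat.respectsIso fun R S T _ _ _ _ _ h h' ↦ ?_
  rw [RingHom.flat_algebraMap_iff] at h' ⊢
  rw [RingHom.faithfullyFlat_algebraMap_iff] at h
  exact Module.Flat.of_flat_tensorProduct R T S

theorem flat_descends : MorphismProperty.DescendsAlong @Flat
    (@Surjective ⊓ @Flat ⊓ @QuasiCompact : MorphismProperty Scheme.{u}) :=
  HasRingHomProperty.descendsAlong_flat flat_codescends

theorem of_family (P : MorphismProperty Scheme.{u}) [P.IsStableUnderBaseChange] [IsZariskiLocalAtTarget P]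
    [P.DescendsAlong (@Surjective ⊓ @Flat ⊓ @LocallyOfFinitePresentation)] {X Y : Scheme.{u}} (f : X ⟶ Y)
    {I : Type v} (V : I → Scheme.{u}) (g : ∀ i, V i ⟶ Y) (h1 : ∀ i, Flat (g i))
    (h2 : ∀ i, LocallyOfFinitePresentation (g i)) (h3 : ∀ y : Y, ∃ i, y ∈ Set.range (g i))
    (h : ∀ i, P (pullback.snd f (g i))) : P f := by
  choose j hj using h3
  have h4 := K594.Local.prop_of_sigma P f (fun y : Y => V (j y)) (fun y => g (j y)) (fun y => h (j y))
  refine MorphismProperty.of_pullback_snd_of_descendsAlong (P := P)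
    (Q := @Surjective ⊓ @Flat ⊓ @LocallyOfFinitePresentation) ⟨⟨?_, ?_⟩, ?_⟩ h4
  · refine ⟨fun y => ?_⟩
    obtain ⟨x, hx⟩ := hj y
    refine ⟨Sigma.ι (fun y : Y => V (j y)) y x, ?_⟩
    rw [← Scheme.Hom.comp_apply, Sigma.ι_desc]
    exact hx
  · have := fun i => h1 i
    exact IsZariskiLocalAtSource.sigmaDesc (P := @Flat) (fun y => h1 (j y))
  · exact IsZariskiLocalAtSource.sigmaDesc (P := @LocallyOfFinitePresentation) (fun y => h2 (j y))

theorem flat_of_family {X Y : Scheme.{u}} (f : X ⟶ Y)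
    {I : Type v} (V : I → Scheme.{u}) (g : ∀ i, V i ⟶ Y) (h1 : ∀ i, Flat (g i))
    (h2 : ∀ i, LocallyOfFinitePresentation (g i)) (h3 : ∀ y : Y, ∃ i, y ∈ Set.range (g i))
    (h : ∀ i, Flat (pullback.snd f (g i))) : Flat f := by
  have := flat_descends.{u}
  exact of_family @Flat f V g h1 h2 h3 h

theorem lfp_of_family {X Y : Scheme.{u}} (f : X ⟶ Y)
    {I : Type v} (V : I → Scheme.{u}) (g : ∀ i, V i ⟶ Y) (h1 : ∀ i, Flat (g i))
    (h2 : ∀ i, LocallyOfFinitePresentation (g i)) (h3 : ∀ y : Y, ∃ i, y ∈ Set.range (g i))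
    (h : ∀ i, LocallyOfFinitePresentation (pullback.snd f (g i))) : LocallyOfFinitePresentation f :=
  of_family @LocallyOfFinitePresentation f V g h1 h2 h3 h

theorem smooth_of_family {X Y : Scheme.{u}} (f : X ⟶ Y)
    {I : Type v} (V : I → Scheme.{u}) (g : ∀ i, V i ⟶ Y) (h1 : ∀ i, Flat (g i))
    (h2 : ∀ i, LocallyOfFinitePresentation (g i)) (h3 : ∀ y : Y, ∃ i, y ∈ Set.range (g i))
    (h : ∀ i, Smooth (pullback.snd f (g i))) : Smooth f :=
  of_family @Smooth f V g h1 h2 h3 h

theorem surjective_of_family {X Y : Scheme.{u}} (f : X ⟶ Y)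
    {I : Type v} (V : I → Scheme.{u}) (g : ∀ i, V i ⟶ Y) (h1 : ∀ i, Flat (g i))
    (h2 : ∀ i, LocallyOfFinitePresentation (g i)) (h3 : ∀ y : Y, ∃ i, y ∈ Set.range (g i))
    (h : ∀ i, Surjective (pullback.snd f (g i))) : Surjective f :=
  of_family @Surjective f V g h1 h2 h3 h

end K895.FppfDesc
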