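import Groth.Agent.Gerb.K895.Chart
import Groth.Agent.Gerb.K895.FppfDesc
import Groth.Agent.Gerb.K895.Fppf
import Groth.Agent.Gerb.K895.Equiv
import Mathlib.AlgebraicGeometry.Morphisms.FinitePresentation

/-!
# Two atlases of a banded gerbe: the chart of `T ×_ℋ U` is flat over `T × U` (helper895)
-/

set_option autoImplicit false
set_option backward.isDefEq.respectTransparency false
set_option backward.isDefEq.respectTransparency.types false

universe u₂ u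

open CategoryTheory CategoryTheory.Limits AlgebraicGeometry Opposite K606.YonSec

namespace K895.Tri

variable {S : Scheme.{u}} {ℋ : BasedCategory.{u, u₂} (Over S)} {T U : Over S}

open CartesianMonoidalCategory MonoidalCategory

variable {y : FibCat.overCat T ⥤ᵇ ℋ} {x : FibCat.overCat U ⥤ᵇ ℋ}

/-- Locally there are triples with given `a` and `b`. -/
theorem exists_cover (hℋ : FibCat.IsFibGrpd ℋ.p)
    (hg : Gerb.LocSurjHom (QuotSh.J Scheme.fppfPrecoverage S) (FibCat.toSelf ℋ)) {V₀ : Over S} (a : V₀ ⟶ T)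
    (b : V₀ ⟶ U) : ∃ R ∈ QuotSh.J Scheme.fppfPrecoverage S V₀, ∀ ⦃V : Over S⦄ (w : V ⟶ V₀), R w →
      ∃ τ : Sec.{u+1} y x V, τ.a = w ≫ a ∧ τ.b = w ≫ b := by
  obtain ⟨R, hR, h⟩ := Equiv.locSurjHom_toSelf_iff.1 hg V₀ (y.obj (Over.mk a)) (x.obj (Over.mk b))
    (y.w_obj _) (x.w_obj _)
  refine ⟨R, hR, fun V w hw => ?_⟩
  obtain ⟨x₀, φ, ψ, hφ, hψ⟩ := h w hw
  obtain ⟨χ₁, h1, -, -, -⟩ := Fib.exists_iso hℋ w φ (y.map (up w (a := a) rfl)) hφ (lift_map_up y w rfl)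
  obtain ⟨χ₂, -, h2, -, -⟩ := Fib.exists_iso hℋ w ψ (x.map (up w (a := b) rfl)) hψ (lift_map_up x w rfl)
  exact ⟨⟨w ≫ a, w ≫ b, χ₁.hom ≫ χ₂.inv, Fib.lift_id_comp h1 h2⟩, rfl, rfl⟩

variable {D : Over S} [GrpObj D]

/-- For an étale surjective chart `p` of the sheaf of triples, `P ⟶ T × U` has any property which is fppf local on the
target and satisfied by étale surjective morphisms to `V × D` followed by the projection to `V`. -/
theorem chart_prop (hℋ : FibCat.IsFibGrpd ℋ.p)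
    (hg : Gerb.LocSurjHom (QuotSh.J Scheme.fppfPrecoverage S) (FibCat.toSelf ℋ))
    (β : Gerb.Banding ℋ (yonedaGrpObj D))
    (hsh : Presheaf.IsSheaf (AlgSp.J S) (psh.{u+1} hℋ y x)) {P : Over S}
    (p : (AlgSp.yon S).obj P ⟶ (⟨psh.{u+1} hℋ y x, hsh⟩ : AlgSp.Sp S)) (s₀ : Sec.{u+1} y x P)
    (hs₀ : sec p = s₀) (hp : AlgSp.RepWith @Etale p) (hp' : AlgSp.RepWith @Surjective p)
    (Q : MorphismProperty Scheme.{u}) [Q.IsStableUnderBaseChange] [IsZariskiLocalAtTarget Q]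
    [Q.DescendsAlong (@Surjective ⊓ @Flat ⊓ @LocallyOfFinitePresentation)]
    (hQ : ∀ (V : Over S) ⦃X : Scheme.{u}⦄ (q : X ⟶ (V ⊗ D).left), Etale q → Surjective q →
      Q (q ≫ (fst V D).left)) :
    Q (lift s₀.a s₀.b).left := by
  obtain ⟨R, hR, h⟩ := exists_cover (y := y) (x := x) hℋ hg (fst T U) (snd T U)
  obtain ⟨I, V, w, h0, h1, h2, h3⟩ := Fppf.exists_family_of_mem hR
  refine FppfDesc.of_family Q (lift s₀.a s₀.b).left (fun i => (V i).left) (fun i => (w i).left) h1 h2 h3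
    fun i => ?_
  obtain ⟨τ, ha, hb⟩ := h (w i) (h0 i)
  have hlift : lift τ.a τ.b = w i := by
    rw [ha, hb]
    apply CartesianMonoidalCategory.hom_ext <;> simp
  obtain ⟨τ', hτ'⟩ := Rel.exists hℋ (fst (V i) D) τ
  obtain ⟨P'', q'', g', sq⟩ := hp.1
    (ofSec (F := (⟨psh.{u+1} hℋ y x, hsh⟩ : AlgSp.Sp S)) (act β (snd (V i) D) τ'))
  obtain ⟨g'', rfl⟩ := (AlgSp.yon S).map_surjective g'
  have hsq := isPullback_chart hℋ β hsh p s₀ hs₀ τ τ' hτ' g'' q'' sq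
  rw [hlift] at hsq
  have hsq' := hsq.map (Over.forget S)
  have e1 : pullback.snd (lift s₀.a s₀.b).left (w i).left =
      hsq'.isoPullback.inv ≫ (q'' ≫ fst (V i) D).left := by
    rw [Iso.eq_inv_comp]
    exact hsq'.isoPullback_hom_snd
  rw [e1, Q.cancel_left_of_respectsIso]
  exact hQ (V i) q''.left (hp.2 _ _ _ sq) (hp'.2 _ _ _ sq)

end K895.Tri
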