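import Groth.Agent.Gerb.K895.AtlasFlat
import Groth.Agent.Gerb.K895.Glue
import Groth.Agent.S0115
import Groth.Agent.AlgSt.K735.Top
import Groth.Agent.AlgSp.K609.Points

/-!
# The atlas of a gerbe over the base with a flat finitely presented band is smooth over the base (helper895)
-/

set_option autoImplicit false
set_option backward.isDefEq.respectTransparency false
set_option backward.isDefEq.respectTransparency.types false

universe u₂ u

open CategoryTheory CategoryTheory.Limits AlgebraicGeometry Opposite K606.YonSec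

namespace K895.Tri

variable {S : Scheme.{u}} {ℋ : BasedCategory.{u, u₂} (Over S)} {T U : Over S}

open CartesianMonoidalCategory MonoidalCategory

variable {y : FibCat.overCat T ⥤ᵇ ℋ} {x : FibCat.overCat U ⥤ᵇ ℋ} {D : Over S} [GrpObj D]

theorem chart_flat (hℋ : FibCat.IsFibGrpd ℋ.p)
    (hg : Gerb.LocSurjHom (QuotSh.J Scheme.fppfPrecoverage S) (FibCat.toSelf ℋ))
    (β : Gerb.Banding ℋ (yonedaGrpObj D)) [Flat D.hom]
    (hsh : Presheaf.IsSheaf (AlgSp.J S) (psh.{u+1} hℋ y x)) {P : Over S}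
    (p : (AlgSp.yon S).obj P ⟶ (⟨psh.{u+1} hℋ y x, hsh⟩ : AlgSp.Sp S)) (s₀ : Sec.{u+1} y x P)
    (hs₀ : sec p = s₀) (hp : AlgSp.RepWith @Etale p) (hp' : AlgSp.RepWith @Surjective p) :
    Flat (lift s₀.a s₀.b).left := by
  have := FppfDesc.flat_descends.{u}
  refine chart_prop hℋ hg β hsh p s₀ hs₀ hp hp' @Flat fun V X q hq hq' => ?_
  have : Flat (fst V D).left := by rw [Over.fst_left]; infer_instance
  exact (inferInstance : Flat (q ≫ (fst V D).left))

theorem chart_lfp (hℋ : FibCat.IsFibGrpd ℋ.p)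
    (hg : Gerb.LocSurjHom (QuotSh.J Scheme.fppfPrecoverage S) (FibCat.toSelf ℋ))
    (β : Gerb.Banding ℋ (yonedaGrpObj D)) [LocallyOfFinitePresentation D.hom]
    (hsh : Presheaf.IsSheaf (AlgSp.J S) (psh.{u+1} hℋ y x)) {P : Over S}
    (p : (AlgSp.yon S).obj P ⟶ (⟨psh.{u+1} hℋ y x, hsh⟩ : AlgSp.Sp S)) (s₀ : Sec.{u+1} y x P)
    (hs₀ : sec p = s₀) (hp : AlgSp.RepWith @Etale p) (hp' : AlgSp.RepWith @Surjective p) :
    LocallyOfFinitePresentation (lift s₀.a s₀.b).left := by
  refine chart_prop hℋ hg β hsh p s₀ hs₀ hp hp' @LocallyOfFinitePresentation fun V X q hq hq' => ?_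
  have : LocallyOfFinitePresentation (fst V D).left := by rw [Over.fst_left]; infer_instance
  exact (inferInstance : LocallyOfFinitePresentation (q ≫ (fst V D).left))

theorem surjective_hom (D : Over S) [GrpObj D] : Surjective D.hom := by
  have h : (MonObj.one (X := D) : 𝟙_ (Over S) ⟶ D).left ≫ D.hom = 𝟙 S := Over.w _
  constructor
  intro s
  refine ⟨(MonObj.one (X := D) : 𝟙_ (Over S) ⟶ D).left s, ?_⟩
  rw [← Scheme.Hom.comp_apply, h]
  rfl

theorem chart_surjective (hℋ : FibCat.IsFibGrpd ℋ.p)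
    (hg : Gerb.LocSurjHom (QuotSh.J Scheme.fppfPrecoverage S) (FibCat.toSelf ℋ))
    (β : Gerb.Banding ℋ (yonedaGrpObj D))
    (hsh : Presheaf.IsSheaf (AlgSp.J S) (psh.{u+1} hℋ y x)) {P : Over S}
    (p : (AlgSp.yon S).obj P ⟶ (⟨psh.{u+1} hℋ y x, hsh⟩ : AlgSp.Sp S)) (s₀ : Sec.{u+1} y x P)
    (hs₀ : sec p = s₀) (hp : AlgSp.RepWith @Etale p) (hp' : AlgSp.RepWith @Surjective p) :
    Surjective (lift s₀.a s₀.b).left := by
  have := surjective_hom D
  refine chart_prop hℋ hg β hsh p s₀ hs₀ hp hp' @Surjective fun V X q hq hq' => ?_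
  have : Surjective (fst V D).left := by rw [Over.fst_left]; infer_instance
  exact (inferInstance : Surjective (q ≫ (fst V D).left))

/-- `T ×_S U ⟶ T` is smooth and surjective. -/
theorem fst_smooth_surjective (hℋ : FibCat.IsFibGrpd ℋ.p)
    (hg : Gerb.LocSurjHom (QuotSh.J Scheme.fppfPrecoverage S) (FibCat.toSelf ℋ))
    (β : Gerb.Banding ℋ (yonedaGrpObj D)) [Flat D.hom] [LocallyOfFinitePresentation D.hom]
    (hx : AlgSt.RepByAlgSpWith (AlgSp.LocP @Smooth) x) (hx' : AlgSt.RepByAlgSpWith AlgSp.IsSurjectiveMor x)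
    (y : FibCat.overCat T ⥤ᵇ ℋ) : Smooth (fst T U).left ∧ Surjective (fst T U).left := by
  have i1 := K735.Top.locP_respectsIso (S := S) @Smooth
  have i2 := K735.Top.isSurjectiveMor_respectsIso (S := S)
  obtain ⟨hsh, hA, h1⟩ := (K739.Rep.repPsh_iff (K739.Rep.isoInv_of_respectsIso _) _).1
    (repPsh_fstMap hℋ hx y)
  obtain ⟨_, _, h2⟩ := (K739.Rep.repPsh_iff (K739.Rep.isoInv_of_respectsIso _) _).1
    (repPsh_fstMap hℋ hx' y)
  obtain ⟨P, p, hp, hp'⟩ := hA.atlas
  let s₀ : Sec.{u+1} y x P := sec (F := (⟨psh.{u+1} hℋ y x, hsh⟩ : AlgSp.Sp S)) p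
  let pr : (⟨psh.{u+1} hℋ y x, hsh⟩ : AlgSp.Sp S) ⟶ (AlgSp.yon S).obj T := ObjectProperty.homMk (fstMap hℋ y x)
  have hpr : p ≫ pr = (AlgSp.yon S).map s₀.a := by
    apply sec_injective
    rw [sec_comp, sec_map]
    rfl
  have ha : Smooth s₀.a.left := by
    refine h1 p (𝟙 _) s₀.a hp (AlgSp.repWith_id _ T) ?_
    rw [Category.comp_id]
    exact hpr
  have ha' : Surjective s₀.a.left := by
    constructor
    intro t
    obtain ⟨ξ, hξ⟩ := h2 (AlgSp.Points.schemeHomeo T t)
    obtain ⟨z, rfl⟩ := K609.Points.surjective_map_of_repWith_surjective hp' ξ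
    obtain ⟨z', rfl⟩ := (AlgSp.Points.schemeHomeo P).surjective z
    refine ⟨z', ?_⟩
    apply (AlgSp.Points.schemeHomeo T).injective
    rw [← AlgSp.Points.map_yon_map_apply, ← hpr, AlgSp.Points.map_comp]
    exact hξ
  have c1 := chart_flat hℋ hg β hsh p s₀ rfl hp hp'
  have c2 := chart_lfp hℋ hg β hsh p s₀ rfl hp hp'
  have c3 := chart_surjective hℋ hg β hsh p s₀ rfl hp hp'
  have e : (lift s₀.a s₀.b).left ≫ (fst T U).left = s₀.a.left := by
    rw [← Over.comp_left, lift_fst]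
  constructor
  · have : Smooth ((lift s₀.a s₀.b).left ≫ (fst T U).left) := by rw [e]; exact ha
    exact Groth.Agent.S0115.result (lift s₀.a s₀.b).left (fst T U).left
  · have : Surjective ((lift s₀.a s₀.b).left ≫ (fst T U).left) := by rw [e]; exact ha'
    exact Surjective.of_comp (lift s₀.a s₀.b).left (fst T U).left

/-- The scheme under an atlas of a gerbe over the base with a flat finitely presented band is smooth and surjective
over the base. -/
theorem smooth_surjective_hom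
    (hg : Gerb.IsGerbe (QuotSh.J Scheme.fppfPrecoverage S) ℋ)
    (β : Gerb.Banding ℋ (yonedaGrpObj D)) [Flat D.hom] [LocallyOfFinitePresentation D.hom]
    (hx : AlgSt.RepByAlgSpWith (AlgSp.LocP @Smooth) x) (hx' : AlgSt.RepByAlgSpWith AlgSp.IsSurjectiveMor x) :
    Smooth U.hom ∧ Surjective U.hom := by
  have hℋ : FibCat.IsFibGrpd ℋ.p := hg.1.1
  obtain ⟨R, hR, h⟩ := Equiv.locSurjObj_toSelf_iff.1 hg.2.1 (Over.mk (𝟙 S))
  obtain ⟨I, V, w, h0, h1, h2, h3⟩ := Fppf.exists_family_of_mem hR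
  have hw : ∀ i, (w i).left = (V i).hom := fun i => by
    have := Over.w (w i)
    simpa using this
  have key : ∀ i, Smooth (pullback.snd U.hom (w i).left) ∧ Surjective (pullback.snd U.hom (w i).left) := by
    intro i
    obtain ⟨t, ht⟩ := h (w i) (h0 i)
    obtain ⟨k1, k2⟩ := fst_smooth_surjective hℋ hg.2.2 β hx hx' (Glue.yo hℋ t ht)
    rw [Over.fst_left] at k1 k2
    rw [hw]
    have e : pullback.snd U.hom (V i).hom = (pullbackSymmetry _ _).hom ≫ pullback.fst (V i).hom U.hom := by simp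
    rw [e]
    exact ⟨inferInstance, inferInstance⟩
  exact ⟨FppfDesc.smooth_of_family U.hom (fun i => (V i).left) (fun i => (w i).left) h1 h2 h3 fun i => (key i).1,
    FppfDesc.surjective_of_family U.hom (fun i => (V i).left) (fun i => (w i).left) h1 h2 h3 fun i => (key i).2⟩

end K895.Tri
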