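import Groth.Agent.Gerb.K895.Tri
import Groth.Agent.AlgSp.K613.Basic

/-!
# The sheaf of triples of two schemes over a stack (helper895)

For an atlas-like `x : overCat U ⥤ᵇ ℋ` with `RepByAlgSpWith P x` and any `y : overCat T ⥤ᵇ ℋ`, the presheaf
`K895.Tri.psh` of triples `(a, b, θ : y(a) ≅ x(b))` is an algebraic space with `(a, b, θ) ↦ a` in `P`.
-/

set_option autoImplicit false
set_option backward.isDefEq.respectTransparency false
set_option backward.isDefEq.respectTransparency.types false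

universe v₂ u₂ u

open CategoryTheory CategoryTheory.Limits AlgebraicGeometry Opposite

namespace K895.Tri

variable {S : Scheme.{u}} {ℋ : BasedCategory.{u, u₂} (Over S)} {T U : Over S}

/-- The first projection. -/
noncomputable def fstMap (hℋ : FibCat.IsFibGrpd ℋ.p) (y : FibCat.overCat T ⥤ᵇ ℋ) (x : FibCat.overCat U ⥤ᵇ ℋ) :
    (psh.{u+1} hℋ y x : AlgSp.PSp S) ⟶ (AlgSp.pyon S).obj T where
  app V := ↾fun s => ⟨s.a⟩
  naturality V V' g := by
    ext s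
    exact congrArg ULift.up (map_rel hℋ g.unop s).ha

theorem fstMap_app (hℋ : FibCat.IsFibGrpd ℋ.p) (y : FibCat.overCat T ⥤ᵇ ℋ) (x : FibCat.overCat U ⥤ᵇ ℋ)
    (V : (Over S)ᵒᵖ) (s : Sec.{u+1} y x V.unop) : (fstMap hℋ y x).app V s = ⟨s.a⟩ := rfl

theorem prMap_toFp (hℋ : FibCat.IsFibGrpd ℋ.p) (y : FibCat.overCat T ⥤ᵇ ℋ) (x : FibCat.overCat U ⥤ᵇ ℋ) :
    K739.Rep.prMap (BasedFunctor.comp (toFp.{u+1} hℋ y x) (FibCat.fpFst y x)) = fstMap hℋ y x := by
  ext V s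
  refine (K739.Rep.prMap_app (BasedFunctor.comp (toFp.{u+1} hℋ y x) (FibCat.fpFst y x)) V.unop s).trans ?_
  apply ULift.ext
  change eqToHom _ ≫ s.a = s.a
  simp

theorem repPsh_fstMap {P : MorphismProperty (AlgSp.Sp S)} (hℋ : FibCat.IsFibGrpd ℋ.p)
    {x : FibCat.overCat U ⥤ᵇ ℋ} (hx : AlgSt.RepByAlgSpWith P x) (y : FibCat.overCat T ⥤ᵇ ℋ) :
    K739.Rep.RepPsh P (fstMap hℋ y x) := by
  rw [← prMap_toFp]
  exact (K739.Rep.repAt_iff_repPsh _ (toFp.{u+1} hℋ y x) (isEquivOver_toFp hℋ y x)).1 (hx T y)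

end K895.Tri
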