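import Groth.Agent.Gerb.K895.Act
import Groth.Agent.Gerb.K895.TriSp
import Groth.Agent.AlgSp.K606.YonSec

/-!
# A chart of the space of triples is fppf locally étale over a torsor (helper895)

`isPullback_chart`: for a chart `p : h_P ⟶ F` of the sheaf `F` of triples `(a, b, θ)` and a triple over `W`, the base change of
`P ⟶ T × U` to `W` is the base change of the chart `p` to `W × D`, `D` the band.
-/

set_option autoImplicit false
set_option backward.isDefEq.respectTransparency false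
set_option backward.isDefEq.respectTransparency.types false

universe v₂ u₂ v u

open CategoryTheory CategoryTheory.Limits AlgebraicGeometry Opposite K606.YonSec

namespace K895.Tri

theorem isPullback_of_existsUnique {C : Type u} [Category.{v} C] {P X Y Z : C} {fst : P ⟶ X} {snd : P ⟶ Y}
    {f : X ⟶ Z} {g : Y ⟶ Z} (w : fst ≫ f = snd ≫ g)
    (h : ∀ (V : C) (a : V ⟶ X) (b : V ⟶ Y), a ≫ f = b ≫ g → ∃! k : V ⟶ P, k ≫ fst = a ∧ k ≫ snd = b) :
    IsPullback fst snd f g :=
  ⟨⟨w⟩, ⟨PullbackCone.IsLimit.mk _ (fun s => (h s.pt s.fst s.snd s.condition).choose)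
    (fun s => (h s.pt s.fst s.snd s.condition).choose_spec.1.1)
    (fun s => (h s.pt s.fst s.snd s.condition).choose_spec.1.2)
    (fun s m h1 h2 => (h s.pt s.fst s.snd s.condition).choose_spec.2 m ⟨h1, h2⟩)⟩⟩

variable {S : Scheme.{u}} {ℋ : BasedCategory.{u, u₂} (Over S)} {T U : Over S}

open CartesianMonoidalCategory MonoidalCategory

variable {D : Over S} [GrpObj D] {y : FibCat.overCat T ⥤ᵇ ℋ} {x : FibCat.overCat U ⥤ᵇ ℋ}

theorem isPullback_chart (hℋ : FibCat.IsFibGrpd ℋ.p) (β : Gerb.Banding ℋ (yonedaGrpObj D))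
    (hsh : Presheaf.IsSheaf (AlgSp.J S) (psh.{u+1} hℋ y x)) {P W P'' : Over S}
    (p : (AlgSp.yon S).obj P ⟶ (⟨psh.{u+1} hℋ y x, hsh⟩ : AlgSp.Sp S)) (s₀ : Sec.{u+1} y x P)
    (hs₀ : sec p = s₀) (τ : Sec.{u+1} y x W) (τ' : Sec.{u+1} y x (W ⊗ D)) (hτ : Rel (fst W D) τ' τ)
    (g'' : P'' ⟶ P) (q'' : P'' ⟶ W ⊗ D)
    (sq : IsPullback ((AlgSp.yon S).map g'') ((AlgSp.yon S).map q'') p
      (ofSec (F := (⟨psh.{u+1} hℋ y x, hsh⟩ : AlgSp.Sp S)) (act β (snd W D) τ'))) :
    IsPullback g'' (q'' ≫ fst W D) (lift s₀.a s₀.b) (lift τ.a τ.b) := by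
  -- the equation of the square on `V`-points
  have key : ∀ (V : Over S) (g : V ⟶ P) (h : V ⟶ W ⊗ D),
      (AlgSp.yon S).map g ≫ p = (AlgSp.yon S).map h ≫
        ofSec (F := (⟨psh.{u+1} hℋ y x, hsh⟩ : AlgSp.Sp S)) (act β (snd W D) τ') ↔
      (psh.{u+1} hℋ y x).map g.op s₀ = (psh.{u+1} hℋ y x).map h.op (act β (snd W D) τ') := by
    intro V g h
    constructor
    · intro e
      have := congrArg sec e
      rw [sec_map_comp, sec_map_comp, sec_ofSec, hs₀] at this
      exact this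
    · intro e
      apply sec_injective
      rw [sec_map_comp, sec_map_comp, sec_ofSec, hs₀]
      exact e
  -- the restriction of the twisted triple
  have hact : ∀ (V : Over S) (h : V ⟶ W ⊗ D) (t : Sec.{u+1} y x V), Rel (h ≫ fst W D) t τ →
      Rel h (act β (h ≫ snd W D) t) (act β (snd W D) τ') := by
    intro V h t ht
    have h1 : Rel h ((psh.{u+1} hℋ y x).map h.op τ') τ' := map_rel hℋ h τ'
    have h2 : (psh.{u+1} hℋ y x).map h.op τ' = t := Rel.unique hℋ (h1.comp hτ) ht
    rw [h2] at h1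
    exact act_rel β (snd W D) h1
  have hsq := (key _ g'' q'').1 sq.w
  refine isPullback_of_existsUnique ?_ ?_
  · have h1 := map_rel hℋ g'' s₀
    have h2 := map_rel hℋ q'' (act β (snd W D) τ')
    rw [hsq] at h1
    apply CartesianMonoidalCategory.hom_ext
    · rw [Category.assoc, lift_fst, Category.assoc, Category.assoc, lift_fst, ← h1.ha, h2.ha]
      change q'' ≫ τ'.a = _
      rw [hτ.ha]
    · rw [Category.assoc, lift_snd, Category.assoc, Category.assoc, lift_snd, ← h1.hb, h2.hb]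
      change q'' ≫ τ'.b = _
      rw [hτ.hb]
  · intro V g h₁ e
    have e1 : g ≫ s₀.a = h₁ ≫ τ.a := by
      have := congrArg (fun k => k ≫ fst T U) e
      simpa using this
    have e2 : g ≫ s₀.b = h₁ ≫ τ.b := by
      have := congrArg (fun k => k ≫ snd T U) e
      simpa using this
    set s := (psh.{u+1} hℋ y x).map g.op s₀ with hs
    set t := (psh.{u+1} hℋ y x).map h₁.op τ with ht
    have rs : Rel g s s₀ := map_rel hℋ g s₀
    have rt : Rel h₁ t τ := map_rel hℋ h₁ τ
    obtain ⟨d, hd, hdu⟩ := act_existsUnique hℋ β (s := s) (t := t) (by rw [rs.ha, rt.ha, e1])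
      (by rw [rs.hb, rt.hb, e2])
    have hh1 : lift h₁ d ≫ fst W D = h₁ := lift_fst _ _
    have hh2 : lift h₁ d ≫ snd W D = d := lift_snd _ _
    have h3 : Rel (lift h₁ d) s (act β (snd W D) τ') := by
      have := hact V (lift h₁ d) t (by rw [hh1]; exact rt)
      rwa [hh2, hd] at this
    have h4 : (AlgSp.yon S).map g ≫ p = (AlgSp.yon S).map (lift h₁ d) ≫
        ofSec (F := (⟨psh.{u+1} hℋ y x, hsh⟩ : AlgSp.Sp S)) (act β (snd W D) τ') :=
      (key _ _ _).2 ((map_eq_iff hℋ _ _ _).2 h3).symm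
    obtain ⟨k, hk⟩ := (AlgSp.yon S).map_surjective (sq.lift _ _ h4)
    have hk1 : k ≫ g'' = g := by
      apply (AlgSp.yon S).map_injective
      rw [Functor.map_comp, hk, sq.lift_fst]
    have hk2 : k ≫ q'' = lift h₁ d := by
      apply (AlgSp.yon S).map_injective
      rw [Functor.map_comp, hk, sq.lift_snd]
    refine ⟨k, ⟨hk1, by rw [← Category.assoc, hk2, hh1]⟩, ?_⟩
    rintro k' ⟨hk1', hk2'⟩
    have h5 : k' ≫ q'' = lift h₁ d := by
      apply CartesianMonoidalCategory.hom_ext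
      · rw [Category.assoc, hk2', hh1]
      · rw [hh2]
        apply hdu
        have h6 : (AlgSp.yon S).map g ≫ p = (AlgSp.yon S).map (k' ≫ q'') ≫
            ofSec (F := (⟨psh.{u+1} hℋ y x, hsh⟩ : AlgSp.Sp S)) (act β (snd W D) τ') := by
          rw [← hk1', Functor.map_comp, Functor.map_comp, Category.assoc, Category.assoc, sq.w]
        have h7 := (key _ _ _).1 h6
        have h8 := hact V (k' ≫ q'') t (by rw [Category.assoc, hk2']; exact rt)
        have h9 := (map_eq_iff hℋ _ _ _).2 h8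
        change act β _ t = s
        rw [← h9, ← h7]
    apply (AlgSp.yon S).map_injective
    apply sq.hom_ext
    · rw [← Functor.map_comp, ← Functor.map_comp, hk1, hk1']
    · rw [← Functor.map_comp, ← Functor.map_comp, hk2, h5]

end K895.Tri
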