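import Groth.Agent.Gerb.K895.SubFF
import Groth.Agent.ThetaS.K943.CoverExt

/-!
# Two gerbes over the same base with sections and the same automorphism sheaf are equivalent (helper895)

`K895.Cmp.exists_equiv`: `π' : ℬ ⥤ᵇ 𝒮`, `π : 𝒳 ⥤ᵇ 𝒮` gerbes (stacks whose morphisms are locally full over `𝒮`), `𝒮` fibred in
setoids, `y`, `x` sections, and `ι s : AutO (y s) ≃* AutO (x s)` natural in `s`.  Then there is an equivalence `ℬ ⥤ᵇ 𝒳` over `𝒮`.
-/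

set_option autoImplicit false
set_option backward.isDefEq.respectTransparency false
set_option backward.isDefEq.respectTransparency.types false

universe v₄ u₄ v₃ u₃ v₂ u₂ v u

open CategoryTheory K895.Fib K895.Glue

namespace K895.Cmp

variable {C : Type u} [Category.{v} C] {J : GrothendieckTopology C}
  {𝒮 : BasedCategory.{v₄, u₄} C} {ℬ : BasedCategory.{v₂, u₂} C} {𝒳 : BasedCategory.{v₃, u₃} C}

/-- The data of the comparison. -/
structure Data (π' : ℬ ⥤ᵇ 𝒮) (y : 𝒮 ⥤ᵇ ℬ) (π : 𝒳 ⥤ᵇ 𝒮) (x : 𝒮 ⥤ᵇ 𝒳) where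
  hS : ∀ {a b : 𝒮.obj} (φ ψ : a ⟶ b), 𝒮.p.map φ = 𝒮.p.map ψ → φ = ψ
  hB : FibCat.IsFibGrpd ℬ.p
  hX : FibCat.IsFibGrpd 𝒳.p
  ey : BasedFunctor.comp y π' ≅ BasedFunctor.id 𝒮
  ex : BasedFunctor.comp x π ≅ BasedFunctor.id 𝒮
  ι : ∀ s : 𝒮.obj, Gerb.AutO (y.obj s) ≃* Gerb.AutO (x.obj s)
  nat : ∀ {s' s : 𝒮.obj} (σ : s' ⟶ s) (α' : Gerb.AutO (y.obj s')) (α : Gerb.AutO (y.obj s)),
    α'.hom.1 ≫ y.map σ = y.map σ ≫ α.hom.1 → (ι s' α').hom.1 ≫ x.map σ = x.map σ ≫ (ι s α).hom.1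

variable {π' : ℬ ⥤ᵇ 𝒮} {y : 𝒮 ⥤ᵇ ℬ} {π : 𝒳 ⥤ᵇ 𝒮} {x : 𝒮 ⥤ᵇ 𝒳} (D : Data π' y π x)

theorem map_eq_of_lift {E : Type u₂} [Category.{v₂} E] {p : E ⥤ C} {a b : E} {V U : C} {f : V ⟶ U} {φ ψ : a ⟶ b}
    (h1 : p.IsHomLift f φ) (h2 : p.IsHomLift f ψ) : p.map φ = p.map ψ :=
  (IsHomLift.fac' p f φ).trans (IsHomLift.fac' p f ψ).symm

/-- The trivial objects. -/
def Triv (π' : ℬ ⥤ᵇ 𝒮) (y : 𝒮 ⥤ᵇ ℬ) (b : ℬ.obj) : Prop :=
  ∃ c : b ⟶ y.obj (π'.obj b), ℬ.p.IsHomLift (𝟙 (ℬ.p.obj b)) c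

theorem lift_yπ (π' : ℬ ⥤ᵇ 𝒮) (y : 𝒮 ⥤ᵇ ℬ) {b b' : ℬ.obj} {V U : C} {f : V ⟶ U} {m : b' ⟶ b}
    (hm : ℬ.p.IsHomLift f m) : ℬ.p.IsHomLift f (y.map (π'.map m)) :=
  lift_map y (lift_map π' hm)

theorem triv_of_hom (hB : FibCat.IsFibGrpd ℬ.p) {b b' : ℬ.obj} {V U : C} {f : V ⟶ U} {m : b' ⟶ b}
    {n : b' ⟶ y.obj (π'.obj b)} (hm : ℬ.p.IsHomLift f m) (hn : ℬ.p.IsHomLift f n) : Triv π' y b' := by
  have hb : ℬ.p.obj b' = V := obj_eq_of_lift_left hm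
  subst hb
  obtain ⟨c, hc, -⟩ := exists_fac hB (𝟙 _) f (y.map (π'.map m)) n (lift_yπ π' y hm)
    (lift_eq hn (Category.id_comp _).symm)
  exact ⟨c, hc⟩

include D in
theorem closedInto : K943.CoverExt.ClosedInto (Triv π' y) := by
  rintro b' b m ⟨c, hc⟩
  have hm : ℬ.p.IsHomLift (ℬ.p.map m) m := IsHomLift.map ℬ.p m
  exact triv_of_hom D.hB hm (lift_comp_id hm hc)

include D in
theorem covers (hg : Gerb.LocSurjHom J π') : SubFF.Covers J (Triv π' y) := by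
  intro b
  have h1 : 𝒮.p.IsHomLift (𝟙 (𝒮.p.obj (π'.obj b))) (appIso D.ey (π'.obj b)).inv := appIso_inv_lift D.ey rfl
  have h1' : 𝒮.p.IsHomLift (𝟙 (ℬ.p.obj b)) (appIso D.ey (π'.obj b)).inv := by
    rw [π'.w_obj] at h1; exact h1
  obtain ⟨R, hR, h⟩ := hg b (y.obj (π'.obj b)) (appIso D.ey (π'.obj b)).inv h1'
  refine ⟨R, hR, fun V f hf => ?_⟩
  obtain ⟨x₀, φ, ψ, hφ, hψ, -⟩ := h f hf
  exact ⟨x₀, φ, triv_of_hom D.hB hφ hψ, hφ⟩

include D in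
theorem triv_y (b : 𝒮.obj) : Triv π' y (y.obj b) := by
  have h1 : 𝒮.p.IsHomLift (𝟙 (ℬ.p.obj (y.obj b))) (appIso D.ey b).inv := appIso_inv_lift D.ey (y.w_obj b).symm
  exact ⟨y.map (appIso D.ey b).inv, lift_map y h1⟩

/-- The chosen trivialisation. -/
noncomputable def tr (b : ℬ.obj) (h : Triv π' y b) : b ⟶ y.obj (π'.obj b) := h.choose

theorem tr_lift (b : ℬ.obj) (h : Triv π' y b) : ℬ.p.IsHomLift (𝟙 (ℬ.p.obj b)) (tr b h) := h.choose_spec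

include D in
theorem tr_isIso (b : ℬ.obj) (h : Triv π' y b) : IsIso (tr b h) := Fib.isIso D.hB _ _ (tr_lift b h)

include D in
theorem exists_tw {b b' : ℬ.obj} (h : Triv π' y b) (h' : Triv π' y b') (m : b ⟶ b') :
    ∃ α : Gerb.AutO (y.obj (π'.obj b)), tr b h ≫ α.hom.1 ≫ y.map (π'.map m) = m ≫ tr b' h' := by
  have := tr_isIso D b h
  have hm : ℬ.p.IsHomLift (ℬ.p.map m) m := IsHomLift.map ℬ.p m
  obtain ⟨a, ha, e⟩ := exists_fac D.hB (𝟙 _) (ℬ.p.map m) (y.map (π'.map m)) (inv (tr b h) ≫ m ≫ tr b' h')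
    (lift_yπ π' y hm) (lift_eq (lift_id_comp (lift_inv (tr_lift b h)) (lift_comp_id hm (tr_lift b' h')))
      (Category.id_comp _).symm)
  have ha' : ℬ.p.IsHomLift (𝟙 (ℬ.p.obj (y.obj (π'.obj b)))) a := by
    rw [y.w_obj, π'.w_obj]; exact ha
  refine ⟨Global.mkAut D.hB a ha', ?_⟩
  rw [Global.mkAut_hom_val, e, IsIso.hom_inv_id_assoc]

include D in
theorem tw_unique {b b' : ℬ.obj} (h : Triv π' y b) (h' : Triv π' y b') (m : b ⟶ b')
    {α β : Gerb.AutO (y.obj (π'.obj b))} (e : tr b h ≫ α.hom.1 ≫ y.map (π'.map m) = m ≫ tr b' h')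
    (e' : tr b h ≫ β.hom.1 ≫ y.map (π'.map m) = m ≫ tr b' h') : α = β := by
  have := tr_isIso D b h
  have hm : ℬ.p.IsHomLift (ℬ.p.map m) m := IsHomLift.map ℬ.p m
  apply Global.autO_ext
  refine hom_unique D.hB (𝟙 _) (ℬ.p.map m) (y.map (π'.map m)) (lift_yπ π' y hm) _ _
    (Global.autO_lift' ((y.w_obj _).trans (π'.w_obj _)) α) (Global.autO_lift' ((y.w_obj _).trans (π'.w_obj _)) β) ?_
  rw [← cancel_epi (tr b h), e, e']

/-- The automorphism attached to a morphism of trivial objects. -/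
noncomputable def tw {b b' : ℬ.obj} (h : Triv π' y b) (h' : Triv π' y b') (m : b ⟶ b') :
    Gerb.AutO (y.obj (π'.obj b)) := (exists_tw D h h' m).choose

theorem tw_spec {b b' : ℬ.obj} (h : Triv π' y b) (h' : Triv π' y b') (m : b ⟶ b') :
    tr b h ≫ (tw D h h' m).hom.1 ≫ y.map (π'.map m) = m ≫ tr b' h' := (exists_tw D h h' m).choose_spec

theorem tw_id {b : ℬ.obj} (h : Triv π' y b) : tw D h h (𝟙 b) = 1 := by
  refine tw_unique D h h (𝟙 b) (tw_spec D h h (𝟙 b)) ?_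
  rw [Global.autO_one, π'.toFunctor.map_id, y.toFunctor.map_id]
  simp

/-- The functor on morphisms. -/
noncomputable def fmap {b b' : ℬ.obj} (h : Triv π' y b) (h' : Triv π' y b') (m : b ⟶ b') :
    x.obj (π'.obj b) ⟶ x.obj (π'.obj b') := (D.ι _ (tw D h h' m)).hom.1 ≫ x.map (π'.map m)

theorem fmap_id {b : ℬ.obj} (h : Triv π' y b) : fmap D h h (𝟙 b) = 𝟙 _ := by
  unfold fmap
  rw [tw_id, map_one, Global.autO_one, π'.toFunctor.map_id, x.toFunctor.map_id, Category.comp_id]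

theorem fmap_comp {b b' b'' : ℬ.obj} (h : Triv π' y b) (h' : Triv π' y b') (h'' : Triv π' y b'') (m : b ⟶ b')
    (m' : b' ⟶ b'') : fmap D h h'' (m ≫ m') = fmap D h h' m ≫ fmap D h' h'' m' := by
  have hm : ℬ.p.IsHomLift (ℬ.p.map m) m := IsHomLift.map ℬ.p m
  obtain ⟨a, ha, e⟩ := exists_fac D.hB (𝟙 _) (ℬ.p.map m) (y.map (π'.map m))
    (y.map (π'.map m) ≫ (tw D h' h'' m').hom.1) (lift_yπ π' y hm)
    (lift_eq (lift_comp_id (lift_yπ π' y hm)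
      (Global.autO_lift' ((y.w_obj _).trans (π'.w_obj _)) _)) (Category.id_comp _).symm)
  have ha' : ℬ.p.IsHomLift (𝟙 (ℬ.p.obj (y.obj (π'.obj b)))) a := by
    rw [y.w_obj, π'.w_obj]; exact ha
  have e1 := D.nat (π'.map m) (Global.mkAut D.hB a ha') (tw D h' h'' m') e
  have e2 : tw D h h'' (m ≫ m') = Global.mkAut D.hB a ha' * tw D h h' m := by
    refine tw_unique D h h'' (m ≫ m') (tw_spec D h h'' (m ≫ m')) ?_
    rw [Global.autO_mul, Global.mkAut_hom_val, π'.toFunctor.map_comp, y.toFunctor.map_comp]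
    have e3 : (tr b h ≫ (tw D h h' m).hom.1 ≫ y.map (π'.map m)) ≫ (tw D h' h'' m').hom.1 ≫ y.map (π'.map m') =
        (m ≫ m') ≫ tr b'' h'' := by
      rw [tw_spec, Category.assoc, tw_spec, Category.assoc]
    rw [← e3]
    simp only [Category.assoc]
    rw [← Category.assoc a, e, Category.assoc]
  unfold fmap
  rw [e2, map_mul, Global.autO_mul, π'.toFunctor.map_comp, x.toFunctor.map_comp, Category.assoc,
    Category.assoc]
  rw [← Category.assoc (D.ι _ (Global.mkAut D.hB a ha')).hom.1, e1, Category.assoc]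

theorem fmap_lift {b b' : ℬ.obj} (h : Triv π' y b) (h' : Triv π' y b') {V U : C} {f : V ⟶ U} {m : b ⟶ b'}
    (hm : ℬ.p.IsHomLift f m) : 𝒳.p.IsHomLift f (fmap D h h' m) := by
  have hb : ℬ.p.obj b = V := obj_eq_of_lift_left hm
  subst hb
  exact lift_id_comp (Global.autO_lift' ((x.w_obj _).trans (π'.w_obj _)) _) (lift_map x (lift_map π' hm))

/-- The functor on trivial objects. -/
noncomputable def fsub : K943.CoverExt.sub ℬ (Triv π' y) ⥤ᵇ 𝒳 :=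
  mkBased (𝒜 := K943.CoverExt.sub ℬ (Triv π' y)) (fun b => x.obj (π'.obj b.obj))
    (fun {b b'} m => fmap D b.property b'.property m.hom)
    (fun {b b'} m => fmap_lift D b.property b'.property (IsHomLift.map ℬ.p m.hom))
    (fun b => fmap_id D b.property)
    (fun {b b' b''} m m' => fmap_comp D b.property b'.property b''.property m.hom m'.hom)

theorem fsub_obj (b : (K943.CoverExt.sub ℬ (Triv π' y)).obj) : (fsub D).obj b = x.obj (π'.obj b.obj) := rfl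

theorem fsub_map {b b' : (K943.CoverExt.sub ℬ (Triv π' y)).obj} (m : b ⟶ b') :
    (fsub D).map m = fmap D b.property b'.property m.hom := rfl

theorem fmap_injective {b b' : ℬ.obj} (h : Triv π' y b) (h' : Triv π' y b') {m m' : b ⟶ b'}
    (hp : ℬ.p.map m = ℬ.p.map m') (e : fmap D h h' m = fmap D h h' m') : m = m' := by
  have := tr_isIso D b' h'
  have hm : ℬ.p.IsHomLift (ℬ.p.map m) m := IsHomLift.map ℬ.p m
  have hm' : ℬ.p.IsHomLift (ℬ.p.map m) m' := hp ▸ IsHomLift.map ℬ.p m'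
  have eπ : π'.map m = π'.map m' := by
    apply D.hS
    have h1 : 𝒮.p.IsHomLift (ℬ.p.map m) (π'.map m) := lift_map π' hm
    have h2 : 𝒮.p.IsHomLift (ℬ.p.map m) (π'.map m') := lift_map π' hm'
    exact (IsHomLift.fac' 𝒮.p (ℬ.p.map m) (π'.map m)).trans (IsHomLift.fac' 𝒮.p (ℬ.p.map m) (π'.map m')).symm
  have e1 : D.ι _ (tw D h h' m) = D.ι _ (tw D h h' m') := by
    apply Global.autO_ext
    refine hom_unique D.hX (𝟙 _) (ℬ.p.map m) (x.map (π'.map m)) (lift_map x (lift_map π' hm)) _ _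
      (Global.autO_lift' ((x.w_obj _).trans (π'.w_obj _)) _)
      (Global.autO_lift' ((x.w_obj _).trans (π'.w_obj _)) _) ?_
    unfold fmap at e
    rw [e, eπ]
  have e2 : tw D h h' m = tw D h h' m' := (D.ι _).injective e1
  rw [← cancel_mono (tr b' h'), ← tw_spec D h h' m, ← tw_spec D h h' m', e2, eπ]

theorem fmap_surjective {b b' : ℬ.obj} (h : Triv π' y b) (h' : Triv π' y b')
    (k : x.obj (π'.obj b) ⟶ x.obj (π'.obj b')) (hk : 𝒳.p.IsHomLift (𝟙 (ℬ.p.obj b)) k) :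
    ∃ m : b ⟶ b', fmap D h h' m = k := by
  have := tr_isIso D b' h'
  have hb' : 𝒮.p.obj (π'.obj b') = ℬ.p.obj b := (x.w_obj _).symm.trans (obj_eq_of_lift_right hk)
  let σ : π'.obj b ⟶ π'.obj b' := (appIso D.ex (π'.obj b)).inv ≫ π.map k ≫ (appIso D.ex (π'.obj b')).hom
  have hσ : 𝒮.p.IsHomLift (𝟙 (ℬ.p.obj b)) σ :=
    lift_id_comp (appIso_inv_lift D.ex (π'.w_obj b)) (lift_id_comp (lift_map π hk) (appIso_hom_lift D.ex hb'))
  obtain ⟨β, hβ, eβ⟩ := exists_fac D.hX (𝟙 _) (𝟙 (ℬ.p.obj b)) (x.map σ) k (lift_map x hσ)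
    (lift_eq hk (Category.id_comp _).symm)
  have hβ' : 𝒳.p.IsHomLift (𝟙 (𝒳.p.obj (x.obj (π'.obj b)))) β := by
    rw [x.w_obj, π'.w_obj]; exact hβ
  let α := (D.ι _).symm (Global.mkAut D.hX β hβ')
  let m : b ⟶ b' := tr b h ≫ α.hom.1 ≫ y.map σ ≫ inv (tr b' h')
  have hb'' : ℬ.p.obj b' = ℬ.p.obj b := (π'.w_obj b').symm.trans hb'
  have hm : ℬ.p.IsHomLift (𝟙 (ℬ.p.obj b)) m := by
    refine lift_id_comp (tr_lift b h) (lift_id_comp (Global.autO_lift' ((y.w_obj _).trans (π'.w_obj _)) _)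
      (lift_id_comp (lift_map y hσ) ?_))
    have := lift_inv (tr_lift b' h')
    rw [hb''] at this
    exact this
  have eπ : π'.map m = σ := by
    apply D.hS
    have h1 : 𝒮.p.IsHomLift (𝟙 (ℬ.p.obj b)) (π'.map m) := lift_map π' hm
    exact (IsHomLift.fac' 𝒮.p (𝟙 (ℬ.p.obj b)) (π'.map m)).trans
      (IsHomLift.fac' 𝒮.p (𝟙 (ℬ.p.obj b)) σ).symm
  have e1 : tw D h h' m = α := by
    refine tw_unique D h h' m (tw_spec D h h' m) ?_
    rw [eπ]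
    simp only [m, Category.assoc, IsIso.inv_hom_id, Category.comp_id]
  refine ⟨m, ?_⟩
  unfold fmap
  rw [e1, eπ]
  simp only [α, MulEquiv.apply_symm_apply, Global.mkAut_hom_val]
  exact eβ

theorem cov_mem (hg' : Gerb.LocSurjHom J π') [FibCat.IsFibGrpd ℬ.p] (b : ℬ.obj) :
    K943.CoverExt.cov (closedInto D) b ∈ J (ℬ.p.obj b) := by
  obtain ⟨R, hR, h⟩ := covers D hg' b
  refine J.superset_covering (fun V f hf => ?_) hR
  obtain ⟨a, m, ha, hm⟩ := h f hf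
  exact ⟨a, m, ha, hm⟩

/-- The extension of `fsub`. -/
theorem exists_ext (hg' : Gerb.LocSurjHom J π') (h𝒳 : Stk.IsStack J 𝒳) :
    ∃ F : ℬ ⥤ᵇ 𝒳, Nonempty (BasedFunctor.comp (K943.CoverExt.subI ℬ (Triv π' y)) F ≅ fsub D) := by
  have i1 := D.hB
  have i2 := D.hX
  exact K943.CoverExt.exists_ext (closedInto D) (fun b => h𝒳.2 _ (cov_mem D hg' b)) (fsub D)

theorem locSurjObj (hg : Gerb.LocSurjHom J π) (F : ℬ ⥤ᵇ 𝒳)
    (e : BasedFunctor.comp (K943.CoverExt.subI ℬ (Triv π' y)) F ≅ fsub D) : Gerb.LocSurjObj J F := by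
  intro z
  have h1 : 𝒮.p.IsHomLift (𝟙 (𝒮.p.obj (π.obj z))) (appIso D.ex (π.obj z)).inv := appIso_inv_lift D.ex rfl
  have h1' : 𝒮.p.IsHomLift (𝟙 (𝒳.p.obj z)) (appIso D.ex (π.obj z)).inv := by
    rw [π.w_obj] at h1; exact h1
  obtain ⟨R, hR, h⟩ := hg z (x.obj (π.obj z)) (appIso D.ex (π.obj z)).inv h1'
  refine ⟨R, hR, fun V f hf => ?_⟩
  obtain ⟨x₀, φ, ψ, hφ, hψ, -⟩ := h f hf
  -- `s' = π x₀`, with `x (π x₀) → x (π z)` over `f`
  obtain ⟨χ, hχ, -, -, -⟩ := exists_iso D.hX f ψ (x.map (π.map φ)) hψ (lift_map x (lift_map π hφ))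
  -- `F (y (π x₀)) → x (π y π x₀) → x (π x₀) → x₀ → z`
  let b : (K943.CoverExt.sub ℬ (Triv π' y)).obj := ⟨y.obj (π.obj x₀), triv_y D (π.obj x₀)⟩
  have hx₀ : 𝒳.p.obj x₀ = V := obj_eq_of_lift_left hφ
  have hb : (K943.CoverExt.sub ℬ (Triv π' y)).p.obj b = V := (y.w_obj _).trans ((π.w_obj _).trans hx₀)
  refine ⟨y.obj (π.obj x₀), (appIso e b).hom ≫ x.map (appIso D.ey (π.obj x₀)).hom ≫ χ.hom ≫ φ, ?_⟩
  refine lift_id_comp (appIso_hom_lift e hb) (lift_id_comp (lift_map x (appIso_hom_lift D.ey ?_))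
    (lift_id_comp hχ hφ))
  exact (π.w_obj _).trans hx₀

include D in
/-- The comparison of two gerbes over `𝒮` with sections and the same automorphism sheaf. -/
theorem exists_equiv (hℬ : Stk.IsStack J ℬ) (h𝒳 : Stk.IsStack J 𝒳) (h𝒮 : Stk.IsPrestack J 𝒮)
    (hg' : Gerb.LocSurjHom J π') (hg : Gerb.LocSurjHom J π) :
    ∃ F : ℬ ⥤ᵇ 𝒳, FibCat.IsEquivOver F ∧ Nonempty (BasedFunctor.comp F π ≅ π') := by
  have i1 := D.hB
  have i2 := D.hX
  have i3 := h𝒮.1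
  obtain ⟨F, ⟨e⟩⟩ := exists_ext D hg' h𝒳
  have hnat : ∀ {a a' : ℬ.obj} (h : Triv π' y a) (h' : Triv π' y a') (m : a ⟶ a'),
      F.map m ≫ (appIso e ⟨a', h'⟩).hom = (appIso e ⟨a, h⟩).hom ≫ fmap D h h' m := fun {a a'} h h' m =>
    appIso_naturality e (ObjectProperty.homMk m : (⟨a, h⟩ : (K943.CoverExt.sub ℬ (Triv π' y)).obj) ⟶ ⟨a', h'⟩)
  have hmap : ∀ {a a' : ℬ.obj} (h : Triv π' y a) (h' : Triv π' y a') (m : a ⟶ a'),
      F.map m = (appIso e ⟨a, h⟩).hom ≫ fmap D h h' m ≫ (appIso e ⟨a', h'⟩).inv := by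
    intro a a' h h' m
    rw [← Category.assoc, ← hnat h h' m, Category.assoc, Iso.hom_inv_id, Category.comp_id]
  refine ⟨F, SubFF.isEquivOver hℬ (LocEquiv.isPrestack_of_isStack h𝒳) F (covers D hg') ?_ ?_
    (locSurjObj D hg F e), ?_⟩
  · intro a ha m m' hm hm' eq
    have hp : ℬ.p.map m = ℬ.p.map m' :=
      (IsHomLift.eq_of_isHomLift ℬ.p (𝟙 (ℬ.p.obj a)) m).symm.trans
        (IsHomLift.eq_of_isHomLift ℬ.p (𝟙 (ℬ.p.obj a)) m')
    apply fmap_injective D ha ha hp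
    rw [hmap ha ha, hmap ha ha] at eq
    exact (cancel_mono (appIso e ⟨a, ha⟩).inv).1 ((cancel_epi (appIso e ⟨a, ha⟩).hom).1 eq)
  · intro a a' ha ha' k hk
    have hFa : 𝒳.p.obj (F.obj a') = ℬ.p.obj a := obj_eq_of_lift_right hk
    have hba : ℬ.p.obj a' = ℬ.p.obj a := (F.w_obj a').symm.trans hFa
    let k' : x.obj (π'.obj a) ⟶ x.obj (π'.obj a') :=
      (appIso e ⟨a, ha⟩).inv ≫ k ≫ (appIso e ⟨a', ha'⟩).hom
    have hk' : 𝒳.p.IsHomLift (𝟙 (ℬ.p.obj a)) k' :=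
      lift_id_comp (appIso_inv_lift (x := (⟨a, ha⟩ : (K943.CoverExt.sub ℬ (Triv π' y)).obj)) e rfl)
        (lift_id_comp hk (appIso_hom_lift (x := (⟨a', ha'⟩ : (K943.CoverExt.sub ℬ (Triv π' y)).obj)) e hba))
    obtain ⟨m, hm⟩ := fmap_surjective D ha ha' k' hk'
    refine ⟨m, ?_⟩
    rw [hmap ha ha', hm]
    simp [k']
  · let P := Triv π' y
    let α : BasedFunctor.comp (K943.CoverExt.subI ℬ P) (BasedFunctor.comp F π) ≅
        BasedFunctor.comp (K943.CoverExt.subI ℬ P) π' :=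
      BasedNatIso.mkNatIso (NatIso.ofComponents
        (fun b => (π.toFunctor.mapIso (appIso e b)) ≪≫ appIso D.ex (π'.obj b.obj))
        (fun {b b'} m => by
          apply D.hS
          have hm : ℬ.p.IsHomLift (ℬ.p.map m.hom) m.hom := IsHomLift.map ℬ.p m.hom
          have h1 : 𝒮.p.IsHomLift (𝟙 (ℬ.p.obj b.obj))
              (π.map (appIso e b).hom ≫ (appIso D.ex (π'.obj b.obj)).hom) :=
            lift_id_comp (lift_map π (appIso_hom_lift e rfl)) (appIso_hom_lift D.ex (π'.w_obj _))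
          have h1' : 𝒮.p.IsHomLift (𝟙 (ℬ.p.obj b'.obj))
              (π.map (appIso e b').hom ≫ (appIso D.ex (π'.obj b'.obj)).hom) :=
            lift_id_comp (lift_map π (appIso_hom_lift e rfl)) (appIso_hom_lift D.ex (π'.w_obj _))
          have h2 : 𝒮.p.IsHomLift (ℬ.p.map m.hom) (π.map (F.map m.hom) ≫
              (π.map (appIso e b').hom ≫ (appIso D.ex (π'.obj b'.obj)).hom)) :=
            lift_comp_id (lift_map π (lift_map F hm)) h1'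
          have h3 : 𝒮.p.IsHomLift (ℬ.p.map m.hom) ((π.map (appIso e b).hom ≫
              (appIso D.ex (π'.obj b.obj)).hom) ≫ π'.map m.hom) := lift_id_comp h1 (lift_map π' hm)
          have e1 := map_eq_of_lift h2 h3
          exact e1))
        (fun b => lift_id_comp (lift_map π (appIso_hom_lift e rfl)) (appIso_hom_lift D.ex (π'.w_obj _)))
    obtain ⟨β, -⟩ := K943.CoverExt.exists_ext_iso (closedInto D) (fun b => h𝒮.2 _ (cov_mem D hg' b)) α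
    exact ⟨β⟩

end K895.Cmp
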