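import Groth.Prelude.Def_StCoarse
import Groth.Prelude.Def_StGerb
import Groth.Agent.Gerb.K895.Over
import Groth.Agent.Gerb.K895.Fppf

/-!
# Coarse moduli spaces along a gerbe (helper895)
-/

set_option autoImplicit false
set_option backward.isDefEq.respectTransparency false
set_option backward.isDefEq.respectTransparency.types false

universe v' w' v w u

open CategoryTheory CategoryTheory.Limits AlgebraicGeometry Opposite K895.Fib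

namespace K895.Coarse

variable {S : Scheme.{u}} {𝒳 : BasedCategory.{v, w} (Over S)} {𝒴 : BasedCategory.{v', w'} (Over S)}
  {M : AlgSp.Sp S}

/-- the image of an object of the fibre -/
def fobj (F : 𝒳 ⥤ᵇ 𝒴) {T : Over S} (x : 𝒳.p.Fiber T) : 𝒴.p.Fiber T :=
  ⟨F.obj x.1, (F.w_obj x.1).trans x.2⟩

theorem fibSec_comp (F : 𝒳 ⥤ᵇ 𝒴) (π : 𝒴 ⥤ᵇ AlgSt.ofSp M) {T : Over S} (x : 𝒳.p.Fiber T) :
    AlgSt.fibSec (BasedFunctor.comp F π) x = AlgSt.fibSec π (fobj F x) := rfl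

/-- sections of isomorphic objects agree -/
theorem sec_eq {a b : (AlgSt.ofSp M).obj} (i : a ⟶ b) {T : Over S} (ha : a.base = T) (hb : b.base = T)
    (hi : (AlgSt.ofSp M).p.IsHomLift (𝟙 T) i) :
    M.obj.map (eqToHom ha.symm).op a.sec = M.obj.map (eqToHom hb.symm).op b.sec := by
  have h1 : i.hom = eqToHom ha ≫ eqToHom hb.symm := by
    have := @IsHomLift.fac' _ _ _ _ (AlgSt.ofSp M).p _ _ _ _ (𝟙 T) i hi
    rw [Category.id_comp] at this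
    exact this
  rw [← i.map_sec, ← Functor.map_comp_apply, ← op_comp, h1]
  congr 3
  simp

theorem fibSec_iso {π π' : 𝒳 ⥤ᵇ AlgSt.ofSp M} (e : π ≅ π') {T : Over S} (x : 𝒳.p.Fiber T) :
    AlgSt.fibSec π x = AlgSt.fibSec π' x :=
  sec_eq (appIso e x.1).hom ((π.w_obj x.1).trans x.2) ((π'.w_obj x.1).trans x.2) (appIso_hom_lift e x.2)

theorem fibSec_hom (π : 𝒳 ⥤ᵇ AlgSt.ofSp M) {T : Over S} {x y : 𝒳.p.Fiber T} (i : x ⟶ y) :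
    AlgSt.fibSec π x = AlgSt.fibSec π y :=
  sec_eq (π.map i.1) ((π.w_obj x.1).trans x.2) ((π.w_obj y.1).trans y.2) (lift_map π i.2)

theorem geomPtBij_iso {π π' : 𝒳 ⥤ᵇ AlgSt.ofSp M} (e : π ≅ π') (h : AlgSt.GeomPtBij π) : AlgSt.GeomPtBij π' := by
  intro Ω _ _ t
  obtain ⟨h1, h2⟩ := h Ω t
  refine ⟨fun m => ?_, fun x y hxy => h2 x y ?_⟩
  · obtain ⟨x, hx⟩ := h1 m
    exact ⟨x, (fibSec_iso e x).symm.trans hx⟩
  · rw [fibSec_iso e, fibSec_iso e, hxy]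

/-- an isomorphism in the fibre from a morphism over the identity -/
theorem fiber_iso (h𝒳 : FibCat.IsFibGrpd 𝒳.p) {T : Over S} {x y : 𝒳.p.Fiber T} (i : x.1 ⟶ y.1)
    (hi : 𝒳.p.IsHomLift (𝟙 T) i) : Nonempty (x ≅ y) := by
  have := isIso h𝒳 (𝟙 T) i hi
  exact ⟨⟨⟨i, hi⟩, ⟨inv i, lift_inv hi⟩, Subtype.ext (IsIso.hom_inv_id i), Subtype.ext (IsIso.inv_hom_id i)⟩⟩

theorem geomPtBij_comp_iff (h𝒳 : FibCat.IsFibGrpd 𝒳.p) (h𝒴 : FibCat.IsFibGrpd 𝒴.p) (F : 𝒳 ⥤ᵇ 𝒴)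
    (hF : Gerb.IsGerbeOver (QuotSh.J Scheme.fppfPrecoverage S) F) (π : 𝒴 ⥤ᵇ AlgSt.ofSp M) :
    AlgSt.GeomPtBij (BasedFunctor.comp F π) ↔ AlgSt.GeomPtBij π := by
  have key1 : ∀ (Ω : Type u) [Field Ω] [IsAlgClosed Ω] (t : Spec (CommRingCat.of Ω) ⟶ S)
      (y : 𝒴.p.Fiber (Over.mk t)), ∃ x : 𝒳.p.Fiber (Over.mk t),
        Nonempty (fobj F x ≅ y) := by
    intro Ω _ _ t y
    obtain ⟨R, hR, h⟩ := Over.locSurjObj_at hF.1 y.1 y.2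
    obtain ⟨x, g, hg⟩ := h (𝟙 _) (Fppf.algClosed Ω t hR)
    let x' : 𝒳.p.Fiber (Over.mk t) := ⟨x, (F.w_obj x).symm.trans (obj_eq_of_lift_left hg)⟩
    exact ⟨x', fiber_iso h𝒴 (x := fobj F x') (y := y) g hg⟩
  have key2 : ∀ (Ω : Type u) [Field Ω] [IsAlgClosed Ω] (t : Spec (CommRingCat.of Ω) ⟶ S)
      (x x' : 𝒳.p.Fiber (Over.mk t)),
        Nonempty (fobj F x ≅ fobj F x') → Nonempty (x ≅ x') := by
    rintro Ω _ _ t x x' ⟨i⟩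
    obtain ⟨R, hR, h⟩ := Over.locSurjHom_at hF.2 x.1 x'.1 i.hom.1 x.2 i.hom.2
    obtain ⟨x₀, φ, ψ, hφ, hψ, -⟩ := h (𝟙 _) (Fppf.algClosed Ω t hR)
    have := isIso h𝒳 (𝟙 _) φ hφ
    exact fiber_iso h𝒳 (inv φ ≫ ψ) (lift_id_comp (lift_inv hφ) hψ)
  constructor
  · intro h Ω _ _ t
    obtain ⟨h1, h2⟩ := h Ω t
    refine ⟨fun m => ?_, fun y y' hyy => ?_⟩
    · obtain ⟨x, hx⟩ := h1 m
      exact ⟨fobj F x, hx⟩
    · obtain ⟨x, ⟨i⟩⟩ := key1 Ω t y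
      obtain ⟨x', ⟨i'⟩⟩ := key1 Ω t y'
      obtain ⟨j⟩ := h2 x x' (by
        rw [fibSec_comp, fibSec_comp, fibSec_hom π i.hom, fibSec_hom π i'.hom, hyy])
      have hj : 𝒴.p.IsHomLift (𝟙 (Over.mk t)) (F.map j.hom.1) := lift_map F j.hom.2
      obtain ⟨k⟩ := fiber_iso h𝒴 (x := fobj F x) (y := fobj F x') (F.map j.hom.1) hj
      exact ⟨i.symm ≪≫ k ≪≫ i'⟩
  · intro h Ω _ _ t
    obtain ⟨h1, h2⟩ := h Ω t
    refine ⟨fun m => ?_, fun x x' hxx => key2 Ω t x x' (h2 _ _ hxx)⟩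
    obtain ⟨y, hy⟩ := h1 m
    obtain ⟨x, ⟨i⟩⟩ := key1 Ω t y
    exact ⟨x, by rw [fibSec_comp, fibSec_hom π i.hom, hy]⟩

end K895.Coarse
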