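import Groth.Agent.AlgSt.K737.OpenSt
import Groth.Agent.AlgSt.K734.RepSp2
import Groth.Agent.AlgSp.K598.SchImg
import Groth.Agent.AlgSp.K597.EtLoc
import Groth.Agent.AlgSp.K613.Chart
import Groth.Agent.AlgSt.K735.Top
import Groth.Agent.S0414

/-!
# Generic flatness for algebraic spaces over a reduced affine scheme, and for representable morphisms of stacks (helper895)
-/

set_option autoImplicit false
set_option backward.isDefEq.respectTransparency false
set_option backward.isDefEq.respectTransparency.types false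

universe v₃ u₃ v₂ u₂ w v u

open CategoryTheory CategoryTheory.Limits AlgebraicGeometry
open Opposite AlgSp K737.Open

namespace K895.GenFlat

variable {S : Scheme.{u}}

/-- the square of a restriction to an open subscheme, over `S` -/
theorem isPullback_opens {U T : Over S} (h : U ⟶ T) (W : T.left.Opens) :
    IsPullback (opensι U (h.left ⁻¹ᵁ W)) (Over.homMk (h.left ∣_ W) (by
      change (h.left ∣_ W) ≫ W.ι ≫ T.hom = (h.left ⁻¹ᵁ W).ι ≫ U.hom
      rw [morphismRestrict_ι_assoc, Over.w]) : opensOver U (h.left ⁻¹ᵁ W) ⟶ opensOver T W) h (opensι T W) :=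
  IsPullback.of_map (Over.forget S) (Over.OverMorphism.ext (morphismRestrict_ι h.left W).symm)
    (isPullback_morphismRestrict h.left W).flip

/-- Generic flatness for an algebraic space of finite type over a reduced affine scheme. -/
theorem sp {F : Sp S} {T : Over S} [IsAffine T.left] [IsReduced T.left] (π : F ⟶ (yon S).obj T)
    (hq : IsQuasiCompactMor π) (hl : LocP @LocallyOfFiniteType π) :
    ∃ W : T.left.Opens, Dense (W : Set T.left) ∧
      ∀ {F' : Sp S} (fst : F' ⟶ F) (snd : F' ⟶ (yon S).obj (opensOver T W)),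
        IsPullback fst snd π ((yon S).map (opensι T W)) →
          LocP @Flat snd ∧ LocP @LocallyOfFinitePresentation snd := by
  have hT : IsQuasiCompactSp ((yon S).obj T) := ⟨T, 𝟙 _, repWith_id _ _, repWith_id _ _, inferInstance⟩
  obtain ⟨U, a, h1, h2, h3⟩ := hq (IsAlgSpace.yon_obj T) hT (𝟙 _) (𝟙 F) π (IsPullback.of_horiz_isIso ⟨by simp⟩)
  have : CompactSpace ↥U.left := h3
  let h : U ⟶ T := (yon S).preimage (a ≫ π)
  have hh : (yon S).map h = a ≫ π := (yon S).map_preimage _
  have hlft : LocallyOfFiniteType h.left := hl a (𝟙 _) h h1 (repWith_id _ _) (by rw [Category.comp_id, hh])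
  obtain ⟨W, hW, hf, hp⟩ := Groth.Agent.S0414.result h.left
  refine ⟨W, hW, fun {F'} fst snd sq => ?_⟩
  have sq1 := isPullback_opens h W
  have sq2 := sq1.map (yon S)
  rw [hh] at sq2
  have sq3 : IsPullback ((yon S).map (opensι U (h.left ⁻¹ᵁ W)))
      ((yon S).map (Over.homMk (h.left ∣_ W) (by
      change (h.left ∣_ W) ≫ W.ι ≫ T.hom = (h.left ⁻¹ᵁ W).ι ≫ U.hom
      rw [morphismRestrict_ι_assoc, Over.w]) : opensOver U (h.left ⁻¹ᵁ W) ⟶ opensOver T W)) (a ≫ π)
      (𝟙 _ ≫ (yon S).map (opensι T W)) := by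
    rw [Category.id_comp]
    exact sq2
  obtain ⟨α, ha1, ha2, -, ha3⟩ := K597.exists_chart_bc' sq sq3 h1 h2 (repWith_id _ _) (repWith_id _ _)
  exact ⟨K597.locP_of_chart K597.etLoc_flat snd α (𝟙 _) _ ha1 ha2 (repWith_id _ _) ha3 hf,
    K597.locP_of_chart K597.etLoc_lfp snd α (𝟙 _) _ ha1 ha2 (repWith_id _ _) ha3 hp⟩

section Stack

variable {𝒳 : BasedCategory.{v₂, u₂} (Over S)} {𝒴 : BasedCategory.{v₃, u₃} (Over S)}

/-- Generic flatness for a morphism of stacks representable by algebraic spaces of finite type, over a reduced affine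
scheme mapping to the target. -/
theorem st (p : 𝒳 ⥤ᵇ 𝒴) (hq : AlgSt.RepByAlgSpWith IsQuasiCompactMor p)
    (hl : AlgSt.RepByAlgSpWith (LocP @LocallyOfFiniteType) p) {T : Over S} [IsAffine T.left] [IsReduced T.left]
    (y : AlgSt.ofSp ((yon S).obj T) ⥤ᵇ 𝒴) :
    ∃ W : T.left.Opens, Dense (W : Set T.left) ∧ ∃ (F : Sp S) (π : F ⟶ (yon S).obj (opensOver T W)),
      IsAlgSpace F ∧ K734.Rep.IsRep p (BasedFunctor.comp (AlgSt.ofSpMap ((yon S).map (opensι T W))) y) π ∧
        LocP @Flat π ∧ LocP @LocallyOfFinitePresentation π := by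
  obtain ⟨F, π, hF, hr, hπ⟩ := (K734.Rep.repByAlgSpWith_iff _ p).1 hq T y
  obtain ⟨F₁, π₁, hF₁, hr₁, hπ₁⟩ := (K734.Rep.repByAlgSpWith_iff _ p).1 hl T y
  obtain ⟨i, hi⟩ := hr.unique hr₁
  have hlft : LocP @LocallyOfFiniteType π := by
    rw [← hi]
    have := K735.Top.locP_respectsIso (S := S) @LocallyOfFiniteType
    exact (MorphismProperty.cancel_left_of_respectsIso (LocP @LocallyOfFiniteType) i.hom π₁).2 hπ₁
  obtain ⟨W, hW, H⟩ := sp π hπ hlft
  have sq := IsPullback.of_hasPullback π ((yon S).map (opensι T W))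
  obtain ⟨h1, h2⟩ := H _ _ sq
  exact ⟨W, hW, _, _, K613.Chart.isAlgSpace_pullback hF (IsAlgSpace.yon_obj _) (IsAlgSpace.yon_obj T) _ _,
    hr.baseChange sq, h1, h2⟩

end Stack

end K895.GenFlat
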