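import Groth.Agent.Gerb.K895.GenFlatSt
import Groth.Agent.AlgSt.K742.EvQ

/-!
# Generic flatness for representable morphisms to a reduced algebraic stack: the theorem (helper895)
-/

set_option autoImplicit false
set_option backward.isDefEq.respectTransparency false
set_option backward.isDefEq.respectTransparency.types false

universe v₃ u₃ v₂ u₂ w v u

open CategoryTheory CategoryTheory.Limits AlgebraicGeometry
open Opposite AlgSp K737.Open

namespace K895.GenFlatSt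

variable {S : Scheme.{u}} {𝒳 𝒴 : AlgSt.Cat S}

/-- the chart, on the category of the sheaf -/
noncomputable abbrev spChart {V : Over S} (v : FibCat.overCat V ⥤ᵇ 𝒳) (A : V.left.Opens) (W : (opensOver V A).left.Opens) :
    AlgSt.ofSp ((yon S).obj (opensOver (opensOver V A) W)) ⥤ᵇ 𝒳 :=
  BasedFunctor.comp (AlgSt.toOverCat (opensOver (opensOver V A) W)) (chart v A W)

/-- the choice of the dense opens -/
theorem exists_W (p : 𝒴 ⥤ᵇ 𝒳) (hq : AlgSt.RepByAlgSpWith IsQuasiCompactMor p)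
    (hl : AlgSt.RepByAlgSpWith (LocP @LocallyOfFiniteType) p) {V : Over S} (hV : IsReduced V.left)
    (v : FibCat.overCat V ⥤ᵇ 𝒳) :
    ∃ W : ∀ A : V.left.affineOpens, (opensOver V A.1).left.Opens, (∀ A, Dense (W A : Set (opensOver V A.1).left)) ∧
      ∀ A : V.left.affineOpens, ∃ (F : Sp S) (π : F ⟶ (yon S).obj (opensOver (opensOver V A.1) (W A))), IsAlgSpace F ∧
        K734.Rep.IsRep p (spChart v A.1 (W A)) π ∧ LocP @Flat π ∧
          LocP @LocallyOfFinitePresentation π := by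
  have h : ∀ A : V.left.affineOpens, ∃ W : (opensOver V A.1).left.Opens, Dense (W : Set (opensOver V A.1).left) ∧
      ∃ (F : Sp S) (π : F ⟶ (yon S).obj (opensOver (opensOver V A.1) W)), IsAlgSpace F ∧
        K734.Rep.IsRep p (spChart v A.1 W) π ∧ LocP @Flat π ∧
          LocP @LocallyOfFinitePresentation π := by
    intro A
    have h1 : IsAffine (opensOver V A.1).left := A.2
    have h2 : IsReduced (opensOver V A.1).left := isReduced_of_isOpenImmersion A.1.ι
    exact K895.GenFlat.st p hq hl (BasedFunctor.comp (AlgSt.toOverCat (opensOver V A.1))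
      (BasedFunctor.comp (AlgSt.overMap (opensι V A.1)) v))
  choose W hW using h
  exact ⟨W, fun A => (hW A).1, fun A => (hW A).2⟩

theorem repByAlgSpWith_fpFst {P : MorphismProperty Scheme.{u}} (hP : K597.EtLoc P) [P.IsStableUnderBaseChange]
    (hPl : AlgSp.IsLocalOnBase AlgSp.IsFppfCover (AlgSp.LocP (S := S) P))
    (h𝒳 : AlgSt.IsAlgStack Scheme.fppfPrecoverage 𝒳) (p : 𝒴 ⥤ᵇ 𝒳) (hp : AlgSt.RepByAlgSp1 p)
    {V : Over S} (v : FibCat.overCat V ⥤ᵇ 𝒳) (hv : AlgSt.RepByAlgSpWith (LocP @Smooth) v)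
    (W : ∀ A : V.left.affineOpens, (opensOver V A.1).left.Opens)
    (H : ∀ A : V.left.affineOpens, ∃ (F : Sp S) (π : F ⟶ (yon S).obj (opensOver (opensOver V A.1) (W A))), IsAlgSpace F ∧
        K734.Rep.IsRep p (spChart v A.1 (W A)) π ∧ LocP P π) :
    AlgSt.RepByAlgSpWith (LocP P) (FibCat.fpFst (AlgSt.subIncl 𝒳 (predOf (locus v W))) p) := by
  refine K734.Rep.repByAlgSpWith_of_local (K742.SmComp.stableBC_locP hP) hPl
    (K734.Rep.repByAlgSp1_fpFst p _ hp) (fun U y => ?_)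
  obtain ⟨R, hR, HR⟩ := exists_sieve h𝒳 v hv W U y
  refine ⟨R, hR, fun U' h hh => ?_⟩
  obtain ⟨A, m, ⟨i⟩⟩ := HR h hh
  obtain ⟨F, π, hF, hr, hπ⟩ := H A
  have sq := IsPullback.of_hasPullback π m
  refine ⟨_, _, K613.Chart.isAlgSpace_pullback hF (IsAlgSpace.yon_obj _) (IsAlgSpace.yon_obj _) π m,
    K734.Rep.isRep_fpFst_iff.2 ?_, K597.locP_bc hP sq hF.hasAtlas (IsAlgSpace.yon_obj _).hasAtlas
      (IsAlgSpace.yon_obj _).hasAtlas hπ⟩
  have j : BasedFunctor.comp (AlgSt.ofSpMap m) (spChart v A.1 (W A)) ≅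
      BasedFunctor.comp (BasedFunctor.comp (AlgSt.ofSpMap ((yon S).map h)) y)
        (AlgSt.subIncl 𝒳 (predOf (locus v W))) :=
    K734.Fib.wr i (AlgSt.subIncl 𝒳 (predOf (locus v W)))
  exact (hr.baseChange sq).congr j

/-- Generic flatness: a morphism of finite type representable by algebraic spaces, to a reduced algebraic stack, is
flat and locally of finite presentation over a dense open substack. -/
theorem main (h𝒳 : AlgSt.IsAlgStack Scheme.fppfPrecoverage 𝒳)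
    (hred : AlgSt.SmoothLocally (fun T => IsReduced T) 𝒳) (p : 𝒴 ⥤ᵇ 𝒳)
    (hq : AlgSt.RepByAlgSpWith IsQuasiCompactMor p) (hl : AlgSt.RepByAlgSpWith (LocP @LocallyOfFiniteType) p) :
    ∃ Q : 𝒳.obj → Prop, AlgSt.IsOpenSubstack 𝒳 Q Scheme.fppfPrecoverage ∧
      Dense (Set.range (AlgSt.Points.map (AlgSt.subIncl 𝒳 Q))) ∧
      AlgSt.RepByAlgSpWith (LocP @Flat) (FibCat.fpFst (AlgSt.subIncl 𝒳 Q) p) ∧
      AlgSt.RepByAlgSpWith (LocP @LocallyOfFinitePresentation) (FibCat.fpFst (AlgSt.subIncl 𝒳 Q) p) := by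
  obtain ⟨V, v, hv, hs⟩ := h𝒳.atlas
  obtain ⟨W, hW, H⟩ := exists_W p hq hl (hred V v hv) v
  have ho := K737.OpenSt.isOpenSubstack_predOf h𝒳 (isOpen_locus h𝒳 v hv W)
  refine ⟨predOf (locus v W), ho.1, ?_, ?_, ?_⟩
  · rw [ho.2]
    exact dense_locus h𝒳 v (K742.EvQ.points_of_surj h𝒳.1.1 hs) W hW
  · exact repByAlgSpWith_fpFst K597.etLoc_flat K741.isLocalOnBase_flat h𝒳 p (K735.Rep.repByAlgSp1_of_with hq) v hv W
      (fun A => by obtain ⟨F, π, h1, h2, h3, h4⟩ := H A; exact ⟨F, π, h1, h2, h3⟩)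
  · exact repByAlgSpWith_fpFst K597.etLoc_lfp K741.isLocalOnBase_lfp h𝒳 p (K735.Rep.repByAlgSp1_of_with hq) v hv W
      (fun A => by obtain ⟨F, π, h1, h2, h3, h4⟩ := H A; exact ⟨F, π, h1, h2, h4⟩)

end K895.GenFlatSt
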