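import Groth.Agent.Gerb.K895.GenFlat
import Groth.Agent.AlgSt.K737.Image
import Groth.Agent.AlgSt.K736.QC
import Groth.Agent.AlgSt.K741.Loc
import Groth.Agent.AlgSt.K742.SmComp
import Groth.Agent.AlgSt.K743.FlatCover
import Groth.Agent.AlgSt.K741.OfSp
import Groth.Agent.AlgSt.K738.LftDiag
import Groth.Agent.GrpQ.K185.Cover

/-!
# Generic flatness for representable morphisms to a reduced algebraic stack (helper895)
-/

set_option autoImplicit false
set_option backward.isDefEq.respectTransparency false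
set_option backward.isDefEq.respectTransparency.types false

universe v₃ u₃ v₂ u₂ w v u

open CategoryTheory CategoryTheory.Limits AlgebraicGeometry
open Opposite AlgSp K737.Open

namespace K895.GenFlatSt

variable {S : Scheme.{u}} {𝒳 : AlgSt.Cat S} {𝒴 : BasedCategory.{v₃, u₃} (Over S)}

/-- the chart of an open of an open of a chart -/
noncomputable abbrev chart {V : Over S} (v : FibCat.overCat V ⥤ᵇ 𝒳) (A : V.left.Opens) (W : (opensOver V A).left.Opens) :
    FibCat.overCat (opensOver (opensOver V A) W) ⥤ᵇ 𝒳 :=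
  BasedFunctor.comp (AlgSt.overMap (opensι (opensOver V A) W)) (BasedFunctor.comp (AlgSt.overMap (opensι V A)) v)

theorem chart_smooth {V : Over S} (v : FibCat.overCat V ⥤ᵇ 𝒳) (hv : AlgSt.RepByAlgSpWith (LocP @Smooth) v)
    (A : V.left.Opens) (W : (opensOver V A).left.Opens) : AlgSt.RepByAlgSpWith (LocP @Smooth) (chart v A W) := by
  have h1 : Smooth (opensι V A).left := inferInstanceAs (Smooth A.ι)
  have h2 : Smooth (opensι (opensOver V A) W).left := inferInstanceAs (Smooth W.ι)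
  exact K743.Comp.locP_overMap_comp K597.etLoc_smooth _ h2 _
    (K743.Comp.locP_overMap_comp K597.etLoc_smooth _ h1 _ hv)

theorem ofChart_chart {V : Over S} (v : FibCat.overCat V ⥤ᵇ 𝒳) (A : V.left.Opens) (W : (opensOver V A).left.Opens)
    (t : ↥(opensOver (opensOver V A) W).left) :
    AlgSt.Points.ofChart (chart v A W) t = AlgSt.Points.ofChart v (A.ι (W.ι t)) := by
  rw [K735.PtsSp.ofChart_overMap, K735.PtsSp.ofChart_overMap]
  rfl

/-- the open set of points -/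
def locus {V : Over S} (v : FibCat.overCat V ⥤ᵇ 𝒳) (W : ∀ A : V.left.affineOpens, (opensOver V A.1).left.Opens) :
    Set (AlgSt.Points 𝒳) := ⋃ A : V.left.affineOpens, Set.range (AlgSt.Points.ofChart (chart v A.1 (W A)))

theorem isOpen_locus (h𝒳 : AlgSt.IsAlgStack Scheme.fppfPrecoverage 𝒳) {V : Over S} (v : FibCat.overCat V ⥤ᵇ 𝒳)
    (hv : AlgSt.RepByAlgSpWith (LocP @Smooth) v) (W : ∀ A : V.left.affineOpens, (opensOver V A.1).left.Opens) :
    IsOpen (locus v W) :=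
  isOpen_iUnion fun A => (K736.QC.isOpenMap_ofChart h𝒳 (chart_smooth v hv A.1 (W A))).isOpen_range

theorem dense_locus (h𝒳 : AlgSt.IsAlgStack Scheme.fppfPrecoverage 𝒳) {V : Over S} (v : FibCat.overCat V ⥤ᵇ 𝒳)
    (hvs : Function.Surjective (AlgSt.Points.ofChart v))
    (W : ∀ A : V.left.affineOpens, (opensOver V A.1).left.Opens)
    (hW : ∀ A, Dense (W A : Set (opensOver V A.1).left)) : Dense (locus v W) := by
  rw [dense_iff_inter_open]
  rintro N hN ⟨q, hq⟩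
  obtain ⟨t, rfl⟩ := hvs q
  have hc := K736.QC.continuous_ofChart h𝒳 v
  obtain ⟨_, ⟨A, hA, rfl⟩, htA, -⟩ := V.left.isBasis_affineOpens.exists_subset_of_mem_open (Set.mem_univ t) isOpen_univ
  let A' : V.left.affineOpens := ⟨A, hA⟩
  let M : Set (opensOver V A'.1).left := A'.1.ι ⁻¹' (AlgSt.Points.ofChart v ⁻¹' N)
  have hM : IsOpen M := (hN.preimage hc).preimage A'.1.ι.continuous
  have hMne : M.Nonempty := ⟨(⟨t, htA⟩ : A'.1), hq⟩
  obtain ⟨w, hwM, hwW⟩ := (dense_iff_inter_open.1 (hW A')) M hM hMne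
  refine ⟨AlgSt.Points.ofChart v (A'.1.ι w), hwM, Set.mem_iUnion.2 ⟨A', ⟨⟨w, hwW⟩, ?_⟩⟩⟩
  rw [ofChart_chart]
  rfl

/-- charts of the open substack of the locus -/
noncomputable def chart' (h𝒳 : AlgSt.IsAlgStack Scheme.fppfPrecoverage 𝒳) {V : Over S} (v : FibCat.overCat V ⥤ᵇ 𝒳)
    (W : ∀ A : V.left.affineOpens, (opensOver V A.1).left.Opens) (A : V.left.affineOpens) :
    FibCat.overCat (opensOver (opensOver V A.1) (W A)) ⥤ᵇ AlgSt.fullSub 𝒳 (predOf (locus v W)) :=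
  K737.Image.lift (chart v A.1 (W A)) (fun a => (predOf_obj_iff h𝒳.1.1 _ _ a).2 (by
    rintro _ ⟨t, rfl⟩
    exact Set.mem_iUnion.2 ⟨A, ⟨_, rfl⟩⟩))

theorem jointly_surjective (h𝒳 : AlgSt.IsAlgStack Scheme.fppfPrecoverage 𝒳) {V : Over S} (v : FibCat.overCat V ⥤ᵇ 𝒳)
    (hv : AlgSt.RepByAlgSpWith (LocP @Smooth) v) (W : ∀ A : V.left.affineOpens, (opensOver V A.1).left.Opens)
    (p : AlgSt.Points (AlgSt.fullSub 𝒳 (predOf (locus v W)))) :
    ∃ A, p ∈ Set.range (AlgSt.Points.map (chart' h𝒳 v W A)) := by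
  have h1 : AlgSt.Points.map (AlgSt.subIncl 𝒳 (predOf (locus v W))) p ∈ locus v W :=
    (K737.OpenSt.isOpenSubstack_predOf h𝒳 (isOpen_locus h𝒳 v hv W)).2.le ⟨p, rfl⟩
  obtain ⟨A, t, ht⟩ := Set.mem_iUnion.1 h1
  refine ⟨A, AlgSt.Points.ofChart (BasedFunctor.id _) t, ?_⟩
  apply K737.Image.injective_map_subIncl (Q := predOf (locus v W)) h𝒳.1.1 (fun x z φ h => predOf_of_hom φ h)
  rw [← ht, ← K735.Pts.map_comp, K735.PtsSp.ofChart_eq_map (chart v A.1 (W A))]
  rfl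

variable (p : 𝒴 ⥤ᵇ 𝒳)

/-- a smooth chart is flat and locally of finite presentation -/
theorem locQ_chart {𝒵 : BasedCategory.{v₃, u₃} (Over S)} {U : Over S} (c : FibCat.overCat U ⥤ᵇ 𝒵)
    (hc : AlgSt.RepByAlgSpWith (LocP @Smooth) c) {P : MorphismProperty Scheme.{u}}
    (hP : K597.EtLoc P) (hid : ∀ X : Scheme.{u}, P (𝟙 X)) : AlgSt.LocQ (LocP P) c :=
  ⟨U, U, BasedFunctor.id _, c, 𝟙 U, eqToIso (K738.Lft.id_comp_bf c).symm,
    K741.repByAlgSpWith_id _ (fun V => by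
      rw [← (yon S).map_id]
      exact K743.Comp.locP_yon_map_of K597.etLoc_smooth (𝟙 V) (inferInstanceAs (Smooth (𝟙 V.left)))),
    K741.repByAlgSpWith_id _ (fun V x => ⟨x, AlgSp.Points.map_id x⟩), hc,
      K743.Comp.locP_yon_map_of hP (𝟙 U) (hid _)⟩

/-- the sieve of the family of charts -/
theorem exists_sieve (h𝒳 : AlgSt.IsAlgStack Scheme.fppfPrecoverage 𝒳) {V : Over S} (v : FibCat.overCat V ⥤ᵇ 𝒳)
    (hv : AlgSt.RepByAlgSpWith (LocP @Smooth) v) (W : ∀ A : V.left.affineOpens, (opensOver V A.1).left.Opens)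
    (U : Over S) (y : AlgSt.ofSp ((yon S).obj U) ⥤ᵇ AlgSt.fullSub 𝒳 (predOf (locus v W))) :
    ∃ R ∈ J S U, ∀ ⦃U' : Over S⦄ (h : U' ⟶ U), R.arrows h →
      ∃ (A : V.left.affineOpens) (m : (yon S).obj U' ⟶ (yon S).obj (opensOver (opensOver V A.1) (W A))),
        Nonempty (BasedFunctor.comp (AlgSt.ofSpMap m) (BasedFunctor.comp (AlgSt.toOverCat _) (chart' h𝒳 v W A)) ≅
          BasedFunctor.comp (AlgSt.ofSpMap ((yon S).map h)) y) := by
  have hopen := K737.OpenSt.isOpenSubstack_predOf h𝒳 (isOpen_locus h𝒳 v hv W)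
  have hfib : FibCat.IsFibGrpd (AlgSt.fullSub 𝒳 (predOf (locus v W))).p := hopen.1.2.1.1.1
  have hsm : ∀ A, AlgSt.RepByAlgSpWith (LocP @Smooth) (chart' h𝒳 v W A) := fun A =>
    K737.Image.repByAlgSpWith_lift _ _ _ (chart_smooth v hv A.1 (W A))
  have hat := hopen.1.2.1.atlas
  obtain ⟨U', g, hg, hx⟩ := K743.FlatCover.exists_fppf_lift hfib
    (fun A : V.left.affineOpens => FibCat.overCat (opensOver (opensOver V A.1) (W A)))
    (fun A => K735.Fp.isFibGrpd_overCat _) (fun A => chart' h𝒳 v W A)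
    (fun A => locQ_chart _ (hsm A) K597.etLoc_flat (fun X => inferInstanceAs (Flat (𝟙 X))))
    (fun A => locQ_chart _ (hsm A) K597.etLoc_lfp (fun X => inferInstanceAs (LocallyOfFinitePresentation (𝟙 X))))
    (jointly_surjective h𝒳 v hv W) U (BasedFunctor.comp (AlgSt.ofOverCat U) y)
  refine ⟨Sieve.ofArrows _ g, K185.Cover.ofArrows_mem_J (K := Scheme.fppfPrecoverage) g hg, ?_⟩
  rintro T h ⟨_, k, _, ⟨A⟩, rfl⟩
  obtain ⟨x', ⟨i⟩⟩ := hx A
  obtain ⟨m, ⟨j⟩⟩ := K734.Rep.exists_ofSpMap (BasedFunctor.comp (AlgSt.toOverCat (U' A)) (BasedFunctor.comp x'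
    (AlgSt.ofOverCat (opensOver (opensOver V A.1) (W A)))))
  refine ⟨A, (yon S).map k ≫ m, ⟨?_⟩⟩
  have e1 : BasedFunctor.comp (AlgSt.ofSpMap ((yon S).map k ≫ m))
      (BasedFunctor.comp (AlgSt.toOverCat _) (chart' h𝒳 v W A)) ≅
      BasedFunctor.comp (AlgSt.ofSpMap ((yon S).map k)) (BasedFunctor.comp (BasedFunctor.comp (AlgSt.toOverCat (U' A))
        (BasedFunctor.comp x' (AlgSt.ofOverCat (opensOver (opensOver V A.1) (W A)))))
        (BasedFunctor.comp (AlgSt.toOverCat _) (chart' h𝒳 v W A))) :=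
    K734.Fib.wl (AlgSt.ofSpMap ((yon S).map k)) (K734.Fib.wr j.symm
      (BasedFunctor.comp (AlgSt.toOverCat _) (chart' h𝒳 v W A)))
  have e2 : BasedFunctor.comp (AlgSt.ofSpMap ((yon S).map k)) (BasedFunctor.comp (AlgSt.toOverCat (U' A))
        (BasedFunctor.comp x' (chart' h𝒳 v W A))) ≅
      BasedFunctor.comp (AlgSt.ofSpMap ((yon S).map k)) (BasedFunctor.comp (AlgSt.toOverCat (U' A))
        (BasedFunctor.comp (AlgSt.overMap (g A)) (BasedFunctor.comp (AlgSt.ofOverCat U) y))) :=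
    K734.Fib.wl (AlgSt.ofSpMap ((yon S).map k)) (K734.Fib.wl (AlgSt.toOverCat (U' A)) i)
  have e3 : BasedFunctor.comp (AlgSt.ofSpMap ((yon S).map k)) (BasedFunctor.comp (AlgSt.toOverCat (U' A))
        (BasedFunctor.comp (AlgSt.overMap (g A)) (BasedFunctor.comp (AlgSt.ofOverCat U) y))) =
      BasedFunctor.comp (AlgSt.ofSpMap ((yon S).map (k ≫ g A))) y := by
    rw [(yon S).map_comp]
    rfl
  exact e1 ≪≫ (Iso.refl _ : _ ≅ _) ≪≫ e2 ≪≫ eqToIso e3

end K895.GenFlatSt
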