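import Groth.Prelude.Def_AlgSt3
import Groth.Agent.AlgSt.K743.BC

/-!
# The inertia of a full substack is the base change of the inertia (helper895)
-/

set_option autoImplicit false
set_option backward.isDefEq.respectTransparency false
set_option backward.isDefEq.respectTransparency.types false

universe v₃ u₃ v₂ u₂ w v u

open CategoryTheory CategoryTheory.Limits AlgebraicGeometry
open Opposite K743.BC

namespace K895.SubInert

variable {S : Scheme.{u}} {𝒳 : BasedCategory.{v₂, u₂} (Over S)} (Q : 𝒳.obj → Prop)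

/-- the inclusion of the inertia of a full substack -/
def incl : FibCat.inertia (FibCat.toSelf (AlgSt.fullSub 𝒳 Q)) ⥤ᵇ FibCat.inertia (FibCat.toSelf 𝒳) where
  toFunctor :=
    { obj := fun z => ⟨z.pt.obj, (ObjectProperty.ι Q).mapIso z.aut, z.map_aut⟩
      map := fun f => ⟨f.hom.hom, congrArg (fun k => k.hom) f.comm⟩
      map_id := fun _ => rfl
      map_comp := fun _ _ => rfl }
  w := rfl

/-- the square of inertias -/
def sq : BasedFunctor.comp (FibCat.inertiaToBase (FibCat.toSelf (AlgSt.fullSub 𝒳 Q))) (AlgSt.subIncl 𝒳 Q) ≅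
    BasedFunctor.comp (incl Q) (FibCat.inertiaToBase (FibCat.toSelf 𝒳)) := Iso.refl _

theorem isCart : IsCart (FibCat.inertiaToBase (FibCat.toSelf (AlgSt.fullSub 𝒳 Q)))
    (FibCat.inertiaToBase (FibCat.toSelf 𝒳)) (incl Q) (AlgSt.subIncl 𝒳 Q) (sq Q) where
  full := ⟨by
    intro z z' φ
    let α : z.pt ⟶ z'.pt := φ.hom.fst
    let β := φ.hom.snd
    have w : α.hom ≫ 𝟙 _ = 𝟙 _ ≫ β.hom := φ.hom.w
    rw [Category.comp_id, Category.id_comp] at w
    have hβ : z.aut.hom.hom ≫ β.hom = β.hom ≫ z'.aut.hom.hom := β.comm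
    refine ⟨⟨α, ObjectProperty.hom_ext _ ?_⟩, ?_⟩
    · change z.aut.hom.hom ≫ α.hom = α.hom ≫ z'.aut.hom.hom
      rw [w, hβ]
    · apply ObjectProperty.hom_ext
      refine CategoricalPullback.hom_ext rfl ?_
      exact FibCat.InertiaObj.hom_ext w⟩
  faithful := ⟨by
    intro z z' φ ψ h
    exact FibCat.InertiaObj.hom_ext (congrArg (fun t => t.hom.fst) h)⟩
  surj := by
    intro ζ
    have hζ := ζ.property
    let z := ζ.obj.fst
    let x := ζ.obj.snd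
    let θ : z.obj ≅ x.pt := ζ.obj.iso
    have hθ : 𝒳.p.IsHomLift (𝟙 (𝒳.p.obj z.obj)) θ.hom := hζ
    let α : z.obj ≅ z.obj := θ ≪≫ x.aut ≪≫ θ.symm
    have hα : 𝒳.p.map α.hom = 𝟙 _ := by
      change 𝒳.p.map (θ.hom ≫ x.aut.hom ≫ θ.inv) = _
      have h1 : 𝒳.p.map x.aut.hom = 𝟙 _ := x.map_aut
      rw [𝒳.p.map_comp, 𝒳.p.map_comp, h1]
      erw [Category.id_comp]
      rw [← 𝒳.p.map_comp, θ.hom_inv_id, 𝒳.p.map_id]
    let ξ : (FibCat.inertia (FibCat.toSelf (AlgSt.fullSub 𝒳 Q))).obj :=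
      ⟨z, ObjectProperty.isoMk _ α, hα⟩
    have c1 : (θ.hom ≫ x.aut.hom ≫ θ.inv) ≫ θ.hom = θ.hom ≫ x.aut.hom := by
      rw [Category.assoc, Category.assoc, θ.inv_hom_id, Category.comp_id]
    have c2 : x.aut.hom ≫ θ.inv = θ.inv ≫ θ.hom ≫ x.aut.hom ≫ θ.inv := by
      rw [θ.inv_hom_id_assoc]
    let θ2 : (incl Q).obj ξ ≅ x :=
      { hom := ⟨θ.hom, c1⟩
        inv := ⟨θ.inv, c2⟩
        hom_inv_id := FibCat.InertiaObj.hom_ext θ.hom_inv_id
        inv_hom_id := FibCat.InertiaObj.hom_ext θ.inv_hom_id }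
    refine ⟨ξ, ObjectProperty.isoMk _ (CategoricalPullback.mkIso (Iso.refl z) θ2 ?_), ?_⟩
    · change 𝟙 z.obj ≫ θ.hom = 𝟙 z.obj ≫ θ.hom
      rfl
    · rw [← BasedFunctor.isHomLift_iff (FibCat.fpFst (AlgSt.subIncl 𝒳 Q) (FibCat.inertiaToBase (FibCat.toSelf 𝒳)))]
      change (AlgSt.fullSub 𝒳 Q).p.IsHomLift (𝟙 ((AlgSt.fullSub 𝒳 Q).p.obj z)) (𝟙 z)
      exact IsHomLift.id rfl

end K895.SubInert
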