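import Groth.Agent.Gerb.K895.GenFlatMain
import Groth.Agent.Gerb.K895.SubInert
import Groth.Agent.Gerb.K894.LocQ
import Groth.Agent.AlgSt.K734.FpAlg
import Groth.Agent.AlgSt.K740.Inertia
import Groth.Agent.S12770
import Groth.Agent.S12938
import Groth.Agent.S12981

/-!
# The inertia of a reduced algebraic stack with quasi-compact inertia is generically flat and lfp (helper895)
-/

set_option autoImplicit false
set_option backward.isDefEq.respectTransparency false
set_option backward.isDefEq.respectTransparency.types false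

universe v₃ u₃ v₂ u₂ w v u

open CategoryTheory CategoryTheory.Limits AlgebraicGeometry
open Opposite AlgSp K737.Open

namespace K895.GenInert

variable {S : Scheme.{u}} {𝒳 : AlgSt.Cat S}

/-- The inertia of an algebraic stack is an algebraic stack. -/
theorem isAlgStack_inertia (h𝒳 : AlgSt.IsAlgStack Scheme.fppfPrecoverage 𝒳) :
    AlgSt.IsAlgStack Scheme.fppfPrecoverage (FibCat.inertia (FibCat.toSelf 𝒳)) := by
  have hA := K734.Rep.isAlgStack_prod h𝒳 h𝒳
  have hB : AlgSt.IsAlgStack Scheme.fppfPrecoverage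
      (FibCat.fp (FibCat.diag (FibCat.toSelf 𝒳)) (FibCat.diag (FibCat.toSelf 𝒳))) :=
    K734.Rep.isAlgStack_fp (K734.Rep.isPrestack_of_isStack hA.isStack) hA.diag h𝒳 h𝒳 _ _
  exact (Groth.Agent.S12770.result (K740.Inertia.toFp _) (K740.Inertia.isEquivOver_toFp _)).2 hB

theorem lft_inertia (h𝒳 : AlgSt.IsAlgStack Scheme.fppfPrecoverage 𝒳) :
    AlgSt.RepByAlgSpWith (LocP @LocallyOfFiniteType) (FibCat.inertiaToBase (FibCat.toSelf 𝒳)) :=
  K740.Inertia.repByAlgSpWith_inertiaToBase _ (Groth.Agent.S12938.result S 𝒳 h𝒳)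

theorem qc_inertia (h𝒳 : AlgSt.IsAlgStack Scheme.fppfPrecoverage 𝒳)
    (hI : AlgSt.IsQuasiCompactMor Scheme.fppfPrecoverage (FibCat.inertiaToBase (FibCat.toSelf 𝒳))) :
    AlgSt.RepByAlgSpWith IsQuasiCompactMor (FibCat.inertiaToBase (FibCat.toSelf 𝒳)) :=
  (Groth.Agent.S12981.result S _ 𝒳 (isAlgStack_inertia h𝒳) h𝒳 _
    (K735.Rep.repByAlgSp1_of_with (lft_inertia h𝒳))).2 hI

/-- From the base change to a full substack to the inertia of the substack. -/
theorem repByAlgSpWith_sub {P : MorphismProperty (Sp S)} (Q : 𝒳.obj → Prop)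
    (h : AlgSt.RepByAlgSpWith P (FibCat.fpFst (AlgSt.subIncl 𝒳 Q) (FibCat.inertiaToBase (FibCat.toSelf 𝒳)))) :
    AlgSt.RepByAlgSpWith P (FibCat.inertiaToBase (FibCat.toSelf (AlgSt.fullSub 𝒳 Q))) := by
  have hc := K895.SubInert.isCart (𝒳 := 𝒳) Q
  have he := K743.BC.isEquivOver_of_ff _ hc.full hc.faithful hc.surj
  exact K735.Rep.repByAlgSpWith_of_sq P _ _ _ (BasedFunctor.id _) he (K734.Fib.isEquivOver_refl _) (Iso.refl _) h

/-- A reduced algebraic stack with quasi-compact inertia has a dense open substack whose inertia is flat and locally of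
finite presentation. -/
theorem exists_dense (h𝒳 : AlgSt.IsAlgStack Scheme.fppfPrecoverage 𝒳)
    (hred : AlgSt.SmoothLocally (fun T => IsReduced T) 𝒳)
    (hI : AlgSt.IsQuasiCompactMor Scheme.fppfPrecoverage (FibCat.inertiaToBase (FibCat.toSelf 𝒳))) :
    ∃ Q : 𝒳.obj → Prop, AlgSt.IsOpenSubstack 𝒳 Q Scheme.fppfPrecoverage ∧
      Dense (Set.range (AlgSt.Points.map (AlgSt.subIncl 𝒳 Q))) ∧
      AlgSt.LocQ (LocP @Flat) (FibCat.inertiaToBase (FibCat.toSelf (AlgSt.fullSub 𝒳 Q))) ∧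
      AlgSt.LocQ (LocP @LocallyOfFinitePresentation) (FibCat.inertiaToBase (FibCat.toSelf (AlgSt.fullSub 𝒳 Q))) := by
  obtain ⟨Q, hQ, hd, h1, h2⟩ := K895.GenFlatSt.main h𝒳 hred _ (qc_inertia h𝒳 hI) (lft_inertia h𝒳)
  have hU : AlgSt.IsAlgStack Scheme.fppfPrecoverage (AlgSt.fullSub 𝒳 Q) := hQ.2.1
  exact ⟨Q, hQ, hd, K894.LocQ.locQ_flat (isAlgStack_inertia hU) hU _ (repByAlgSpWith_sub Q h1),
    K894.LocQ.locQ_lfp (isAlgStack_inertia hU) hU _ (repByAlgSpWith_sub Q h2)⟩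

end K895.GenInert
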