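import Groth.Prelude.Def_StGerb2
import Groth.Agent.Gerb.K895.Over
import Mathlib.CategoryTheory.Sites.LocallySurjective
import Mathlib.CategoryTheory.Sites.LocallyInjective

/-!
# The presheaf of isomorphism classes of a gerbe over a presheaf (helper895)
-/

set_option autoImplicit false
set_option backward.isDefEq.respectTransparency false
set_option backward.isDefEq.respectTransparency.types false

universe w v₃ u₃ v₂ u₂ v u

open CategoryTheory Opposite K895.Fib K895.Glue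

namespace K895.IsoCl

variable {C : Type u} [Category.{v} C] {J : GrothendieckTopology C}
  {𝒳 : BasedCategory.{v₂, u₂} C} {P : Cᵒᵖ ⥤ Type u₂} (π : 𝒳 ⥤ᵇ Stk.ofPsh P)

/-- the section of `P` attached to an object over `U` -/
def secAt {U : C} (x : 𝒳.obj) (hx : 𝒳.p.obj x = U) : P.obj (op U) :=
  P.map (eqToHom (hx.symm.trans (π.w_obj x).symm) : U ⟶ (π.obj x).base).op (π.obj x).sec

theorem secAt_map {U V : C} (f : V ⟶ U) {y x : 𝒳.obj} (ψ : y ⟶ x) (hψ : 𝒳.p.IsHomLift f ψ)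
    (hx : 𝒳.p.obj x = U) (hy : 𝒳.p.obj y = V) :
    P.map f.op (secAt π x hx) = secAt π y hy := by
  subst hx hy
  have hf : f = 𝒳.p.map ψ := IsHomLift.eq_of_isHomLift 𝒳.p f ψ
  subst hf
  have h1 : (π.map ψ).hom = eqToHom (π.w_obj y) ≫ 𝒳.p.map ψ ≫ eqToHom (π.w_obj x).symm :=
    @IsHomLift.fac' _ _ _ _ (Stk.ofPsh P).p _ _ _ _ (𝒳.p.map ψ) (π.map ψ)
      (lift_map π (IsHomLift.map 𝒳.p ψ))
  have h2 := (π.map ψ).map_sec
  rw [secAt, secAt, ← h2, ← Functor.map_comp_apply, ← Functor.map_comp_apply, ← op_comp, ← op_comp,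
    h1]
  congr 3
  simp

/-- the morphism of presheaves from classes of objects -/
noncomputable def cmap [FibCat.IsFibGrpd 𝒳.p] : Gerb.isoClPsh 𝒳 ⟶ P where
  app U := ↾fun t => Quot.lift (fun a : 𝒳.p.Fiber U.unop => secAt π a.1 a.2)
    (by
      rintro a b ⟨φ⟩
      have := secAt_map π (𝟙 U.unop) φ.1 φ.2 b.2 a.2
      rw [← this]; simp) t
  naturality U V f := by
    ext t
    obtain ⟨a⟩ := t
    have h := Gerb.pullHom_isHomLift 𝒳 a.1 (f.unop ≫ eqToHom a.2.symm)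
    have h' : 𝒳.p.IsHomLift f.unop (Gerb.pullHom 𝒳 a.1 (f.unop ≫ eqToHom a.2.symm)) :=
      IsHomLift.of_fac' 𝒳.p _ _ (Gerb.pull_over 𝒳 a.1 _) a.2 (Gerb.pullHom_map 𝒳 a.1 _)
    exact (secAt_map π f.unop _ h' a.2 (Gerb.pull_over 𝒳 a.1 _)).symm

theorem cmap_mk [FibCat.IsFibGrpd 𝒳.p] {U : C} (a : 𝒳.p.Fiber U) :
    (cmap π).app (op U) (Quot.mk _ a) = secAt π a.1 a.2 := rfl

theorem isLocallySurjective [FibCat.IsFibGrpd 𝒳.p] (hπ : Gerb.LocSurjObj J π) :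
    Presheaf.IsLocallySurjective J (cmap π) := by
  constructor
  intro U t
  obtain ⟨R, hR, h⟩ := hπ ⟨U, t⟩
  refine J.superset_covering (fun V f hf => ?_) hR
  obtain ⟨x, g, hg⟩ := h f hf
  have hx : 𝒳.p.obj x = V := (π.w_obj x).symm.trans (obj_eq_of_lift_left hg)
  refine ⟨Quot.mk _ ⟨x, hx⟩, ?_⟩
  change secAt π x hx = P.map f.op t
  subst hx
  have h1 : g.hom = eqToHom (π.w_obj x) ≫ f := by
    have := @IsHomLift.fac' _ _ _ _ (Stk.ofPsh P).p _ _ _ _ f g hg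
    simpa using this
  rw [secAt, ← g.map_sec, h1, ← Functor.map_comp_apply, ← op_comp]
  congr 3
  simp

theorem isLocallyInjective [FibCat.IsFibGrpd 𝒳.p] (hπ : Gerb.LocSurjHom J π) :
    Presheaf.IsLocallyInjective J (cmap π) := by
  constructor
  rintro ⟨U⟩ ⟨a⟩ ⟨b⟩ e
  have e' : secAt π a.1 a.2 = secAt π b.1 b.2 := e
  obtain ⟨x, hx⟩ := a
  obtain ⟨x', hx'⟩ := b
  obtain rfl : 𝒳.p.obj x = U := hx
  let k : (π.obj x).base ⟶ (π.obj x').base := eqToHom ((π.w_obj x).trans (hx'.symm.trans (π.w_obj x').symm))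
  have hk : P.map k.op (π.obj x').sec = (π.obj x).sec := by
    have h1 := congrArg (P.map (eqToHom (π.w_obj x) : (π.obj x).base ⟶ 𝒳.p.obj x).op) e'
    simp only [secAt, ← Functor.map_comp_apply, ← op_comp] at h1
    have h2 : (eqToHom (π.w_obj x) : (π.obj x).base ⟶ 𝒳.p.obj x) ≫ eqToHom (π.w_obj x).symm =
      𝟙 _ := by simp
    have h3 : (eqToHom (π.w_obj x) : (π.obj x).base ⟶ 𝒳.p.obj x) ≫
      (eqToHom (hx'.symm.trans (π.w_obj x').symm) : 𝒳.p.obj x ⟶ (π.obj x').base) = k := by simp [k]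
    rw [h2, h3] at h1
    simpa using h1.symm
  let b : π.obj x ⟶ π.obj x' := ⟨k, hk⟩
  have hb : (Stk.ofPsh P).p.IsHomLift (𝟙 (𝒳.p.obj x)) b :=
    IsHomLift.of_fac' (Stk.ofPsh P).p _ _ (π.w_obj x) ((π.w_obj x').trans hx') (by
      change k = _
      simp [k])
  obtain ⟨R, hR, h⟩ := Over.locSurjHom_at hπ x x' b rfl hb
  refine J.superset_covering (fun V f hf => ?_) hR
  obtain ⟨x₀, φ, ψ, hφ, hψ, -⟩ := h f hf
  have hx₀ : 𝒳.p.obj x₀ = V := obj_eq_of_lift_left hφ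
  change Quot.mk _ (Gerb.pullFib 𝒳 f ⟨x, rfl⟩) = Quot.mk _ (Gerb.pullFib 𝒳 f ⟨x', hx'⟩)
  have key : ∀ (z : 𝒳.obj) (hz : 𝒳.p.obj z = 𝒳.p.obj x) (χ : x₀ ⟶ z), 𝒳.p.IsHomLift f χ →
      (Quot.mk (Gerb.IsoRel 𝒳 V) (⟨x₀, hx₀⟩ : 𝒳.p.Fiber V)) =
        Quot.mk (Gerb.IsoRel 𝒳 V) (Gerb.pullFib 𝒳 f ⟨z, hz⟩) := by
    intro z hz χ hχ
    obtain ⟨c, hc, -⟩ := Gerb.exists_hom_pull 𝒳 z (f ≫ eqToHom hz.symm) χ
      (IsHomLift.of_fac' 𝒳.p _ _ hx₀ rfl (by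
        have := @IsHomLift.fac' _ _ _ _ 𝒳.p _ _ _ _ f χ hχ
        simpa using this))
    exact Quot.sound ⟨⟨c, hc⟩⟩
  exact (key x rfl φ hφ).symm.trans (key x' hx' ψ hψ)

end K895.IsoCl
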