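import Groth.Agent.Gerb.K895.ResTop
import Groth.Agent.Gerb.K893.ResField
import Groth.Agent.AlgSt.K735.Cart
import Mathlib.AlgebraicGeometry.Morphisms.Immersion
import Mathlib.AlgebraicGeometry.Noetherian

/-!
# Residual gerbes exist at all points (helper895)

For a point `x` of an algebraic stack `𝒳` and an atlas `v : V ⟶ 𝒳` there is a point `u ∈ V` over `x` such that the set
of points of `|Spec κ(u) ×_𝒳 V|` over `u` is locally closed; then `Spec κ(u) ×_𝒳 Spec κ(u) ⟶ Spec κ(u)` is locally of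
finite type.
-/

set_option autoImplicit false
set_option backward.isDefEq.respectTransparency false
set_option backward.isDefEq.respectTransparency.types false

universe w v₅ u₅ v₄ u₄ v₃ u₃ v₂ u₂ v u

open CategoryTheory CategoryTheory.Limits AlgebraicGeometry Opposite TopologicalSpace

namespace K895.ResAll

open K895.ResTop

/-- A continuous map from a nonempty Noetherian space has a closed fibre over some point of its image. -/
theorem exists_closed_fibre {W : Type u} {V : Type v} [TopologicalSpace W] [TopologicalSpace V] [NoetherianSpace W]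
    [T0Space V] [Nonempty W] (b : W → V) (hb : Continuous b) : ∃ w : W, IsClosed (b ⁻¹' {b w}) := by
  obtain ⟨Z, ⟨w, rfl⟩, hmin⟩ := (wellFounded_lt (α := Closeds W)).has_min
    (Set.range fun w : W => (⟨b ⁻¹' closure {b w}, isClosed_closure.preimage hb⟩ : Closeds W)) (Set.range_nonempty _)
  refine ⟨w, ?_⟩
  have : b ⁻¹' {b w} = b ⁻¹' closure {b w} := by
    ext z
    constructor
    · intro hz
      exact subset_closure hz
    · intro hz
      have h1 : b z ∈ closure {b w} := hz
      have h2 : b ⁻¹' closure {b z} ⊆ b ⁻¹' closure {b w} :=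
        Set.preimage_mono (closure_minimal (Set.singleton_subset_iff.2 h1) isClosed_closure)
      have h3 : b ⁻¹' closure {b w} ⊆ b ⁻¹' closure {b z} := by
        by_contra h
        exact hmin _ ⟨z, rfl⟩ (lt_of_le_not_ge h2 h)
      have h4 : b w ∈ closure {b z} := h3 (subset_closure rfl)
      exact ((specializes_iff_mem_closure.2 h4).antisymm (specializes_iff_mem_closure.2 h1)).eq
  rw [this]
  exact isClosed_closure.preimage hb

theorem exists_fac_sch {M : Type u} [Field M] {X : Scheme.{u}} (f : Spec (CommRingCat.of M) ⟶ X) :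
    ∃ g : Spec (CommRingCat.of M) ⟶ Spec (X.residueField (f (IsLocalRing.closedPoint M))),
      g ≫ X.fromSpecResidueField _ = f :=
  ⟨_, Scheme.descResidueField_stalkClosedPointTo_fromSpecResidueField M X f⟩

variable {S : Scheme.{u}}

section Res

variable {V : Over S} (u : ↥V.left)

/-- the residue field of a point of an `S`-scheme, over `S` -/
noncomputable abbrev resOb : Over S :=
  Over.mk (Y := Spec (CommRingCat.of (V.left.residueField u))) (V.left.fromSpecResidueField u ≫ V.hom)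

noncomputable def resHom : resOb u ⟶ V := Over.homMk (V.left.fromSpecResidueField u) rfl

/-- the functor of slices -/
noncomputable abbrev resFun : FibCat.overCat (resOb u) ⥤ᵇ FibCat.overCat V := AlgSt.overMap (resHom u)

/-- factorisation of a field-valued point through the residue field -/
theorem exists_fac {M : Type u} [Field M] {str : Spec (CommRingCat.of M) ⟶ S} (b : Over.mk str ⟶ V)
    (t : ↥(Over.mk str : Over S).left) (h : b.left t = u) : ∃ c : Over.mk str ⟶ resOb u, c ≫ resHom u = b := by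
  have ht : t = IsLocalRing.closedPoint M := by
    have : Subsingleton ↥(Spec (CommRingCat.of M)) := inferInstanceAs (Subsingleton (PrimeSpectrum M))
    exact this.elim _ _
  subst ht
  subst h
  obtain ⟨g, h1⟩ := exists_fac_sch b.left
  refine ⟨Over.homMk g ?_, ?_⟩
  · have h2 : b.left ≫ V.hom = str := Over.w b
    change g ≫ V.left.fromSpecResidueField _ ≫ V.hom = str
    rw [← Category.assoc]
    exact (congrArg (· ≫ V.hom) h1).trans h2
  · exact Over.OverMorphism.ext h1

end Res

section Main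

open K734.Fib

variable {𝒳 : AlgSt.Cat S} (h𝒳 : AlgSt.IsAlgStack Scheme.fppfPrecoverage 𝒳)

/-- the point of a slice given by a point of the scheme -/
noncomputable abbrev pt {V : Over S} (u : ↥V.left) : AlgSt.Points (FibCat.overCat V) :=
  AlgSt.Points.ofChart (BasedFunctor.id (FibCat.overCat V)) u

theorem ofChart_of_iso {W V : Over S} {x : FibCat.overCat W ⥤ᵇ FibCat.overCat V} {b : W ⟶ V}
    (e : x ≅ AlgSt.overMap b) (w : ↥W.left) : AlgSt.Points.ofChart x w = pt (b.left w) := by
  rw [K735.PtsSp.ofChart_congr e]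
  exact K735.PtsSp.ofChart_overMap b (BasedFunctor.id _) w

include h𝒳

/-- Homogeneity, at all points over `u`. -/
theorem lcAt_iff_res {K : Type u} [Field K] {a : Spec (CommRingCat.of K) ⟶ S} {V : Over S}
    {p : FibCat.overCat (Over.mk a) ⥤ᵇ 𝒳} {v : FibCat.overCat V ⥤ᵇ 𝒳} (u : ↥V.left) (y : AlgSt.Points (FibCat.fp p v))
    (hy : AlgSt.Points.map (FibCat.fpSnd p v) y = pt u) (t' : ↥(resOb u).left) :
    LCAt (AlgSt.Points.map (FibCat.fpSnd p v) ⁻¹' {pt u}) y ↔
      LCAt (AlgSt.Points.map (FibCat.fpSnd (BasedFunctor.comp (resFun u) v) v) ⁻¹' {pt u})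
        (AlgSt.Points.ofChart (sec₀ (resFun u) v) t') := by
  obtain ⟨M, _, str, s, hs⟩ := K735.Top.exists_fpt_chart (isAlgStack_fp h𝒳 p v).isStack.1 y
  obtain ⟨b, ⟨e⟩⟩ := K735.Top.exists_iso_overMap (BasedFunctor.comp s (FibCat.fpSnd p v))
  let t : ↥(Over.mk str : Over S).left := IsLocalRing.closedPoint M
  have hb : b.left t = u := by
    apply (K735.PtsSp.ofChart_id_bijective V).1
    change pt _ = pt _
    rw [← hy, ← hs t, ← ofChart_of_iso e]
    rfl
  obtain ⟨c, hc⟩ := exists_fac u b t hb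
  obtain ⟨e'⟩ := K735.Cart.exists_iso_overMap_comp c (resHom u)
  have κ : BasedFunctor.comp s (FibCat.fpSnd p v) ≅ BasedFunctor.comp (AlgSt.overMap c) (resFun u) :=
    e ≪≫ K735.Cart.overMapCongr hc.symm ≪≫ e'.symm
  rw [← hs t]
  exact lcAt_iff h𝒳 s (AlgSt.overMap c) (resFun u) κ _ t t'

/-- If the fibre over `u = b w` of an open chart of `|Spec K ×_𝒳 V|` is closed, the fibre of
`|Spec κ(u) ×_𝒳 V|` is locally closed. -/
theorem isLocallyClosed_fibre {K : Type u} [Field K] {a : Spec (CommRingCat.of K) ⟶ S} {V W : Over S}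
    {p : FibCat.overCat (Over.mk a) ⥤ᵇ 𝒳} {v : FibCat.overCat V ⥤ᵇ 𝒳} (q : FibCat.overCat W ⥤ᵇ FibCat.fp p v)
    (hq : IsOpenMap (AlgSt.Points.ofChart q)) (b : W ⟶ V)
    (e : BasedFunctor.comp q (FibCat.fpSnd p v) ≅ AlgSt.overMap b) (w : ↥W.left)
    (hw : IsClosed (b.left ⁻¹' {b.left w})) :
    IsLocallyClosed (AlgSt.Points.map (FibCat.fpSnd (BasedFunctor.comp (resFun (b.left w)) v) v) ⁻¹'
      {pt (b.left w)}) := by
  have h0 : ∀ z, AlgSt.Points.map (FibCat.fpSnd p v) (AlgSt.Points.ofChart q z) = pt (b.left z) := fun z =>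
    ofChart_of_iso e z
  have h1 : LCAt (AlgSt.Points.map (FibCat.fpSnd p v) ⁻¹' {pt (b.left w)}) (AlgSt.Points.ofChart q w) := by
    have hc : Continuous (AlgSt.Points.ofChart q) :=
      K735.Top.chartCont_of_isAlgStack (isAlgStack_fp h𝒳 p v) W q
    rw [← lcAt_iff_of_open hc hq]
    have : AlgSt.Points.ofChart q ⁻¹' (AlgSt.Points.map (FibCat.fpSnd p v) ⁻¹' {pt (b.left w)}) =
        b.left ⁻¹' {b.left w} := by
      ext z
      change AlgSt.Points.map (FibCat.fpSnd p v) (AlgSt.Points.ofChart q z) = pt (b.left w) ↔ b.left z = b.left w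
      rw [h0]
      exact (K735.PtsSp.ofChart_id_bijective V).1.eq_iff
    rw [this]
    exact lcAt_of_isClosed hw w
  have t' : ↥(resOb (b.left w)).left := IsLocalRing.closedPoint (V.left.residueField (b.left w))
  have h2 := (lcAt_iff_res h𝒳 (b.left w) (AlgSt.Points.ofChart q w) (h0 w) t').1 h1
  exact isLocallyClosed_of_forall fun y hy => (lcAt_iff_res h𝒳 (b.left w) y hy t').2 h2

omit h𝒳 in
theorem chart_pt {F : AlgSp.Sp S} {V W : Over S} (Φ : AlgSt.ofSp F ⥤ᵇ FibCat.overCat V) (c : (AlgSp.yon S).obj W ⟶ F)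
    (b : W ⟶ V) (hb : (AlgSp.yon S).map b = c ≫ AlgSt.spMapOfOver Φ) (w : ↥W.left) :
    AlgSt.Points.ofChart (BasedFunctor.comp (K735.SpFp.chart c) Φ) w = pt (b.left w) := by
  obtain ⟨i⟩ := K735.Rep.exists_iso_spMapOfOver Φ
  have h1 : AlgSt.Points.ofChart (BasedFunctor.comp (K735.SpFp.chart c) Φ) w =
      AlgSt.Points.map (AlgSt.toOverCat V) (AlgSt.Points.ofChart (K735.SpFp.chart (c ≫ AlgSt.spMapOfOver Φ)) w) := by
    rw [← K735.PtsSp.map_ofChart, K735.Pts.map_congr i]
    rfl
  have h2 : AlgSt.Points.ofChart (K735.SpFp.chart (c ≫ AlgSt.spMapOfOver Φ)) w =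
      AlgSt.Points.ofChart (K735.SpFp.chart (𝟙 ((AlgSp.yon S).obj V))) (b.left w) := by
    apply (K735.PtsSp.ptsEquiv _).injective
    rw [K735.PtsSp.ptsEquiv_ofChart, K735.PtsSp.ptsEquiv_ofChart, ← hb, K609.Points.ofPt_yon_map]
  rw [h1, h2]
  rfl

omit h𝒳 in
theorem lft_of_isPullback {W V : Over S} (b : W ⟶ V) (u : ↥V.left) {P : Over S} {fst : P ⟶ W} {snd : P ⟶ resOb u}
    (sq : IsPullback fst snd b (resHom u)) (h : IsLocallyClosed (b.left ⁻¹' {u})) : LocallyOfFiniteType fst.left := by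
  have sq' : IsPullback fst.left snd.left b.left (resHom u).left := sq.map (Over.forget S)
  have h0 : IsPreimmersion (resHom u).left := inferInstanceAs (IsPreimmersion (V.left.fromSpecResidueField u))
  have h1 : IsPreimmersion fst.left := MorphismProperty.of_isPullback sq'.flip h0
  have h2 : Set.range fst.left = b.left ⁻¹' {u} := by
    rw [← sq'.isoPullback_hom_fst, Scheme.Hom.comp_base, TopCat.coe_comp, Set.range_comp,
      Set.range_eq_univ.2 sq'.isoPullback.hom.surjective, Set.image_univ, Scheme.Pullback.range_fst]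
    congr 1
    exact Scheme.range_fromSpecResidueField u
  have : IsImmersion fst.left := ⟨by rw [h2]; exact h⟩
  infer_instance

/-- the relation is locally of finite type when the fibre is locally closed -/
theorem lft_fpFst {V : Over S} {v : FibCat.overCat V ⥤ᵇ 𝒳}
    (hv : AlgSt.RepByAlgSpWith (AlgSp.LocP @LocallyOfFiniteType) v) (u : ↥V.left)
    (h : IsLocallyClosed (AlgSt.Points.map (FibCat.fpSnd (BasedFunctor.comp (resFun u) v) v) ⁻¹' {pt u})) :
    K735.Rep.RepOver (AlgSp.LocP @LocallyOfFiniteType)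
      (FibCat.fpFst (BasedFunctor.comp (resFun u) v) (BasedFunctor.comp (resFun u) v)) := by
  obtain ⟨F, e, he, hF⟩ := hv (resOb u) (BasedFunctor.comp (resFun u) v)
  obtain ⟨F', e', he'⟩ := K893.RowsA.charts_rep h𝒳 (resOb u) (BasedFunctor.comp (resFun u) v) (resOb u)
    (BasedFunctor.comp (resFun u) v)
  obtain ⟨π, sq, hπ⟩ := K893.BC.exists_isPullback_right (g := resHom u) e he e' he'
  refine ⟨F', e', he', ?_⟩
  rw [hπ]
  refine K597.locP_comp K597.etLoc_lft F'.property.hasAtlas F.property.hasAtlas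
    (AlgSp.IsAlgSpace.yon_obj _).hasAtlas ?_ hF
  obtain ⟨W, c, hc, hcs⟩ := F.property.atlas
  obtain ⟨b, hb⟩ := (AlgSp.yon S).map_surjective
    (c ≫ AlgSt.spMapOfOver (BasedFunctor.comp e (FibCat.fpSnd (BasedFunctor.comp (resFun u) v) v)))
  have sq1 : IsPullback ((AlgSp.yon S).map (pullback.fst b (resHom u))) ((AlgSp.yon S).map (pullback.snd b (resHom u)))
      (c ≫ AlgSt.spMapOfOver (BasedFunctor.comp e (FibCat.fpSnd (BasedFunctor.comp (resFun u) v) v)))
      (𝟙 _ ≫ (AlgSp.yon S).map (resHom u)) := by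
    rw [← hb, Category.id_comp]
    exact (IsPullback.of_hasPullback _ _).map (AlgSp.yon S)
  obtain ⟨α, h1, h2, h3, h4⟩ := K597.exists_chart_bc' sq sq1 hc hcs (AlgSp.repWith_id _ _) (AlgSp.repWith_id _ _)
  refine K597.locP_of_chart K597.etLoc_lft π α c (pullback.fst b (resHom u)) h1 h2 hc h3 ?_
  refine lft_of_isPullback b u (IsPullback.of_hasPullback _ _) ?_
  have h5 : b.left ⁻¹' {u} = AlgSt.Points.ofChart (BasedFunctor.comp (K735.SpFp.chart c) e) ⁻¹'
      (AlgSt.Points.map (FibCat.fpSnd (BasedFunctor.comp (resFun u) v) v) ⁻¹' {pt u}) := by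
    ext w
    have := chart_pt (BasedFunctor.comp e (FibCat.fpSnd (BasedFunctor.comp (resFun u) v) v)) c b hb w
    change _ ↔ AlgSt.Points.ofChart (BasedFunctor.comp (K735.SpFp.chart c)
      (BasedFunctor.comp e (FibCat.fpSnd (BasedFunctor.comp (resFun u) v) v))) w = pt u
    rw [this]
    exact (K735.PtsSp.ofChart_id_bijective V).1.eq_iff.symm
  rw [h5]
  exact h.preimage (K735.Top.chartCont_of_isAlgStack (isAlgStack_fp h𝒳 _ v) W _)

omit h𝒳 in
/-- a Noetherian chart of `Spec K ×_𝒳 V` -/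
theorem exists_chart {K : Type u} [Field K] {a : Spec (CommRingCat.of K) ⟶ S} {V : Over S}
    (p : FibCat.overCat (Over.mk a) ⥤ᵇ 𝒳) {v : FibCat.overCat V ⥤ᵇ 𝒳}
    (hv : AlgSt.RepByAlgSpWith (AlgSp.LocP @Smooth) v) (hvs : AlgSt.RepByAlgSpWith AlgSp.IsSurjectiveMor v) :
    ∃ (W : Over S) (q : FibCat.overCat W ⥤ᵇ FibCat.fp p v), NoetherianSpace ↥W.left ∧ Nonempty ↥W.left ∧
      IsOpenMap (AlgSt.Points.ofChart q) := by
  have := K735.Top.isSurjectiveMor_respectsIso (S := S)
  obtain ⟨F, e, he, hF⟩ := hv _ p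
  have hs := (K735.Rep.RepOver.of_rep (hvs _ p) e he).2
  obtain ⟨W₀, c, hc, hcs⟩ := F.property.atlas
  obtain ⟨h, hh⟩ := (AlgSp.yon S).map_surjective (c ≫ AlgSt.spMapOfOver (BasedFunctor.comp e (FibCat.fpFst p v)))
  have hsm : Smooth h.left := K735.Top.locP_chart hF hc hh.symm
  obtain ⟨ξ, -⟩ := hs (AlgSp.Points.ofScheme _ (IsLocalRing.closedPoint K))
  obtain ⟨w₀, -⟩ := K609.Points.surjective_ofPt_of_repWith_surjective hcs ξ
  obtain ⟨U, hU, hx, -⟩ := exists_isAffineOpen_mem_and_subset (x := w₀) (U := ⊤) trivial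
  let W : Over S := Over.mk (U.ι ≫ W₀.hom)
  let ι : W ⟶ W₀ := Over.homMk U.ι
  refine ⟨W, BasedFunctor.comp (BasedFunctor.comp (AlgSt.overMap ι) (K735.SpFp.chart c)) e, ?_, ⟨⟨w₀, hx⟩⟩, ?_⟩
  · have h1 : IsAffine ↑U := hU
    have h2 : IsLocallyNoetherian (Over.mk a : Over S).left :=
      inferInstanceAs (IsLocallyNoetherian (Spec (CommRingCat.of K)))
    have h3 : IsLocallyNoetherian ↑U := LocallyOfFiniteType.isLocallyNoetherian (U.ι ≫ h.left)
    have h4 : IsNoetherian ↑U := {}
    exact inferInstanceAs (NoetherianSpace ↑U)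
  · have h1 : AlgSt.Points.ofChart
        (BasedFunctor.comp (BasedFunctor.comp (AlgSt.overMap ι) (K735.SpFp.chart c)) e) =
        AlgSt.Points.map e ∘ AlgSt.Points.ofChart (K735.SpFp.chart c) ∘ U.ι := by
      funext t
      change AlgSt.Points.map e (AlgSt.Points.ofChart (BasedFunctor.comp (AlgSt.overMap ι) (K735.SpFp.chart c)) t) = _
      rw [K735.PtsSp.ofChart_overMap]
      rfl
    rw [h1]
    have h2 : IsOpenMap (AlgSt.Points.ofChart (K735.SpFp.chart c)) :=
      K735.Top.isOpenMap_ofChart _ (K735.Top.isOpenMap_map K735.Top.isOpenMap_of_smooth (K735.Rep.isFibGrpd_ofSp _)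
        (K735.Fp.isFibGrpd_overCat _) (K735.Top.chartCont_overCat _) (K735.Top.repByAlgSpWith_smooth_chart hc))
    exact (K735.Univ.isHomeomorph_map_of_isEquivOver he).isOpenMap.comp (h2.comp U.ι.isOpenEmbedding.isOpenMap)

/-- **Every point of an algebraic stack is the class of a field-valued point `z : Spec k ⟶ 𝒳` such that
`Spec k ×_𝒳 Spec k ⟶ Spec k` is locally of finite type.** -/
theorem exists_point (x : AlgSt.Points 𝒳) :
    ∃ (k : Type u) (_ : Field k) (a : Spec (CommRingCat.of k) ⟶ S) (z : FibCat.overCat (Over.mk a) ⥤ᵇ 𝒳),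
      K735.Rep.RepOver (AlgSp.LocP @LocallyOfFiniteType) (FibCat.fpFst z z) ∧
        ∀ t : ↥(Over.mk a : Over S).left, AlgSt.Points.ofChart z t = x := by
  obtain ⟨V, v, hv, hvs⟩ := h𝒳.atlas
  obtain ⟨K, _, a, p, hp⟩ := K735.Top.exists_fpt_chart h𝒳.isStack.1 x
  obtain ⟨W, q, hW, hne, ho⟩ := exists_chart p hv hvs
  obtain ⟨b, ⟨e⟩⟩ := K735.Top.exists_iso_overMap (BasedFunctor.comp q (FibCat.fpSnd p v))
  obtain ⟨w, hw⟩ := exists_closed_fibre b.left b.left.continuous
  have hl := isLocallyClosed_fibre h𝒳 q ho b e w hw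
  refine ⟨_, _, _, BasedFunctor.comp (resFun (b.left w)) v, lft_fpFst h𝒳 ?_ (b.left w) hl, fun t => ?_⟩
  · refine K893.Chart.with_mono (fun F G f hf => ?_) hv
    intro U V' a b h ha hb w
    have : Smooth h.left := hf a b h ha hb w
    infer_instance
  · have h1 : AlgSt.Points.ofChart (BasedFunctor.comp (resFun (b.left w)) v) t = AlgSt.Points.ofChart v (b.left w) := by
      rw [K735.PtsSp.ofChart_overMap]
      congr 1
      exact Scheme.fromSpecResidueField_apply _ _
    have h2 : AlgSt.Points.ofChart v (b.left w) = AlgSt.Points.ofChart (BasedFunctor.comp q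
        (BasedFunctor.comp (FibCat.fpSnd p v) v)) w := by
      change AlgSt.Points.map v (pt (b.left w)) = AlgSt.Points.map v (AlgSt.Points.ofChart
        (BasedFunctor.comp q (FibCat.fpSnd p v)) w)
      rw [ofChart_of_iso e]
    have h3 : AlgSt.Points.ofChart (BasedFunctor.comp q (BasedFunctor.comp (FibCat.fpSnd p v) v)) w =
        AlgSt.Points.ofChart (BasedFunctor.comp q (BasedFunctor.comp (FibCat.fpFst p v) p)) w :=
      (K735.PtsSp.ofChart_congr (wl q (FibCat.fpIso p v)) w).symm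
    have h4 : AlgSt.Points.ofChart (BasedFunctor.comp q (BasedFunctor.comp (FibCat.fpFst p v) p)) w =
        AlgSt.Points.map p (AlgSt.Points.ofChart (BasedFunctor.comp q (FibCat.fpFst p v)) w) := rfl
    have h5 := subsingleton_pt (a := a)
    let t₀ : ↥(Over.mk a : Over S).left := IsLocalRing.closedPoint K
    rw [h1, h2, h3, h4, ← hp t₀, Subsingleton.elim (AlgSt.Points.ofChart (BasedFunctor.comp q (FibCat.fpFst p v)) w)
      (AlgSt.Points.ofChart (BasedFunctor.id _) t₀)]
    rfl

/-- **Residual gerbes exist.** -/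
theorem resGerbeExists (x : AlgSt.Points 𝒳) : Gerb.ResGerbeExists Scheme.fppfPrecoverage 𝒳 x := by
  obtain ⟨k, _, a, z, hz, hx⟩ := exists_point h𝒳 x
  exact K893.ResField.resGerbeExists h𝒳 hz x hx

end Main

end K895.ResAll
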