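import Groth.Agent.AlgSt.K734.FpAlg
import Groth.Agent.AlgSt.K734.Yon2
import Groth.Agent.AlgSt.K735.Lift
import Groth.Agent.AlgSt.K735.Univ
import Groth.Agent.AlgSp.K625.Fld
import Groth.Agent.AlgSp.K597.LocP
import Groth.Agent.S12763
import Groth.Agent.Gerb.K894.CoreA
import Mathlib.Topology.LocallyClosed

/-!
# Locally closed orbits: the topological part (helper895)

`LCAt B x`: the set `B` is closed near `x`.  For a field-valued point `p` of a stack and a chart `v`, the set of points of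
`|Spec k ×_𝒳 V|` over a set of points of `V` is closed near a point `y` over `v ∈ V` if and only if the same is true for
the point of `Spec κ(v) ×_𝒳 V` given by the identity (homogeneity).
-/

set_option autoImplicit false
set_option backward.isDefEq.respectTransparency false
set_option backward.isDefEq.respectTransparency.types false

universe w v₅ u₅ v₄ u₄ v₃ u₃ v₂ u₂ v u

open CategoryTheory CategoryTheory.Limits AlgebraicGeometry Opposite

namespace K895.ResTop

section Top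

variable {X : Type u} {Y : Type v} [TopologicalSpace X] [TopologicalSpace Y]

/-- `B` is closed near `x` -/
def LCAt (B : Set X) (x : X) : Prop := ∃ N : Set X, IsOpen N ∧ x ∈ N ∧ IsOpen (N \ B)

theorem lcAt_iff_of_open {f : X → Y} (hc : Continuous f) (ho : IsOpenMap f) (B : Set Y) (x : X) :
    LCAt (f ⁻¹' B) x ↔ LCAt B (f x) := by
  constructor
  · rintro ⟨N, hN, hx, hN'⟩
    refine ⟨f '' N, ho N hN, ⟨x, hx, rfl⟩, ?_⟩
    have : f '' N \ B = f '' (N \ f ⁻¹' B) := by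
      ext y
      constructor
      · rintro ⟨⟨z, hz, rfl⟩, hy⟩
        exact ⟨z, ⟨hz, hy⟩, rfl⟩
      · rintro ⟨z, ⟨hz, hy⟩, rfl⟩
        exact ⟨⟨z, hz, rfl⟩, hy⟩
    rw [this]
    exact ho _ hN'
  · rintro ⟨N, hN, hx, hN'⟩
    exact ⟨f ⁻¹' N, hN.preimage hc, hx, hN'.preimage hc⟩

theorem isLocallyClosed_of_forall {B : Set X} (h : ∀ x ∈ B, LCAt B x) : IsLocallyClosed B := by
  choose N hN hx hN' using h
  have h1 : IsOpen (⋃ (x : X) (hx : x ∈ B), N x hx) := isOpen_iUnion fun x => isOpen_iUnion fun hx => hN x hx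
  have h2 : IsOpen (⋃ (x : X) (hx : x ∈ B), (N x hx \ B)) := isOpen_iUnion fun x => isOpen_iUnion fun hx => hN' x hx
  refine ⟨_, _, h1, h2.isClosed_compl, ?_⟩
  ext y
  simp only [Set.mem_inter_iff, Set.mem_iUnion, Set.mem_compl_iff, Set.mem_sdiff, not_exists, not_and, not_not]
  constructor
  · intro hy
    exact ⟨⟨y, hy, hx y hy⟩, fun _ _ _ => hy⟩
  · rintro ⟨⟨z, hz, hy⟩, h⟩
    exact h z hz hy

theorem lcAt_of_isClosed {B : Set X} (hB : IsClosed B) (x : X) : LCAt B x :=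
  ⟨Set.univ, isOpen_univ, trivial, by rw [← Set.compl_eq_univ_sdiff]; exact hB.isOpen_compl⟩

end Top

variable {S : Scheme.{u}}

section Open

open K734.Fib

/-- base change along `Spec L ⟶ Spec K` is universally open -/
theorem repByAlgSpWith_univOpen {K L : Type u} [Field K] [Field L] {a : Spec (CommRingCat.of K) ⟶ S}
    {b : Spec (CommRingCat.of L) ⟶ S} (w : FibCat.overCat (Over.mk b) ⥤ᵇ FibCat.overCat (Over.mk a)) :
    AlgSt.RepByAlgSpWith (AlgSp.LocP @UniversallyOpen) w := by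
  obtain ⟨e⟩ := K734.Fib.nonempty_iso_overMap w
  refine K735.Rep.repByAlgSpWith_of_iso _ e.symm ?_
  have hpre : ∀ ⦃A B C : Scheme.{u}⦄ (e : A ⟶ B) (f : B ⟶ C), Etale e → UniversallyOpen f → UniversallyOpen (e ≫ f) := by
    intro A B C e f he hf
    infer_instance
  have := K735.Top.locP_respectsIso (S := S) @UniversallyOpen
  have h1 : AlgSp.RepWith @UniversallyOpen ((AlgSp.yon S).map (overFun w)) := by
    rw [AlgSp.repWith_yon_map_iff]
    obtain ⟨φ, hφ⟩ : ∃ φ : CommRingCat.of K ⟶ CommRingCat.of L, Spec.map φ = (overFun w).left :=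
      ⟨Spec.preimage (overFun w).left, Spec.map_preimage _⟩
    rw [← hφ]
    exact K625.Fld.universallyOpen_specMap φ.hom
  have h2 := K735.Top.repByAlgSpWith_ofSpMap_of_repWith (Q := AlgSp.LocP @UniversallyOpen)
    (fun _ _ _ hf' => K597.locP_of_repWith hpre hf') h1
  exact (K735.Rep.repByAlgSpWith_iff_of_sq _ (AlgSt.ofSpMap ((AlgSp.yon S).map (overFun w))) (overMap (overFun w))
    (AlgSt.ofOverCat _) (AlgSt.ofOverCat _) (K735.Rep.isEquivOver_ofOverCat _) (K735.Rep.isEquivOver_ofOverCat _)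
    (Iso.refl _)).1 h2

end Open

section Formal

open K734.Fib

variable {C : Type u} [Category.{v} C] {𝒦 : BasedCategory.{v₂, u₂} C} {𝒱 : BasedCategory.{v₃, u₃} C}
  {𝒳 : BasedCategory.{v₄, u₄} C} {ℳ : BasedCategory.{v₅, u₅} C}

/-- the point given by the identity -/
def sec₀ (j : 𝒦 ⥤ᵇ 𝒱) (v : 𝒱 ⥤ᵇ 𝒳) : 𝒦 ⥤ᵇ FibCat.fp (BasedFunctor.comp j v) v :=
  FibCat.fpLift (BasedFunctor.id _) j (Iso.refl _)

variable {p : 𝒦 ⥤ᵇ 𝒳} {v : 𝒱 ⥤ᵇ 𝒳} (s : ℳ ⥤ᵇ FibCat.fp p v)

/-- the section over `ℳ` -/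
def secM : ℳ ⥤ᵇ FibCat.fp (BasedFunctor.comp (BasedFunctor.comp s (FibCat.fpFst p v)) p) v :=
  FibCat.fpLift (BasedFunctor.id _) (BasedFunctor.comp s (FibCat.fpSnd p v)) (wl s (FibCat.fpIso p v))

/-- its image is `s` -/
def secMIso : BasedFunctor.comp (secM s) (fpPreL (BasedFunctor.comp s (FibCat.fpFst p v)) p v) ≅ s :=
  liftExt (Iso.refl _) (Iso.refl _) (fun x => by
    have h1 : ((BasedFunctor.comp (secM s) (fpPreL (BasedFunctor.comp s (FibCat.fpFst p v)) p v)).obj x).obj.iso.hom =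
        (s.obj x).obj.iso.hom := by
      change 𝟙 _ ≫ (s.obj x).obj.iso.hom ≫ 𝟙 _ = _
      rw [Category.comp_id]
      exact Category.id_comp _
    rw [h1]
    simp only [refl_app, Iso.refl_hom]
    erw [p.map_id, v.map_id, Category.id_comp, Category.comp_id])

variable {𝒦' : BasedCategory.{v₂, u₂} C} {τ : ℳ ⥤ᵇ 𝒦'} {j : 𝒦' ⥤ᵇ 𝒱}
  (κ : BasedFunctor.comp s (FibCat.fpSnd p v) ≅ BasedFunctor.comp τ j)

/-- the 2-isomorphism of the two field-valued points -/
def twoIso : BasedFunctor.comp (BasedFunctor.comp s (FibCat.fpFst p v)) p ≅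
    BasedFunctor.comp τ (BasedFunctor.comp j v) :=
  (wl s (FibCat.fpIso p v) : BasedFunctor.comp s (BasedFunctor.comp (FibCat.fpFst p v) p) ≅
    BasedFunctor.comp s (BasedFunctor.comp (FibCat.fpSnd p v) v)) ≪≫
    (wr κ v : BasedFunctor.comp (BasedFunctor.comp s (FibCat.fpSnd p v)) v ≅ BasedFunctor.comp (BasedFunctor.comp τ j) v)

/-- the other map -/
def other : FibCat.fp (BasedFunctor.comp (BasedFunctor.comp s (FibCat.fpFst p v)) p) v ⥤ᵇ
    FibCat.fp (BasedFunctor.comp j v) v :=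
  BasedFunctor.comp (fpCongrL (twoIso s κ).symm v) (fpPreL τ (BasedFunctor.comp j v) v)

/-- the image of the section under the other map -/
def otherIso : BasedFunctor.comp (secM s) (other s κ) ≅ BasedFunctor.comp τ (sec₀ j v) :=
  liftExt (Iso.refl _) κ (fun x => by
    have h1 : ((BasedFunctor.comp (secM s) (other s κ)).obj x).obj.iso.hom =
        (app (twoIso s κ) x).inv ≫ (s.obj x).obj.iso.hom := by
      change 𝟙 _ ≫ ((app (twoIso s κ) x).inv ≫ (s.obj x).obj.iso.hom ≫ 𝟙 _) ≫ 𝟙 _ = _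
      rw [Category.comp_id, Category.comp_id]
      exact Category.id_comp _
    have h2 : ((BasedFunctor.comp τ (sec₀ j v)).obj x).obj.iso.hom = 𝟙 _ := rfl
    rw [h1, h2]
    have h3 : (app (twoIso s κ) x).hom = (s.obj x).obj.iso.hom ≫ v.map (app κ x).hom := rfl
    simp only [refl_app, Iso.refl_hom]
    erw [(BasedFunctor.comp j v).map_id, Category.comp_id, Category.assoc, ← h3, Iso.inv_hom_id]
    rfl)

end Formal

section Main

open K734.Fib

variable {𝒳 : AlgSt.Cat S} (h𝒳 : AlgSt.IsAlgStack Scheme.fppfPrecoverage 𝒳)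

include h𝒳

theorem isAlgStack_fp {K V : Over S} (p : FibCat.overCat K ⥤ᵇ 𝒳) (v : FibCat.overCat V ⥤ᵇ 𝒳) :
    AlgSt.IsAlgStack Scheme.fppfPrecoverage (FibCat.fp p v) :=
  Groth.Agent.S12763.result h𝒳.isStack h𝒳.diag (K744.AlgOver.isAlgStack_overCat K) (K744.AlgOver.isAlgStack_overCat V) p v

theorem continuous_map_fp {K V : Over S} (p : FibCat.overCat K ⥤ᵇ 𝒳) (v : FibCat.overCat V ⥤ᵇ 𝒳)
    {𝒲 : BasedCategory.{v₅, u₅} (Over S)} (f : 𝒲 ⥤ᵇ FibCat.fp p v) : Continuous (AlgSt.Points.map f) :=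
  K735.Top.continuous_map (K735.Top.chartCont_of_isAlgStack (isAlgStack_fp h𝒳 p v)) f

theorem isOpenMap_fpPreL {K M : Type u} [Field K] [Field M] {a : Spec (CommRingCat.of K) ⟶ S}
    {b : Spec (CommRingCat.of M) ⟶ S} (w : FibCat.overCat (Over.mk b) ⥤ᵇ FibCat.overCat (Over.mk a)) {V : Over S}
    (p : FibCat.overCat (Over.mk a) ⥤ᵇ 𝒳) (v : FibCat.overCat V ⥤ᵇ 𝒳) :
    IsOpenMap (AlgSt.Points.map (fpPreL w p v)) :=
  K735.Top.isOpenMap_map (P := @UniversallyOpen) (fun _ _ f hf => f.isOpenMap)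
    (isAlgStack_fp h𝒳 p v).isStack.1 (isAlgStack_fp h𝒳 _ v).isStack.1
    (K735.Top.chartCont_of_isAlgStack (isAlgStack_fp h𝒳 _ v))
    (K734.Rep.repByAlgSpWith_fpPreL p v (repByAlgSpWith_univOpen w))

omit h𝒳 in
theorem subsingleton_pt {K : Type u} [Field K] {a : Spec (CommRingCat.of K) ⟶ S} :
    Subsingleton (AlgSt.Points (FibCat.overCat (Over.mk a))) := by
  have h1 := (K735.PtsSp.ofChart_id_bijective (Over.mk a)).2
  have h2 : Subsingleton ↥(Over.mk a).left := inferInstanceAs (Subsingleton ↥(Spec (CommRingCat.of K)))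
  exact h1.subsingleton

/-- homogeneity -/
theorem lcAt_iff {K M K' : Type u} [Field K] [Field M] [Field K'] {a : Spec (CommRingCat.of K) ⟶ S}
    {b : Spec (CommRingCat.of M) ⟶ S} {a' : Spec (CommRingCat.of K') ⟶ S} {V : Over S}
    {p : FibCat.overCat (Over.mk a) ⥤ᵇ 𝒳} {v : FibCat.overCat V ⥤ᵇ 𝒳}
    (s : FibCat.overCat (Over.mk b) ⥤ᵇ FibCat.fp p v) (τ : FibCat.overCat (Over.mk b) ⥤ᵇ FibCat.overCat (Over.mk a'))
    (j : FibCat.overCat (Over.mk a') ⥤ᵇ FibCat.overCat V)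
    (κ : BasedFunctor.comp s (FibCat.fpSnd p v) ≅ BasedFunctor.comp τ j)
    (B : Set (AlgSt.Points (FibCat.overCat V))) (t : ↥(Over.mk b).left) (t' : ↥(Over.mk a').left) :
    LCAt (AlgSt.Points.map (FibCat.fpSnd p v) ⁻¹' B) (AlgSt.Points.ofChart s t) ↔
      LCAt (AlgSt.Points.map (FibCat.fpSnd (BasedFunctor.comp j v) v) ⁻¹' B)
        (AlgSt.Points.ofChart (sec₀ j v) t') := by
  have h1 : AlgSt.Points.ofChart s t = AlgSt.Points.map (fpPreL (BasedFunctor.comp s (FibCat.fpFst p v)) p v)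
      (AlgSt.Points.ofChart (secM s) t) := by
    rw [← K735.PtsSp.ofChart_congr (secMIso s)]
    rfl
  have h2 : AlgSt.Points.ofChart (sec₀ j v) t' = AlgSt.Points.map (other s κ) (AlgSt.Points.ofChart (secM s) t) := by
    have e1 : AlgSt.Points.map (other s κ) (AlgSt.Points.ofChart (secM s) t) =
        AlgSt.Points.ofChart (BasedFunctor.comp τ (sec₀ j v)) t := by
      rw [← K735.PtsSp.ofChart_congr (otherIso s κ)]
      rfl
    rw [e1]
    have := subsingleton_pt (a := a')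
    have e2 : AlgSt.Points.ofChart (BasedFunctor.comp τ (sec₀ j v)) t =
        AlgSt.Points.map (sec₀ j v) (AlgSt.Points.ofChart τ t) := rfl
    have e3 : AlgSt.Points.ofChart (sec₀ j v) t' =
        AlgSt.Points.map (sec₀ j v) (AlgSt.Points.ofChart (BasedFunctor.id _) t') := rfl
    rw [e2, e3, Subsingleton.elim (AlgSt.Points.ofChart τ t) (AlgSt.Points.ofChart (BasedFunctor.id _) t')]
  have c1 : AlgSt.Points.map (fpPreL (BasedFunctor.comp s (FibCat.fpFst p v)) p v) ⁻¹'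
      (AlgSt.Points.map (FibCat.fpSnd p v) ⁻¹' B) = AlgSt.Points.map (FibCat.fpSnd _ v) ⁻¹' B := by
    rw [← Set.preimage_comp]
    congr 1
    funext x
    exact (K735.Pts.map_comp _ _ _).symm
  have c2 : AlgSt.Points.map (other s κ) ⁻¹' (AlgSt.Points.map (FibCat.fpSnd (BasedFunctor.comp j v) v) ⁻¹' B) =
      AlgSt.Points.map (FibCat.fpSnd _ v) ⁻¹' B := by
    rw [← Set.preimage_comp]
    congr 1
    funext x
    exact (K735.Pts.map_comp _ _ _).symm
  have hh := K735.Univ.isHomeomorph_map_of_isEquivOver (isEquivOver_fpCongrL (twoIso s κ).symm v)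
  have o2 : IsOpenMap (AlgSt.Points.map (other s κ)) := by
    have : AlgSt.Points.map (other s κ) = AlgSt.Points.map (fpPreL τ (BasedFunctor.comp j v) v) ∘
        AlgSt.Points.map (fpCongrL (twoIso s κ).symm v) := funext fun x => K735.Pts.map_comp _ _ _
    rw [this]
    exact (isOpenMap_fpPreL h𝒳 τ _ v).comp hh.isOpenMap
  rw [h1, h2, ← lcAt_iff_of_open (continuous_map_fp h𝒳 p v _) (isOpenMap_fpPreL h𝒳 _ p v),
    ← lcAt_iff_of_open (continuous_map_fp h𝒳 _ v _) o2, c1, c2]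

end Main

end K895.ResTop
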