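import Groth.Prelude.Def_StGerb
import Groth.Agent.Gerb.K895.Equiv
import Mathlib.CategoryTheory.Sites.InducedTopology

/-!
# Gerbes over a stack as gerbes over its site (helper895)
-/

set_option autoImplicit false
set_option backward.isDefEq.respectTransparency false
set_option backward.isDefEq.respectTransparency.types false

universe v₅ u₅ v₄ u₄ v₃ u₃ v₂ u₂ v u

open CategoryTheory K895.Fib K895.Glue

namespace K895.Restr

variable {C : Type u} [Category.{v} C] {J : GrothendieckTopology C}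

/-- the sieve of arrows lying over a sieve of the base is covering for the inherited topology -/
theorem functorPullback_mem {E : Type u₂} [Category.{v₂} E] {p : E ⥤ C} (hp : FibCat.IsFibGrpd p) (y : E)
    (R : Sieve (p.obj y)) (hR : R ∈ J (p.obj y)) : R.functorPullback p ∈ p.restrictedTopology J y := by
  apply Functor.mem_restrictedTopology_of_functorPushforward_mem
  refine J.superset_covering (fun V f hf => ?_) hR
  obtain ⟨y', φ, hφ⟩ := exists_lift hp f y rfl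
  obtain rfl : p.obj y' = V := obj_eq_of_lift_left hφ
  obtain rfl : f = p.map φ := IsHomLift.eq_of_isHomLift p f φ
  exact ⟨y', φ, 𝟙 _, hf, (Category.id_comp _).symm⟩

variable {𝒳 : BasedCategory.{v₂, u₂} C} {𝒴 : BasedCategory.{v₃, u₃} C} {𝒳' : BasedCategory.{v₄, u₄} C}

theorem isGerbeOver_of_fac {F : 𝒳 ⥤ᵇ 𝒴} (hF : Gerb.IsGerbeOver J F)
    (a : 𝒳 ⥤ᵇ 𝒳') (ha : FibCat.IsEquivOver a) (F' : 𝒳' ⥤ᵇ 𝒴) (hfac : BasedFunctor.comp a F' = F) :
    Gerb.IsGerbeOver J F' := by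
  subst hfac
  obtain ⟨-, -, f3⟩ := IsEquivOver.elim ha
  constructor
  · intro y
    obtain ⟨R, hR, h⟩ := hF.1 y
    refine ⟨R, hR, fun V f hf => ?_⟩
    obtain ⟨x, g, hg⟩ := h f hf
    exact ⟨a.obj x, g, hg⟩
  · intro x x' b hb
    have hx' : 𝒳'.p.obj x' = 𝒳'.p.obj x := (F'.w_obj x').symm.trans (obj_eq_of_lift_right hb)
    obtain ⟨z, e, he, hz⟩ := f3 x
    obtain ⟨z', e', he', hz'⟩ := f3 x'
    rw [hx'] at he' hz'
    have he'' : 𝒳'.p.IsHomLift (𝟙 (𝒳'.p.obj x)) e'.inv := by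
      have := lift_inv (χ := e'.hom) he'
      rwa [IsIso.Iso.inv_hom] at this
    obtain ⟨R, hR, h⟩ := Over.locSurjHom_at hF.2 z z' (F'.map e.hom ≫ b ≫ F'.map e'.inv) hz
      (lift_id_comp (lift_map F' he) (lift_id_comp hb (lift_map F' he'')))
    refine ⟨R, hR, fun V f hf => ?_⟩
    obtain ⟨z₀, φ, ψ, hφ, hψ, e₀⟩ := h f hf
    refine ⟨a.obj z₀, a.map φ ≫ e.hom, a.map ψ ≫ e'.hom, lift_comp_id (lift_map a hφ) he,
      lift_comp_id (lift_map a hψ) he', ?_⟩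
    have e₁ : F'.map (a.map φ) ≫ F'.map e.hom ≫ b ≫ F'.map e'.inv = F'.map (a.map ψ) := e₀
    have e₂ : F'.map e'.inv ≫ F'.map e'.hom = 𝟙 _ := by
      rw [← F'.toFunctor.map_comp, e'.inv_hom_id, F'.toFunctor.map_id]
    have e₃ := congrArg (fun t => t ≫ F'.map e'.hom) e₁
    simp only [Category.assoc] at e₃
    rw [e₂, Category.comp_id] at e₃
    rw [F'.toFunctor.map_comp, F'.toFunctor.map_comp, Category.assoc]
    exact e₃

theorem isGerbeOver_restr (h𝒴 : FibCat.IsFibGrpd 𝒴.p) (F' : 𝒳' ⥤ᵇ 𝒴) (hfib : FibCat.IsFibGrpd F'.toFunctor)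
    (hF : Gerb.IsGerbeOver J F') :
    Gerb.IsGerbeOver (𝒴.p.restrictedTopology J)
      (FibCat.toSelf (BasedCategory.ofFunctor F'.toFunctor)) := by
  constructor
  · rw [Equiv.locSurjObj_toSelf_iff]
    intro y
    obtain ⟨R, hR, h⟩ := hF.1 y
    refine ⟨_, functorPullback_mem h𝒴 y R hR, fun y' φ hφ => ?_⟩
    obtain ⟨x, g, hg⟩ := h (𝒴.p.map φ) hφ
    obtain ⟨i, -, -, -, -⟩ := exists_iso h𝒴 (𝒴.p.map φ) g φ hg (IsHomLift.map 𝒴.p φ)
    obtain ⟨x', ψ, hψ⟩ := exists_lift hfib i.hom x rfl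
    exact ⟨x', obj_eq_of_lift_left hψ⟩
  · rw [Equiv.locSurjHom_toSelf_iff]
    intro y x x' hx hx'
    have hx1 : F'.obj x = y := hx
    have hx1' : F'.obj x' = y := hx'
    subst hx1
    have hb : 𝒴.p.IsHomLift (𝟙 (𝒳'.p.obj x)) (eqToHom hx1'.symm : F'.obj x ⟶ F'.obj x') :=
      IsHomLift.eqToHom_domain_lift_id hx1'.symm (by rw [F'.w_obj]) 
    obtain ⟨R, hR, h⟩ := hF.2 x x' (eqToHom hx1'.symm) hb
    have hR' : R.pullback (eqToHom (F'.w_obj x)) ∈ J (𝒴.p.obj (F'.obj x)) := J.pullback_stable _ hR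
    refine ⟨_, functorPullback_mem h𝒴 (F'.obj x) _ hR', fun y' φ hφ => ?_⟩
    obtain ⟨x₀, α, β, hα, hβ, e₀⟩ := h (𝒴.p.map φ ≫ eqToHom (F'.w_obj x)) hφ
    have hφ' : 𝒴.p.IsHomLift (𝒴.p.map φ ≫ eqToHom (F'.w_obj x)) φ := inferInstance
    obtain ⟨i, -, -, ei, -⟩ := exists_iso h𝒴 _ (F'.map α) φ (lift_map F' hα) hφ'
    obtain ⟨x₀', ψ, hψ⟩ := exists_lift hfib i.hom x₀ rfl
    refine ⟨x₀', ψ ≫ α, ψ ≫ β, ?_, ?_⟩
    · have := lift_comp (p := F'.toFunctor) hψ (IsHomLift.map F'.toFunctor α)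
      exact lift_eq this ei
    · have h1 := lift_comp (p := F'.toFunctor) hψ (IsHomLift.map F'.toFunctor β)
      have h2 : F'.toFunctor.IsHomLift ((i.hom ≫ F'.toFunctor.map β) ≫ eqToHom hx1') (ψ ≫ β) := inferInstance
      refine lift_eq h2 ?_
      have e1 : F'.map β ≫ eqToHom hx1' = F'.map α := by
        rw [← e₀]; simp
      rw [Category.assoc]
      exact (congrArg (fun t => i.hom ≫ t) e1).trans ei

end K895.Restr
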