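import Groth.Agent.Gerb.K895.SpTriv
import Groth.Agent.AlgSt.K734.RepSp

/-!
# The sheaf of automorphisms of a section over a sheaf `B` as a representing sheaf of `fp x x` (helper895)

`x : ofSp B ⥤ᵇ 𝒳` a section of `π : 𝒳 ⥤ᵇ ofSp B`, `e : ofSp F ⥤ᵇ fp x x` an equivalence, over `π' : F ⟶ B`: the points
`hh s ⟶ Over.mk π'` are the automorphisms of `x s` (`rho`), naturally (`rho_nat`).
-/

set_option autoImplicit false
set_option backward.isDefEq.respectTransparency false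
set_option backward.isDefEq.respectTransparency.types false

universe v₂ u₂ w v u

open CategoryTheory CategoryTheory.Limits AlgebraicGeometry
open Opposite AlgSp K895.GrpSh K895.Fib

namespace K895.SecGrp

section Res

variable {C : Type u} [Category.{v} C] {𝒮 : BasedCategory.{w, u₂} C} {𝒳 : BasedCategory.{v₂, u₂} C}

/-- uniqueness in the restriction of automorphisms -/
theorem res_unique (h𝒳 : FibCat.IsFibGrpd 𝒳.p) {a b : 𝒳.obj} (φ : a ⟶ b) {τ τ' : Gerb.AutO a}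
    (h : τ.hom.1 ≫ φ = τ'.hom.1 ≫ φ) : τ = τ' := by
  apply Global.autO_ext
  exact hom_unique h𝒳 (𝟙 _) (𝒳.p.map φ) φ (IsHomLift.map 𝒳.p φ) _ _ (Global.autO_lift τ) (Global.autO_lift τ') h

theorem exists_res (h𝒳 : FibCat.IsFibGrpd 𝒳.p) {a b : 𝒳.obj} (φ : a ⟶ b) (τ : Gerb.AutO b) :
    ∃ τ' : Gerb.AutO a, τ'.hom.1 ≫ φ = φ ≫ τ.hom.1 := by
  have hφ : 𝒳.p.IsHomLift (𝒳.p.map φ) φ := IsHomLift.map 𝒳.p φ
  obtain ⟨k, hk, e⟩ := exists_fac h𝒳 (𝟙 _) (𝒳.p.map φ) φ (φ ≫ τ.hom.1) hφ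
    (lift_eq (lift_comp_id hφ (Global.autO_lift τ)) (Category.id_comp _).symm)
  exact ⟨Global.mkAut h𝒳 k hk, e⟩

/-- restriction of automorphisms -/
noncomputable def res (h𝒳 : FibCat.IsFibGrpd 𝒳.p) {a b : 𝒳.obj} (φ : a ⟶ b) : Gerb.AutO b →* Gerb.AutO a where
  toFun τ := (exists_res h𝒳 φ τ).choose
  map_one' := by
    refine res_unique h𝒳 φ ?_
    rw [(exists_res h𝒳 φ 1).choose_spec, Global.autO_one, Global.autO_one, Category.comp_id, Category.id_comp]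
  map_mul' τ τ' := by
    refine res_unique h𝒳 φ ?_
    rw [(exists_res h𝒳 φ _).choose_spec, Global.autO_mul, Global.autO_mul, Category.assoc,
      (exists_res h𝒳 φ τ).choose_spec, ← Category.assoc, ← Category.assoc, (exists_res h𝒳 φ τ').choose_spec]

theorem res_spec (h𝒳 : FibCat.IsFibGrpd 𝒳.p) {a b : 𝒳.obj} (φ : a ⟶ b) (τ : Gerb.AutO b) :
    (res h𝒳 φ τ).hom.1 ≫ φ = φ ≫ τ.hom.1 := (exists_res h𝒳 φ τ).choose_spec

theorem eq_res (h𝒳 : FibCat.IsFibGrpd 𝒳.p) {a b : 𝒳.obj} (φ : a ⟶ b) {τ : Gerb.AutO b} {τ' : Gerb.AutO a}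
    (h : τ'.hom.1 ≫ φ = φ ≫ τ.hom.1) : τ' = res h𝒳 φ τ :=
  res_unique h𝒳 φ (h.trans (res_spec h𝒳 φ τ).symm)

end Res

variable {S : Scheme.{u}} {B : Sp S} {𝒳 : BasedCategory.{v₂, u₂} (Over S)} (h𝒳 : FibCat.IsFibGrpd 𝒳.p)
  (x : AlgSt.ofSp B ⥤ᵇ 𝒳)

/-- the isomorphism of an automorphism over the identity -/
def isoOf {a : 𝒳.obj} (τ : Gerb.AutO a) : a ≅ a where
  hom := τ.hom.1
  inv := τ.inv.1
  hom_inv_id := Global.autO_hom_inv τ
  inv_hom_id := Global.autO_inv_hom τ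

/-- the object `(s, s, τ)` of `fp x x` -/
def delta (s : (AlgSt.ofSp B).obj) (τ : Gerb.AutO (x.obj s)) : (FibCat.fp x x).obj :=
  ⟨{ fst := s
     snd := s
     iso := isoOf τ },
   (Global.autO_lift' (x.w_obj s) τ : 𝒳.p.IsHomLift (𝟙 s.base) τ.hom.1)⟩

/-- the morphism of such objects -/
def deltaMap {s' s : (AlgSt.ofSp B).obj} (σ : s' ⟶ s) {τ' : Gerb.AutO (x.obj s')} {τ : Gerb.AutO (x.obj s)}
    (h : τ'.hom.1 ≫ x.map σ = x.map σ ≫ τ.hom.1) : delta x s' τ' ⟶ delta x s τ :=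
  ObjectProperty.homMk
    { fst := σ
      snd := σ
      w := h.symm }

theorem deltaMap_lift {s' s : (AlgSt.ofSp B).obj} (σ : s' ⟶ s) {τ' : Gerb.AutO (x.obj s')} {τ : Gerb.AutO (x.obj s)}
    (h : τ'.hom.1 ≫ x.map σ = x.map σ ≫ τ.hom.1) : (FibCat.fp x x).p.IsHomLift σ.hom (deltaMap x σ h) :=
  IsHomLift.map (FibCat.fp x x).p (deltaMap x σ h)

theorem hom_id_of_lift {s : (AlgSt.ofSp B).obj} (σ : s ⟶ s) (h : (AlgSt.ofSp B).p.IsHomLift (𝟙 s.base) σ) : σ = 𝟙 s := by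
  apply Stk.EltObj.hom_ext
  have h2 := IsHomLift.fac' (AlgSt.ofSp B).p (𝟙 s.base) σ
  change σ.hom = _ at h2
  rw [h2]
  simp

variable {x} in
theorem delta_inj {s : (AlgSt.ofSp B).obj} {τ τ' : Gerb.AutO (x.obj s)} (m : delta x s τ ⟶ delta x s τ')
    (hm : (FibCat.fp x x).p.IsHomLift (𝟙 s.base) m) : τ = τ' := by
  have h1 : m.hom.fst = 𝟙 s := hom_id_of_lift _ (lift_map (FibCat.fpFst x x) hm)
  have h2 : m.hom.snd = 𝟙 s := hom_id_of_lift _ (lift_map (FibCat.fpSnd x x) hm)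
  have h3 : x.map m.hom.fst ≫ τ'.hom.1 = τ.hom.1 ≫ x.map m.hom.snd := m.hom.w
  rw [h1, h2] at h3
  have h4 : x.map (𝟙 s) = 𝟙 (x.obj s) := x.toFunctor.map_id s
  have h5 : τ'.hom.1 = τ.hom.1 :=
    calc τ'.hom.1 = 𝟙 (x.obj s) ≫ τ'.hom.1 := (Category.id_comp _).symm
      _ = x.map (𝟙 s) ≫ τ'.hom.1 := by rw [h4]
      _ = τ.hom.1 ≫ x.map (𝟙 s) := h3
      _ = τ.hom.1 ≫ 𝟙 (x.obj s) := by rw [h4]
      _ = τ.hom.1 := Category.comp_id _
  exact Global.autO_ext h5.symm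

section Rep

variable {π : 𝒳 ⥤ᵇ AlgSt.ofSp B} (ex : BasedFunctor.comp x π ≅ BasedFunctor.id (AlgSt.ofSp B))
  {F : Sp S} {π' : F ⟶ B} (e : AlgSt.ofSp F ⥤ᵇ FibCat.fp x x)
  (α : BasedFunctor.comp e (FibCat.fpFst x x) ≅ AlgSt.ofSpMap π')

/-- the section of `F` of a point -/
noncomputable def tk {s : (AlgSt.ofSp B).obj} (k : hh s ⟶ Over.mk π') : (AlgSt.ofSp F).obj :=
  ⟨s.base, (J S).uliftYonedaEquiv k.left⟩

theorem app_tk {s : (AlgSt.ofSp B).obj} (k : hh s ⟶ Over.mk π') :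
    π'.hom.app (op s.base) ((J S).uliftYonedaEquiv k.left) = s.sec := by
  have h : k.left ≫ π' = sy s := Over.w k
  have h2 := (J S).uliftYonedaEquiv_comp k.left π'
  rw [h, Equiv.apply_symm_apply] at h2
  exact h2.symm

/-- the canonical map of `s` to the section of `B` below -/
noncomputable def toTk {s : (AlgSt.ofSp B).obj} (k : hh s ⟶ Over.mk π') : s ⟶ (AlgSt.ofSpMap π').obj (tk k) :=
  ⟨𝟙 s.base, by
    change B.obj.map (𝟙 _) (π'.hom.app (op s.base) ((J S).uliftYonedaEquiv k.left)) = s.sec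
    rw [app_tk, B.obj.map_id]
    rfl⟩

theorem toTk_lift {s : (AlgSt.ofSp B).obj} (k : hh s ⟶ Over.mk π') :
    (AlgSt.ofSp B).p.IsHomLift (𝟙 s.base) (toTk k) := IsHomLift.map (AlgSt.ofSp B).p (toTk k)

/-- the relation between points and automorphisms -/
def RelP (s : (AlgSt.ofSp B).obj) (k : hh s ⟶ Over.mk π') (τ : Gerb.AutO (x.obj s)) : Prop :=
  ∃ m : delta x s τ ⟶ e.obj (tk k), (FibCat.fp x x).p.IsHomLift (𝟙 s.base) m

include h𝒳

theorem hZ : FibCat.IsFibGrpd (FibCat.fp x x).p :=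
  K734.Fib.isFibGrpd_fp x x (Stk.isFibGrpd_ofPsh B.obj) (Stk.isFibGrpd_ofPsh B.obj) h𝒳

variable {x e}

theorem rel_unique {s : (AlgSt.ofSp B).obj} {k : hh s ⟶ Over.mk π'} {τ τ' : Gerb.AutO (x.obj s)}
    (h : RelP x e s k τ) (h' : RelP x e s k τ') : τ = τ' := by
  obtain ⟨m, hm⟩ := h
  obtain ⟨m', hm'⟩ := h'
  have := isIso (hZ h𝒳 x) (𝟙 _) m' hm'
  exact delta_inj (m ≫ inv m') (lift_id_comp hm (lift_inv hm'))

include ex α in
theorem rel_exists (s : (AlgSt.ofSp B).obj) (k : hh s ⟶ Over.mk π') : ∃ τ : Gerb.AutO (x.obj s), RelP x e s k τ := by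
  let z := e.obj (tk k)
  have hz : (FibCat.fp x x).p.obj z = s.base := e.w_obj (tk k)
  let i : s ⟶ z.obj.fst := toTk k ≫ (appIso α (tk k)).inv
  have hi : (AlgSt.ofSp B).p.IsHomLift (𝟙 s.base) i := lift_id_comp (toTk_lift k) (appIso_inv_lift α rfl)
  have hθ : 𝒳.p.IsHomLift (𝟙 s.base) z.obj.iso.hom := by
    have := z.property
    change 𝒳.p.IsHomLift (𝟙 ((FibCat.fp x x).p.obj z)) z.obj.iso.hom at this
    rw [hz] at this
    exact this
  let j : s ⟶ z.obj.snd := i ≫ (appIso ex z.obj.fst).inv ≫ π.map z.obj.iso.hom ≫ (appIso ex z.obj.snd).hom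
  have hb : z.obj.snd.base = s.base := ((FibCat.fpSnd x x).w_obj z).trans hz
  have hj : (AlgSt.ofSp B).p.IsHomLift (𝟙 s.base) j :=
    lift_id_comp hi (lift_id_comp (appIso_inv_lift ex hz) (lift_id_comp (lift_map π hθ) (appIso_hom_lift ex hb)))
  have hxj : 𝒳.p.IsHomLift (𝟙 s.base) (x.map j) := lift_map x hj
  have := isIso h𝒳 (𝟙 _) (x.map j) hxj
  have hτ : 𝒳.p.IsHomLift (𝟙 s.base) (x.map i ≫ z.obj.iso.hom ≫ inv (x.map j)) :=
    lift_id_comp (lift_map x hi) (lift_id_comp hθ (lift_inv hxj))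
  have hτ' : 𝒳.p.IsHomLift (𝟙 (𝒳.p.obj (x.obj s))) (x.map i ≫ z.obj.iso.hom ≫ inv (x.map j)) := by
    rw [x.w_obj]
    exact hτ
  let τ := Global.mkAut h𝒳 _ hτ'
  refine ⟨τ, ObjectProperty.homMk { fst := i, snd := j, w := ?_ }, ?_⟩
  · change x.map i ≫ z.obj.iso.hom = (x.map i ≫ z.obj.iso.hom ≫ inv (x.map j)) ≫ x.map j
    rw [Category.assoc, Category.assoc, IsIso.inv_hom_id, Category.comp_id]
  · have h1 : (AlgSt.ofSp B).p.IsHomLift (𝟙 s.base) i := hi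
    refine IsHomLift.of_fac' _ _ _ rfl hz ?_
    have h2 := IsHomLift.fac' (AlgSt.ofSp B).p (𝟙 s.base) i
    exact h2

omit h𝒳

variable (he : FibCat.IsEquivOver e)

include he α in
theorem exists_pt (s : (AlgSt.ofSp B).obj) (τ : Gerb.AutO (x.obj s)) : ∃ k : hh s ⟶ Over.mk π', RelP x e s k τ := by
  obtain ⟨-, -, h⟩ := IsEquivOver.elim he
  obtain ⟨t, m, hm, ht⟩ := h (delta x s τ)
  obtain ⟨T, b⟩ := s
  obtain ⟨T', f⟩ := t
  change T' = T at ht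
  subst ht
  have hm' : (FibCat.fp x x).p.IsHomLift (𝟙 T') m.hom := hm
  -- the section below
  let n : (⟨T', b⟩ : (AlgSt.ofSp B).obj) ⟶ ⟨T', π'.hom.app (op T') f⟩ :=
    (FibCat.fpFst x x).map m.inv ≫ (appIso α ⟨T', f⟩).hom
  have hn : (AlgSt.ofSp B).p.IsHomLift (𝟙 T') n :=
    lift_id_comp (lift_map (FibCat.fpFst x x) (by
      have := lift_inv hm'
      rw [IsIso.Iso.inv_hom] at this
      exact this)) (appIso_hom_lift α rfl)
  have hsec : π'.hom.app (op T') f = b := by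
    have h1 := n.map_sec
    have h2 := IsHomLift.fac' (AlgSt.ofSp B).p (𝟙 T') n
    change n.hom = _ at h2
    have h3 : n.hom = 𝟙 _ := by rw [h2]; simp
    rw [h3] at h1
    have h4 : B.obj.map (𝟙 T').op (π'.hom.app (op T') f) = b := h1
    rw [op_id, B.obj.map_id] at h4
    exact h4
  have hf : (J S).uliftYonedaEquiv (sy (⟨T', f⟩ : (AlgSt.ofSp F).obj)) = f := SpTriv.eq_sy _
  let k : hh (⟨T', b⟩ : (AlgSt.ofSp B).obj) ⟶ Over.mk π' := Over.homMk (sy (⟨T', f⟩ : (AlgSt.ofSp F).obj)) (by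
    apply (J S).uliftYonedaEquiv.injective
    change π'.hom.app (op T') ((J S).uliftYonedaEquiv (sy (⟨T', f⟩ : (AlgSt.ofSp F).obj))) = _
    rw [hf, hsec]
    exact (SpTriv.eq_sy (⟨T', b⟩ : (AlgSt.ofSp B).obj)).symm)
  let c : (⟨T', f⟩ : (AlgSt.ofSp F).obj) ⟶ tk k := ⟨𝟙 T', by
    change F.obj.map (𝟙 _) ((J S).uliftYonedaEquiv (sy (⟨T', f⟩ : (AlgSt.ofSp F).obj))) = f
    rw [hf, F.obj.map_id]
    rfl⟩
  have hc : (AlgSt.ofSp F).p.IsHomLift (𝟙 T') c := IsHomLift.map (AlgSt.ofSp F).p c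
  have hmi : (FibCat.fp x x).p.IsHomLift (𝟙 T') m.inv := by
    have := lift_inv hm'
    rw [IsIso.Iso.inv_hom] at this
    exact this
  exact ⟨k, m.inv ≫ e.map c, lift_id_comp hmi (lift_map e hc)⟩

include he h𝒳 in
theorem rel_inj {s : (AlgSt.ofSp B).obj} {k k' : hh s ⟶ Over.mk π'} {τ : Gerb.AutO (x.obj s)}
    (h : RelP x e s k τ) (h' : RelP x e s k' τ) : k = k' := by
  obtain ⟨m, hm⟩ := h
  obtain ⟨m', hm'⟩ := h'
  obtain ⟨hfull, -, -⟩ := IsEquivOver.elim he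
  have := isIso (hZ h𝒳 x) (𝟙 _) m hm
  obtain ⟨n, hn⟩ := hfull.map_surjective (inv m ≫ m')
  have hn' : (AlgSt.ofSp F).p.IsHomLift (𝟙 s.base) n := by
    apply lift_of_map e
    rw [hn]
    exact lift_id_comp (lift_inv hm) hm'
  ext : 1
  apply (J S).uliftYonedaEquiv.injective
  have h1 := n.map_sec
  have h2 := IsHomLift.fac' (AlgSt.ofSp F).p (𝟙 s.base) n
  change n.hom = _ at h2
  have h3 : n.hom = 𝟙 s.base := by rw [h2]; simp; rfl
  rw [h3] at h1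
  have h4 : F.obj.map (𝟙 s.base).op ((J S).uliftYonedaEquiv k'.left) = (J S).uliftYonedaEquiv k.left := h1
  rw [op_id, F.obj.map_id] at h4
  exact h4.symm

include h𝒳 in
theorem rel_nat {s' s : (AlgSt.ofSp B).obj} (σ : s' ⟶ s) {k : hh s ⟶ Over.mk π'} {τ' : Gerb.AutO (x.obj s')}
    {τ : Gerb.AutO (x.obj s)} (h : τ'.hom.1 ≫ x.map σ = x.map σ ≫ τ.hom.1) (hr : RelP x e s k τ) :
    RelP x e s' (hmap σ ≫ k) τ' := by
  obtain ⟨m, hm⟩ := hr
  have h1 : (FibCat.fp x x).p.IsHomLift σ.hom (deltaMap x σ h ≫ m) := lift_comp_id (deltaMap_lift x σ h) hm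
  have hfib := hZ h𝒳 x
  let c : tk (hmap σ ≫ k) ⟶ tk k := ⟨σ.hom, (GrothendieckTopology.uliftYonedaEquiv_naturality _ _ _)⟩
  have hc : (AlgSt.ofSp F).p.IsHomLift σ.hom c := IsHomLift.map (AlgSt.ofSp F).p c
  obtain ⟨χ, hχ, -⟩ := exists_iso hfib (f := σ.hom) (e.map c) (deltaMap x σ h ≫ m) (lift_map e hc) h1
  exact ⟨χ.hom, hχ⟩

/-- points of `F` over `s` and automorphisms of `x s` -/
noncomputable def rho (s : (AlgSt.ofSp B).obj) : (hh s ⟶ Over.mk π') ≃ Gerb.AutO (x.obj s) where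
  toFun k := (rel_exists h𝒳 ex α s k).choose
  invFun τ := (exists_pt α he s τ).choose
  left_inv k := by
    have h1 := (rel_exists h𝒳 ex α s k).choose_spec
    exact rel_inj h𝒳 he (exists_pt α he s _).choose_spec h1
  right_inv τ := rel_unique h𝒳 (rel_exists h𝒳 ex α s _).choose_spec (exists_pt α he s τ).choose_spec

include h𝒳 in
theorem rho_rel (s : (AlgSt.ofSp B).obj) (k : hh s ⟶ Over.mk π') : RelP x e s k (rho h𝒳 ex α he s k) :=
  (rel_exists h𝒳 ex α s k).choose_spec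

include h𝒳 in
theorem rho_nat {s' s : (AlgSt.ofSp B).obj} (σ : s' ⟶ s) (k : hh s ⟶ Over.mk π') :
    rho h𝒳 ex α he s' (hmap σ ≫ k) = res h𝒳 (x.map σ) (rho h𝒳 ex α he s k) := by
  have h1 := rel_nat h𝒳 (e := e) σ (res_spec h𝒳 (x.map σ) (rho h𝒳 ex α he s k)) (rho_rel h𝒳 ex α he s k)
  exact rel_unique h𝒳 (rho_rel h𝒳 ex α he s' _) h1

end Rep

end K895.SecGrp
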