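import Groth.Agent.Gerb.K895.SecGrp
import Groth.Agent.Gerb.K895.Cmp
import Groth.Agent.Stk.K751.OfPsh

/-!
# A gerbe over a sheaf with a section is a classifying stack (helper895)

`exists_spBG`: `π : 𝒳 ⥤ᵇ ofSp B` a stack whose morphisms lift locally from `B`, `x` a section, `π' : F ⟶ B` a sheaf
representing `fp x x`.  Then `π'` is a group object over `B` and `SpBG (Over.mk π')` is equivalent to `𝒳` over `B`.
-/

set_option autoImplicit false
set_option backward.isDefEq.respectTransparency false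
set_option backward.isDefEq.respectTransparency.types false

universe v₂ u₂ w v u

open CategoryTheory CategoryTheory.Limits MonoidalCategory CartesianMonoidalCategory MonObj GrpObj AlgebraicGeometry
open Opposite AlgSp K895.GrpSh K895.Fib

namespace K895.SpBGEq

variable {S : Scheme.{u}} {B : Sp S} {𝒳 : BasedCategory.{v₂, u₂} (Over S)}

theorem isStack_ofSp (F : Sp S) : Stk.IsStack (J S) (AlgSt.ofSp F) :=
  (K751.OfPsh.isStack_ofPsh_iff _).2 ((isSheaf_iff_isSheaf_of_type _ _).1 F.property)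

theorem exists_spBG (h𝒳 : Stk.IsStack (J S) 𝒳) (π : 𝒳 ⥤ᵇ AlgSt.ofSp B) (hπ : Gerb.LocSurjHom (J S) π)
    (x : AlgSt.ofSp B ⥤ᵇ 𝒳) (ex : BasedFunctor.comp x π ≅ BasedFunctor.id (AlgSt.ofSp B))
    {F : Sp S} {π' : F ⟶ B} (h : K734.Rep.IsRep x x π') :
    ∃ _ : GrpObj (Over.mk π'), ∃ e : AlgSt.SpBG Scheme.fppfPrecoverage (Over.mk π') ⥤ᵇ 𝒳,
      FibCat.IsEquivOver e ∧ Nonempty (BasedFunctor.comp e π ≅
        W4stkstmgerbes.spQuotToBase Scheme.fppfPrecoverage (Over.mk π') (AlgSt.trivGAction (Over.mk π'))) := by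
  have hfib : FibCat.IsFibGrpd 𝒳.p := h𝒳.1
  obtain ⟨e, he, ⟨α⟩⟩ := h
  obtain ⟨hG, hmul⟩ := exists_grpObj (A := fun s => Gerb.AutO (x.obj s))
    (res := fun {s s'} σ => SecGrp.res hfib (x.map σ)) (SecGrp.rho hfib ex α he)
    (fun {s s'} σ k => SecGrp.rho_nat hfib ex α he σ k)
  refine ⟨hG, ?_⟩
  let rhoM : ∀ s : (AlgSt.ofSp B).obj, (hh s ⟶ Over.mk π') ≃* Gerb.AutO (x.obj s) := fun s =>
    { SecGrp.rho hfib ex α he s with map_mul' := hmul s }
  have hrhoM : ∀ s k, rhoM s k = SecGrp.rho hfib ex α he s k := fun s k => rfl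
  let D : Cmp.Data (W4stkstmgerbes.spQuotToBase Scheme.fppfPrecoverage (Over.mk π') (AlgSt.trivGAction (Over.mk π')))
      (SpTriv.yy Scheme.fppfPrecoverage (Over.mk π')) π x :=
    { hS := fun φ ψ h => Stk.EltObj.hom_ext h
      hB := K744.SpQ.isFibGrpd
      hX := hfib
      ey := SpTriv.ey _ _
      ex := ex
      «ι» := fun s => (SpTriv.autEq s).trans (rhoM s)
      nat := by
        intro s' s σ α' α₁ h
        have h1 := SpTriv.autEq_nat σ α' α₁ h
        change (rhoM s' (SpTriv.autEq s' α')).hom.1 ≫ x.map σ = x.map σ ≫ (rhoM s (SpTriv.autEq s α₁)).hom.1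
        rw [h1, hrhoM, hrhoM, SecGrp.rho_nat]
        exact SecGrp.res_spec hfib (x.map σ) _ }
  exact Cmp.exists_equiv D (K744.SpQ.isStack _) h𝒳
    (LocEquiv.isPrestack_of_isStack (isStack_ofSp B)) (SpTriv.locSurjHom _) hπ

end K895.SpBGEq
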