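import Groth.Agent.Gerb.K895.SpBGEq
import Groth.Agent.Gerb.K895.Restr

/-!
# `SpBG G ⟶ B` is a gerbe (helper895)
-/

set_option autoImplicit false
set_option backward.isDefEq.respectTransparency false
set_option backward.isDefEq.respectTransparency.types false

universe v₃ u₃ v₂ u₂ w v u

open CategoryTheory CategoryTheory.Limits MonoidalCategory CartesianMonoidalCategory MonObj GrpObj AlgebraicGeometry
open Opposite AlgSp K895.GrpSh K895.Fib

namespace K895.SpBGGerbe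

section Site

variable {C : Type u} [Category.{v} C] {J : GrothendieckTopology C}
  {𝒳 : BasedCategory.{v₂, u₂} C} {𝒴 : BasedCategory.{v₃, u₃} C}

theorem locSurjObj_of_iso {F F' : 𝒳 ⥤ᵇ 𝒴} (e : F ≅ F') (h : Gerb.LocSurjObj J F) : Gerb.LocSurjObj J F' := by
  intro y
  obtain ⟨R, hR, H⟩ := h y
  refine ⟨R, hR, fun V f hf => ?_⟩
  obtain ⟨x, g, hg⟩ := H f hf
  have hx : 𝒳.p.obj x = V := (F.w_obj x).symm.trans (obj_eq_of_lift_left hg)
  exact ⟨x, (appIso e x).inv ≫ g, lift_id_comp (appIso_inv_lift e hx) hg⟩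

theorem locSurjHom_of_iso {F F' : 𝒳 ⥤ᵇ 𝒴} (e : F ≅ F') (h : Gerb.LocSurjHom J F) : Gerb.LocSurjHom J F' := by
  intro x x' b hb
  have hx' : 𝒳.p.obj x' = 𝒳.p.obj x := (F'.w_obj x').symm.trans (obj_eq_of_lift_right hb)
  obtain ⟨R, hR, H⟩ := h x x' ((appIso e x).hom ≫ b ≫ (appIso e x').inv)
    (lift_id_comp (appIso_hom_lift e rfl) (lift_id_comp hb (appIso_inv_lift e hx')))
  refine ⟨R, hR, fun V f hf => ?_⟩
  obtain ⟨x₀, φ, ψ, hφ, hψ, h1⟩ := H f hf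
  refine ⟨x₀, φ, ψ, hφ, hψ, ?_⟩
  have h2 := appIso_naturality e φ
  have h3 := appIso_naturality e ψ
  rw [← cancel_epi (appIso e x₀).hom, ← h3, ← Category.assoc, ← h2, ← h1]
  simp only [Category.assoc, Iso.inv_hom_id, Category.comp_id]

theorem isGerbeOver_of_iso {F F' : 𝒳 ⥤ᵇ 𝒴} (e : F ≅ F') (h : Gerb.IsGerbeOver J F) : Gerb.IsGerbeOver J F' :=
  ⟨locSurjObj_of_iso e h.1, locSurjHom_of_iso e h.2⟩

end Site

variable {S : Scheme.{u}} {B : Sp S}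

/-- `SpBG G ⟶ B` is a gerbe. -/
theorem isGerbeOver_spQuotToBase (G : Over B) [GrpObj G] :
    Gerb.IsGerbeOver (J S) (W4stkstmgerbes.spQuotToBase Scheme.fppfPrecoverage G (AlgSt.trivGAction G)) := by
  refine ⟨?_, SpTriv.locSurjHom G⟩
  intro s
  refine ⟨⊤, (J S).top_mem _, fun V f _ => ?_⟩
  obtain ⟨s', σ, hσ⟩ := exists_lift (Stk.isFibGrpd_ofPsh B.obj) f s rfl
  have hs' : s'.base = V := obj_eq_of_lift_left hσ
  refine ⟨SpTriv.yob _ G s', (SpTriv.eyApp _ G s').hom ≫ σ, ?_⟩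
  subst hs'
  exact lift_id_comp (IsHomLift.map (AlgSt.ofSp B).p (SpTriv.eyApp _ G s').hom) hσ

/-- A functor equivalent to `SpBG G ⟶ B` is a gerbe. -/
theorem isGerbeOver_of_spBG {𝒳 : BasedCategory.{v₂, u₂} (Over S)} (π : 𝒳 ⥤ᵇ AlgSt.ofSp B) (G : Over B) [GrpObj G]
    (e : AlgSt.SpBG Scheme.fppfPrecoverage G ⥤ᵇ 𝒳) (he : FibCat.IsEquivOver e)
    (i : BasedFunctor.comp e π ≅ W4stkstmgerbes.spQuotToBase Scheme.fppfPrecoverage G (AlgSt.trivGAction G)) :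
    Gerb.IsGerbeOver (J S) π :=
  Restr.isGerbeOver_of_fac (isGerbeOver_of_iso i.symm (isGerbeOver_spQuotToBase G)) e he π rfl

end K895.SpBGGerbe
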