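import Groth.Agent.Gerb.K895.GrpSh
import Groth.Agent.Gerb.K895.Global
import Groth.Agent.AlgSt.K744.SpQStk
import Groth.Prelude.Def_W4stkstmgerbesQuotBase

/-!
# The trivial torsors in `SpBG` (helper895)

`yy K G : ofSp B ⥤ᵇ SpBG K G` the section of `spQuotToBase` given by the trivial torsors; automorphisms of a trivial torsor are
the points of `G` (`autEq`); morphisms from trivial torsors are sections (`ofSec`); `locSurjHom`.
-/

set_option autoImplicit false
set_option backward.isDefEq.respectTransparency false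
set_option backward.isDefEq.respectTransparency.types false
set_option linter.unusedSimpArgs false

universe w v u

open CategoryTheory CategoryTheory.Limits MonoidalCategory CartesianMonoidalCategory MonObj GrpObj AlgebraicGeometry
open Opposite AlgSp K895.GrpSh

namespace K895.SpTriv

variable {S : Scheme.{u}} {B : Sp S}

section

variable (K : Precoverage Scheme.{u}) [K.HasIsos] (G : Over B) [GrpObj G]

/-- the trivial torsor over a section -/
noncomputable def yob (s : (AlgSt.ofSp B).obj) : (AlgSt.SpBG K G).obj where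
  base := s.base
  b := sy s
  P := G ⊗ hh s
  act := AlgSt.spLeftMul G _
  π := snd G _
  cart := AlgSt.isPullback_spLeftMul _
  loc := AlgSt.hasSecLoc_of_section K (snd G (hh s)).left
    (lift (toUnit _ ≫ η[G]) (𝟙 (hh s))).left (by
      rw [← Over.comp_left, lift_snd, Over.id_left]; rfl)
  φ := toUnit _
  eqv := toUnit_unique _ _

/-- the map of trivial torsors -/
noncomputable def ymap {s s' : (AlgSt.ofSp B).obj} (σ : s ⟶ s') : yob K G s ⟶ yob K G s' where
  base := σ.hom
  wb := sy_comp σ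
  top := G ◁ hmap σ
  eqv := by
    change (AlgSt.spLeftMul G (hh s)).act ≫ (G ◁ hmap σ) = (G ◁ (G ◁ hmap σ)) ≫ (AlgSt.spLeftMul G (hh s')).act
    apply CartesianMonoidalCategory.hom_ext
    · simp only [AlgSt.spLeftMul, Category.assoc, lift_fst, lift_snd, lift_fst_assoc, lift_snd_assoc, comp_lift, comp_mul, whiskerLeft_fst, whiskerLeft_snd, whiskerLeft_fst_assoc, whiskerLeft_snd_assoc]
    · simp only [AlgSt.spLeftMul, Category.assoc, lift_fst, lift_snd, lift_fst_assoc, lift_snd_assoc, comp_lift, comp_mul, whiskerLeft_fst, whiskerLeft_snd, whiskerLeft_fst_assoc, whiskerLeft_snd_assoc]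
  cart := AlgSt.isPullback_whiskerLeft' _
  wφ := toUnit_unique _ _

/-- the functor of trivial torsors -/
noncomputable def yy : AlgSt.ofSp B ⥤ᵇ AlgSt.SpBG K G where
  toFunctor :=
    { obj := yob K G
      map := fun {s s'} σ => ymap K G σ
      map_id := fun s => AlgSt.SpQuotObj.hom_ext rfl (by
        change G ◁ hmap (𝟙 s) = 𝟙 _
        rw [hmap_id, MonoidalCategory.whiskerLeft_id])
      map_comp := fun f g => AlgSt.SpQuotObj.hom_ext rfl (by
        change G ◁ hmap (f ≫ g) = (G ◁ hmap f) ≫ (G ◁ hmap g)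
        rw [← MonoidalCategory.whiskerLeft_comp, ← hmap_comp]) }
  w := rfl

theorem yy_obj (s : (AlgSt.ofSp B).obj) : (yy K G).obj s = yob K G s := rfl

theorem yy_map {s s' : (AlgSt.ofSp B).obj} (σ : s ⟶ s') : (yy K G).map σ = ymap K G σ := rfl

theorem eq_sy (s : (AlgSt.ofSp B).obj) : (J S).uliftYonedaEquiv (sy s) = s.sec := Equiv.apply_symm_apply _ _

theorem baseSec_yob (s : (AlgSt.ofSp B).obj) :
    ((W4stkstmgerbes.spQuotToBase K G (AlgSt.trivGAction G)).obj (yob K G s)).sec = s.sec := eq_sy s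

/-- the component of the section property -/
noncomputable def eyApp (s : (AlgSt.ofSp B).obj) :
    (W4stkstmgerbes.spQuotToBase K G (AlgSt.trivGAction G)).obj (yob K G s) ≅ s where
  hom := ⟨𝟙 s.base, by
    rw [baseSec_yob]
    exact ConcreteCategory.congr_hom (B.obj.map_id (op s.base)) s.sec⟩
  inv := ⟨𝟙 s.base, by
    rw [baseSec_yob]
    exact ConcreteCategory.congr_hom (B.obj.map_id (op s.base)) s.sec⟩
  hom_inv_id := Stk.EltObj.hom_ext (Category.comp_id _)
  inv_hom_id := Stk.EltObj.hom_ext (Category.comp_id _)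

/-- the section property -/
noncomputable def ey : BasedFunctor.comp (yy K G) (W4stkstmgerbes.spQuotToBase K G (AlgSt.trivGAction G)) ≅
    BasedFunctor.id (AlgSt.ofSp B) :=
  BasedNatIso.mkNatIso
    (NatIso.ofComponents (fun s => eyApp K G s)
      (fun {s s'} f => Stk.EltObj.hom_ext (by
        change f.hom ≫ 𝟙 _ = 𝟙 _ ≫ f.hom
        rw [Category.comp_id, Category.id_comp])))
    (fun s => IsHomLift.map (AlgSt.ofSp B).p (eyApp K G s).hom)

end

section Pt

variable {K : Precoverage Scheme.{u}} [K.HasIsos] {G : Over B} [GrpObj G]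

/-- the unit section -/
noncomputable abbrev un (T : Over B) : T ⟶ G ⊗ T := lift 1 (𝟙 T)

/-- right multiplication by a point -/
noncomputable abbrev mulR {T : Over B} (g : T ⟶ G) : G ⊗ T ⟶ G ⊗ T := lift (fst G T * (snd G T ≫ g)) (snd G T)

theorem un_mulR {T : Over B} (g : T ⟶ G) : un T ≫ mulR g ≫ fst G T = g := by
  rw [lift_fst, comp_mul, lift_fst, lift_snd_assoc, Category.id_comp, _root_.one_mul]

theorem mulR_comp {T : Over B} (g g' : T ⟶ G) : mulR g ≫ mulR g' = mulR (g * g') := by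
  apply CartesianMonoidalCategory.hom_ext
  · rw [Category.assoc, lift_fst, lift_fst, comp_mul, lift_fst, lift_snd_assoc, comp_mul, _root_.mul_assoc]
  · rw [Category.assoc, lift_snd, lift_snd, lift_snd]

theorem mulR_one (T : Over B) : mulR (1 : T ⟶ G) = 𝟙 _ := by
  apply CartesianMonoidalCategory.hom_ext
  · rw [lift_fst, comp_one, _root_.mul_one, Category.id_comp]
  · rw [lift_snd, Category.id_comp]

theorem isIso_mulR {T : Over B} (g : T ⟶ G) : IsIso (mulR g) :=
  ⟨mulR g⁻¹, by rw [mulR_comp, mul_inv_cancel, mulR_one], by rw [mulR_comp, inv_mul_cancel, mulR_one]⟩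

theorem mulR_eqv {T : Over B} (g : T ⟶ G) :
    (AlgSt.spLeftMul G T).act ≫ mulR g = (G ◁ mulR g) ≫ (AlgSt.spLeftMul G T).act := by
  apply CartesianMonoidalCategory.hom_ext
  · simp only [AlgSt.spLeftMul, Category.assoc, lift_fst, lift_snd, lift_fst_assoc, lift_snd_assoc, comp_lift, comp_mul,
      whiskerLeft_fst, whiskerLeft_snd, whiskerLeft_fst_assoc, whiskerLeft_snd_assoc, _root_.mul_assoc]
  · simp only [AlgSt.spLeftMul, Category.assoc, lift_fst, lift_snd, lift_fst_assoc, lift_snd_assoc, comp_lift, comp_mul,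
      whiskerLeft_fst, whiskerLeft_snd, whiskerLeft_fst_assoc, whiskerLeft_snd_assoc]

theorem act_fst (T : Over B) : (AlgSt.spLeftMul G T).act ≫ fst G T = fst G (G ⊗ T) * (snd G (G ⊗ T) ≫ fst G T) :=
  lift_fst _ _

theorem act_snd (T : Over B) : (AlgSt.spLeftMul G T).act ≫ snd G T = snd G (G ⊗ T) ≫ snd G T :=
  lift_snd _ _

/-- an equivariant endomorphism over `T` is a right multiplication -/
theorem eq_mulR {T : Over B} (m : G ⊗ T ⟶ G ⊗ T)
    (h : (AlgSt.spLeftMul G T).act ≫ m = (G ◁ m) ≫ (AlgSt.spLeftMul G T).act) (hs : m ≫ snd G T = snd G T) :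
    m = mulR (un T ≫ m ≫ fst G T) := by
  let w : G ⊗ T ⟶ G ⊗ (G ⊗ T) := lift (fst G T) (snd G T ≫ un T)
  have hw1 : w ≫ fst _ _ = fst G T := lift_fst _ _
  have hw2 : w ≫ snd _ _ = snd G T ≫ un T := lift_snd _ _
  have hw : w ≫ (AlgSt.spLeftMul G T).act = 𝟙 _ := by
    apply CartesianMonoidalCategory.hom_ext
    · rw [Category.assoc, act_fst, comp_mul, hw1, ← Category.assoc, hw2, Category.assoc, lift_fst, comp_one,
        _root_.mul_one, Category.id_comp]
    · rw [Category.assoc, act_snd, ← Category.assoc, hw2, Category.assoc, lift_snd, Category.comp_id, Category.id_comp]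
  have key : w ≫ (G ◁ m) ≫ (AlgSt.spLeftMul G T).act = mulR (un T ≫ m ≫ fst G T) := by
    apply CartesianMonoidalCategory.hom_ext
    · rw [lift_fst, Category.assoc, Category.assoc, act_fst, comp_mul, comp_mul, whiskerLeft_fst, hw1,
        whiskerLeft_snd_assoc, ← Category.assoc w, hw2, Category.assoc]
    · rw [lift_snd, Category.assoc, Category.assoc, act_snd, whiskerLeft_snd_assoc, ← Category.assoc w, hw2,
        Category.assoc, hs, lift_snd, Category.comp_id]
  rw [← key, ← h, ← Category.assoc, hw, Category.id_comp]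

theorem cart_mulR {s : (AlgSt.ofSp B).obj} (g : hh s ⟶ G) (w : (yon S).map (𝟙 s.base) ≫ sy s = sy s) :
    IsPullback (mulR g) (snd G (hh s)) (snd G (hh s)) (AlgSt.bHom (𝟙 s.base) w) := by
  have := isIso_mulR g
  rw [AlgSt.bHom_id]
  refine IsPullback.of_horiz_isIso ⟨?_⟩
  rw [Category.comp_id]
  exact lift_snd _ _

/-- the endomorphism of the trivial torsor of a point -/
noncomputable def homOf {s : (AlgSt.ofSp B).obj} (g : hh s ⟶ G) : yob K G s ⟶ yob K G s where
  base := 𝟙 _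
  wb := by
    rw [(yon S).map_id, Category.id_comp]
  top := mulR g
  eqv := mulR_eqv g
  cart := cart_mulR g _
  wφ := toUnit_unique _ _

/-- the point of an endomorphism -/
noncomputable def pt {s : (AlgSt.ofSp B).obj} (φ : yob K G s ⟶ yob K G s) : hh s ⟶ G := un (hh s) ≫ φ.top ≫ fst G (hh s)

theorem pt_homOf {s : (AlgSt.ofSp B).obj} (g : hh s ⟶ G) : pt (homOf (K := K) g) = g := un_mulR g

theorem top_eq {s : (AlgSt.ofSp B).obj} (φ : yob K G s ⟶ yob K G s) (h : φ.base = 𝟙 _) : φ.top = mulR (pt φ) := by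
  refine eq_mulR φ.top φ.eqv ?_
  have h1 := φ.cart.w
  have h2 : AlgSt.bHom φ.base φ.wb = 𝟙 _ := by
    ext : 1
    change (yon S).map φ.base = _
    rw [h, (yon S).map_id]
    rfl
  rw [h2, Category.comp_id] at h1
  exact h1

theorem homOf_pt {s : (AlgSt.ofSp B).obj} (φ : yob K G s ⟶ yob K G s) (h : φ.base = 𝟙 _) : homOf (pt φ) = φ :=
  AlgSt.SpQuotObj.hom_ext h.symm (top_eq φ h).symm

theorem pt_comp {s : (AlgSt.ofSp B).obj} (φ φ' : yob K G s ⟶ yob K G s) (h : φ.base = 𝟙 _) (h' : φ'.base = 𝟙 _) :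
    pt (φ ≫ φ') = pt φ * pt φ' := by
  have h1 : (φ ≫ φ').top = mulR (pt φ * pt φ') := by
    rw [AlgSt.SpQuotObj.comp_top, top_eq φ h, top_eq φ' h', mulR_comp]
  unfold pt
  rw [h1]
  exact un_mulR _

theorem lift_homOf {s : (AlgSt.ofSp B).obj} (g : hh s ⟶ G) :
    (AlgSt.SpBG K G).p.IsHomLift (𝟙 ((AlgSt.SpBG K G).p.obj (yob K G s))) (homOf g) :=
  IsHomLift.map (AlgSt.SpBG K G).p (homOf g)

theorem base_of_lift {s : (AlgSt.ofSp B).obj} {φ : yob K G s ⟶ yob K G s}
    (h : (AlgSt.SpBG K G).p.IsHomLift (𝟙 ((AlgSt.SpBG K G).p.obj (yob K G s))) φ) : φ.base = 𝟙 _ := by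
  have h2 := IsHomLift.fac' (AlgSt.SpBG K G).p (𝟙 ((AlgSt.SpBG K G).p.obj (yob K G s))) φ
  change φ.base = _ at h2
  rw [h2, Category.id_comp, eqToHom_trans]
  rfl

/-- Automorphisms of the trivial torsor. -/
noncomputable def autEq [K.IsStableUnderBaseChange] (s : (AlgSt.ofSp B).obj) :
    Gerb.AutO ((yy K G).obj s) ≃* (hh s ⟶ G) where
  toFun α := (pt α.hom.1)⁻¹
  invFun g := Global.mkAut K744.SpQ.isFibGrpd (homOf g⁻¹) (lift_homOf g⁻¹)
  left_inv α := by
    apply Global.autO_ext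
    rw [Global.mkAut_hom_val]
    change homOf (pt α.hom.1)⁻¹⁻¹ = _
    rw [_root_.inv_inv, homOf_pt _ (base_of_lift (Global.autO_lift α))]
  right_inv g := by
    change (pt (homOf g⁻¹))⁻¹ = g
    rw [pt_homOf, _root_.inv_inv]
  map_mul' α β := by
    rw [Global.autO_mul, pt_comp _ _ (base_of_lift (Global.autO_lift β)) (base_of_lift (Global.autO_lift α)),
      _root_.mul_inv_rev]

theorem autEq_apply [K.IsStableUnderBaseChange] (s : (AlgSt.ofSp B).obj) (α : Gerb.AutO ((yy K G).obj s)) :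
    autEq s α = (pt α.hom.1)⁻¹ := rfl

/-- naturality -/
theorem autEq_nat [K.IsStableUnderBaseChange] {s' s : (AlgSt.ofSp B).obj} (σ : s' ⟶ s)
    (α' : Gerb.AutO ((yy K G).obj s')) (α : Gerb.AutO ((yy K G).obj s))
    (h : α'.hom.1 ≫ (yy K G).map σ = (yy K G).map σ ≫ α.hom.1) : autEq s' α' = hmap σ ≫ autEq s α := by
  rw [autEq_apply, autEq_apply, comp_inv]
  congr 1
  have h1 : α'.hom.1.top ≫ (G ◁ hmap σ) = (G ◁ hmap σ) ≫ α.hom.1.top := congrArg (fun k => k.top) h
  have h2 : un (hh s') ≫ (G ◁ hmap σ) = hmap σ ≫ un (hh s) := by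
    apply CartesianMonoidalCategory.hom_ext
    · rw [Category.assoc, whiskerLeft_fst, lift_fst, Category.assoc, lift_fst, comp_one]
    · rw [Category.assoc, whiskerLeft_snd, lift_snd_assoc, Category.id_comp, Category.assoc, lift_snd, Category.comp_id]
  unfold pt
  have h3 : un (hh s') ≫ (α'.hom.1.top ≫ (G ◁ hmap σ)) ≫ fst G (hh s) =
      un (hh s') ≫ ((G ◁ hmap σ) ≫ α.hom.1.top) ≫ fst G (hh s) := by rw [h1]
  rw [Category.assoc, whiskerLeft_fst, Category.assoc, ← Category.assoc (un (hh s')) (G ◁ hmap σ), h2] at h3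
  rw [h3, Category.assoc]

end Pt

section Sec

variable {K : Precoverage Scheme.{u}} [K.HasIsos] {G : Over B} [GrpObj G]

theorem sec_eqv {T P : Over B} (a : AlgSp.GAction G P) (σ : T ⟶ P) :
    (AlgSt.spLeftMul G T).act ≫ (G ◁ σ) ≫ a.act = (G ◁ ((G ◁ σ) ≫ a.act)) ≫ a.act := by
  have hμ : fst (G ⊗ G) P ≫ μ[G] = (fst _ _ ≫ fst G G) * (fst _ _ ≫ snd G G) := by
    rw [Hom.mul_def, ← comp_lift, lift_fst_snd, Category.comp_id]
  have h : (AlgSt.spLeftMul G T).act ≫ (G ◁ σ) = (G ◁ (G ◁ σ)) ≫ (α_ G G P).inv ≫ (μ[G] ▷ P) := by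
    apply CartesianMonoidalCategory.hom_ext
    · simp only [AlgSt.spLeftMul, Category.assoc, lift_fst, lift_snd, lift_fst_assoc, lift_snd_assoc, comp_lift, comp_mul, whiskerLeft_fst, whiskerLeft_snd, whiskerLeft_fst_assoc, whiskerLeft_snd_assoc, whiskerRight_fst, whiskerRight_snd, whiskerRight_fst_assoc, whiskerRight_snd_assoc, associator_inv_fst_fst, associator_inv_fst_snd, associator_inv_snd, associator_inv_fst_fst_assoc, associator_inv_fst_snd_assoc, associator_inv_snd_assoc, hμ]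
    · simp only [AlgSt.spLeftMul, Category.assoc, lift_fst, lift_snd, lift_fst_assoc, lift_snd_assoc, comp_lift, comp_mul, whiskerLeft_fst, whiskerLeft_snd, whiskerLeft_fst_assoc, whiskerLeft_snd_assoc, whiskerRight_fst, whiskerRight_snd, whiskerRight_fst_assoc, whiskerRight_snd_assoc, associator_inv_fst_fst, associator_inv_fst_snd, associator_inv_snd, associator_inv_fst_fst_assoc, associator_inv_fst_snd_assoc, associator_inv_snd_assoc]
  have hm : (G ◁ a.act) ≫ a.act = (α_ G G P).inv ≫ (μ[G] ▷ P) ≫ a.act := by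
    rw [a.mul_act, Iso.inv_hom_id_assoc]
  rw [MonoidalCategory.whiskerLeft_comp, Category.assoc, hm, reassoc_of% h]

/-- the morphism from a trivial torsor given by a section -/
noncomputable def ofSec (A : (AlgSt.SpBG K G).obj) {s : (AlgSt.ofSp B).obj} (f : s.base ⟶ A.base)
    (w : (yon S).map f ≫ A.b = sy s) (σ : hh s ⟶ A.P) (hσ : σ ≫ A.π = AlgSt.bHom f w) : yob K G s ⟶ A where
  base := f
  wb := w
  top := (G ◁ σ) ≫ A.act.act
  eqv := sec_eqv A.act σ
  cart := by
    have h := (AlgSt.isPullback_whiskerLeft' (G := G) σ).paste_horiz A.cart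
    rw [hσ] at h
    exact h
  wφ := toUnit_unique _ _

/-- the sieve on which a torsor has sections -/
theorem exists_sieve {G : Over B} [GrpObj G] (A : (AlgSt.SpBG Scheme.fppfPrecoverage G).obj) :
    ∃ R ∈ J S A.base, ∀ (s : (AlgSt.ofSp B).obj) (f : s.base ⟶ A.base), R f → (yon S).map f ≫ A.b = sy s →
      ∃ φ : yob Scheme.fppfPrecoverage G s ⟶ A, φ.base = f := by
  obtain ⟨R, hR, H⟩ := K744.SecLoc.hasSecLoc_iff.{u} A.π.left |>.1 A.loc
  refine ⟨R, hR, fun s f hf w => ?_⟩
  obtain ⟨σ, hσ⟩ := H s.base f hf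
  have h1 : σ ≫ A.P.hom = sy s := by
    have h2 : A.π.left ≫ A.b = A.P.hom := Over.w A.π
    rw [← w, ← h2, ← hσ, Category.assoc]
  exact ⟨ofSec A f w (Over.homMk σ h1) (Over.OverMorphism.ext hσ), rfl⟩

theorem sy_base {K : Precoverage Scheme.{u}} (A : (AlgSt.SpBG K G).obj) :
    sy ((W4stkstmgerbes.spQuotToBase K G (AlgSt.trivGAction G)).obj A) = A.b :=
  ((J S).uliftYonedaEquiv).symm_apply_apply A.b

theorem locSurjHom (G : Over B) [GrpObj G] :
    Gerb.LocSurjHom (J S) (W4stkstmgerbes.spQuotToBase Scheme.fppfPrecoverage G (AlgSt.trivGAction G)) := by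
  intro A A' m hm
  obtain ⟨R, hR, H⟩ := exists_sieve A
  obtain ⟨R', hR', H'⟩ := exists_sieve A'
  have hm' : (AlgSt.ofSp B).p.IsHomLift (𝟙 A.base) m := hm
  have hb : A'.base = A.base := IsHomLift.codomain_eq (AlgSt.ofSp B).p (𝟙 A.base) m
  have hmb : m.hom = eqToHom hb.symm := by
    have h2 := IsHomLift.fac' (AlgSt.ofSp B).p (𝟙 A.base) m
    change m.hom = _ at h2
    rw [h2, Category.id_comp, eqToHom_trans]
  refine ⟨R ⊓ R'.pullback m.hom, (J S).intersection_covering hR ((J S).pullback_stable _ hR'), fun V f hf => ?_⟩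
  let s : (AlgSt.ofSp B).obj := ⟨V, (J S).uliftYonedaEquiv ((yon S).map f ≫ A.b)⟩
  have hs : (yon S).map f ≫ A.b = sy s := (((J S).uliftYonedaEquiv).symm_apply_apply _).symm
  have hs' : (yon S).map (f ≫ m.hom) ≫ A'.b = sy s := by
    have h3 := sy_comp m
    rw [sy_base, sy_base] at h3
    rw [(yon S).map_comp, Category.assoc, h3, hs]
  obtain ⟨φ, hφ⟩ := H s f hf.1 hs
  obtain ⟨ψ, hψ⟩ := H' s (f ≫ m.hom) hf.2 hs'
  refine ⟨yob Scheme.fppfPrecoverage G s, φ, ψ, IsHomLift.of_fac' _ _ _ rfl rfl ?_, IsHomLift.of_fac' _ _ _ rfl hb ?_,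
    Stk.EltObj.hom_ext ?_⟩
  · change φ.base = _
    rw [hφ]
    simp
  · change ψ.base = _
    rw [hψ, hmb]
    simp
  · change φ.base ≫ m.hom = ψ.base
    rw [hφ, hψ]

end Sec

end K895.SpTriv
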