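import Mathlib.Topology.Homeomorph.Lemmas

/-!
# Open and dense subsets of the range of an embedding (helper895)
-/

set_option autoImplicit false

universe w v

namespace K895.TopEmb

variable {X : Type v} {Y : Type w} [TopologicalSpace X] [TopologicalSpace Y] {φ : Y → X}

theorem preimage_image_eq (hφ : Topology.IsEmbedding φ) (O : Set Y) :
    (Subtype.val : Set.range φ → X) ⁻¹' (φ '' O) = hφ.toHomeomorph '' O := by
  ext ⟨x, y, rfl⟩
  constructor
  · rintro ⟨o, ho, h⟩
    exact ⟨o, ho, Subtype.ext h⟩
  · rintro ⟨o, ho, h⟩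
    exact ⟨o, ho, congrArg Subtype.val h⟩

theorem isOpen_preimage (hφ : Topology.IsEmbedding φ) {O : Set Y} (hO : IsOpen O) :
    IsOpen ((Subtype.val : Set.range φ → X) ⁻¹' (φ '' O)) := by
  rw [preimage_image_eq hφ]
  exact hφ.toHomeomorph.isOpenMap _ hO

theorem dense_preimage (hφ : Topology.IsEmbedding φ) {O : Set Y} (hO : Dense O) :
    Dense ((Subtype.val : Set.range φ → X) ⁻¹' (φ '' O)) := by
  rw [preimage_image_eq hφ]
  exact hφ.toHomeomorph.surjective.denseRange.dense_image hφ.toHomeomorph.continuous hO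

end K895.TopEmb
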