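import Mathlib.Topology.Basic
import Mathlib.Topology.Constructions
import Mathlib.SetTheory.Cardinal.Order

/-!
# A stratification indexed by a well-ordered set from a choice of strata in closed sets (helper895)
-/

set_option autoImplicit false

universe w v

namespace K895.WellOrd

variable {X : Type v} [TopologicalSpace X] {α : Type w}

/-- an index type too large to embed in `X` -/
structure Idx (X : Type v) : Type v where
  /-- the underlying set -/
  set : Set X

theorem not_injective_idx {X : Type v} (f : Idx X → X) : ¬ Function.Injective f := fun hf =>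
  Function.cantor_injective (fun s => f ⟨s⟩) (fun _ _ h => congrArg Idx.set (hf h))

theorem exists_stratification_aux {I : Type v} [LinearOrder I] [wf : WellFoundedLT I]
    (hI : ∀ f : I → X, ¬ Function.Injective f) (R : α → Set X) (E : Set X → α → Prop)
    (h : ∀ T : Set X, IsClosed T → ∃ q, E T q ∧ R q ⊆ T ∧ IsOpen ((Subtype.val : T → X) ⁻¹' R q) ∧
      (T.Nonempty → (R q).Nonempty)) :
    ∃ (Q : I → α) (T : I → Set X),
      (∀ i, T i = {p | ∀ i', i' < i → p ∉ R (Q i')}) ∧ (∀ i, E (T i) (Q i)) ∧ (∀ p, ∃ i, p ∈ R (Q i)) ∧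
      (∀ i, IsClosed (T i)) ∧ (∀ i, R (Q i) ⊆ T i ∧ IsOpen ((Subtype.val : T i → X) ⁻¹' R (Q i))) := by
  classical
  obtain ⟨q₀, -⟩ := h ∅ isClosed_empty
  let G : Set X → α := fun T => if hT : IsClosed T then (h T hT).choose else q₀
  have hG : ∀ T : Set X, IsClosed T → E T (G T) ∧ R (G T) ⊆ T ∧ IsOpen ((Subtype.val : T → X) ⁻¹' R (G T)) ∧
      (T.Nonempty → (R (G T)).Nonempty) := by
    intro T hT
    have : G T = (h T hT).choose := dif_pos hT
    rw [this]
    exact (h T hT).choose_spec
  let Q : I → α := wf.wf.fix (fun i rec => G {p | ∀ (i' : I) (hi : i' < i), p ∉ R (rec i' hi)})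
  let T : I → Set X := fun i => {p | ∀ i', i' < i → p ∉ R (Q i')}
  have hQ : ∀ i, Q i = G (T i) := fun i => wf.wf.fix_eq _ i
  have hclosed : ∀ i, IsClosed (T i) := by
    intro i
    induction i using wf.wf.induction with
    | _ i ih =>
      have e : T i = ⋂ (j : I) (_ : j < i), (T j \ R (Q j)) := by
        ext p
        simp only [Set.mem_iInter, Set.mem_sdiff]
        constructor
        · intro hp j hj
          exact ⟨fun k hk => hp k (lt_trans hk hj), hp j hj⟩
        · intro hp j hj
          exact (hp j hj).2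
      rw [e]
      refine isClosed_iInter fun j => isClosed_iInter fun hj => ?_
      have hTj := ih j hj
      obtain ⟨-, h2, h3, -⟩ := hG (T j) hTj
      rw [← hQ] at h2 h3
      obtain ⟨O, hO, hO'⟩ := h3
      have : T j \ R (Q j) = T j ∩ Oᶜ := by
        ext p
        simp only [Set.mem_sdiff, Set.mem_inter_iff, Set.mem_compl_iff]
        refine and_congr_right fun hp => not_congr ?_
        exact (Set.ext_iff.1 hO' ⟨p, hp⟩).symm
      rw [this]
      exact hTj.inter hO.isClosed_compl
  refine ⟨Q, T, fun i => rfl, fun i => ?_, ?_, hclosed, fun i => ?_⟩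
  · rw [hQ]
    exact (hG _ (hclosed i)).1
  · by_contra hcon
    push Not at hcon
    obtain ⟨p, hp⟩ := hcon
    have hne : ∀ i, (R (Q i)).Nonempty := fun i => by
      rw [hQ]
      exact (hG _ (hclosed i)).2.2.2 ⟨p, fun j _ => hp j⟩
    choose f hf using hne
    refine hI f (fun i j hij => ?_)
    by_contra hne
    rcases lt_or_gt_of_ne hne with hlt | hlt
    · have h1 : f j ∈ T j := by
        have := (hG _ (hclosed j)).2.1
        rw [← hQ] at this
        exact this (hf j)
      exact h1 i hlt (hij ▸ hf i)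
    · have h1 : f i ∈ T i := by
        have := (hG _ (hclosed i)).2.1
        rw [← hQ] at this
        exact this (hf i)
      exact h1 j hlt (hij ▸ hf j)
  · have := hG _ (hclosed i)
    rw [← hQ] at this
    exact ⟨this.2.1, this.2.2.1⟩

theorem exists_stratification (R : α → Set X) (E : Set X → α → Prop)
    (h : ∀ T : Set X, IsClosed T → ∃ q, E T q ∧ R q ⊆ T ∧ IsOpen ((Subtype.val : T → X) ⁻¹' R q) ∧
      (T.Nonempty → (R q).Nonempty)) :
    ∃ (I : Type v) (_ : LinearOrder I) (_ : WellFoundedLT I) (Q : I → α) (T : I → Set X),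
      (∀ i, T i = {p | ∀ i', i' < i → p ∉ R (Q i')}) ∧ (∀ i, E (T i) (Q i)) ∧ (∀ p, ∃ i, p ∈ R (Q i)) ∧
      (∀ i, IsClosed (T i)) ∧ (∀ i, R (Q i) ⊆ T i ∧ IsOpen ((Subtype.val : T i → X) ⁻¹' R (Q i))) := by
  obtain ⟨lo, wf⟩ := exists_wellFoundedLT (Idx X)
  exact ⟨Idx X, lo, wf, exists_stratification_aux not_injective_idx R E h⟩

end K895.WellOrd
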