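import Groth.Agent.Gerb.K895.SubSub
import Groth.Agent.Gerb.K895.TopEmb
import Groth.Agent.Gerb.K895.WellOrd
import Groth.Agent.Gerb.K895.GenInert
import Groth.Agent.AlgSt.K743.Locus

/-!
# Strata with flat inertia (helper895)
-/

set_option autoImplicit false
set_option backward.isDefEq.respectTransparency false
set_option backward.isDefEq.respectTransparency.types false

universe v₃ u₃ v₂ u₂ w v u

open CategoryTheory CategoryTheory.Limits AlgebraicGeometry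
open Opposite AlgSp K737.Open

namespace K895.Strat

variable {S : Scheme.{u}} {𝒳 : AlgSt.Cat S}

theorem smooth_comp_open {Q : 𝒳.obj → Prop} (hQ : AlgSt.IsOpenSubstack 𝒳 Q Scheme.fppfPrecoverage) {U : Over S}
    (x : FibCat.overCat U ⥤ᵇ AlgSt.fullSub 𝒳 Q) (hx : AlgSt.RepByAlgSpWith (LocP @Smooth) x) :
    AlgSt.RepByAlgSpWith (LocP @Smooth) (BasedFunctor.comp x (AlgSt.subIncl 𝒳 Q)) :=
  K743.Locus.locP_comp_openImm K597.etLoc_smooth (fun _ _ f _ => inferInstance) x _ hx hQ.2.2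

theorem reduced_of_open
    (hred : AlgSt.SmoothLocally (fun T => IsReduced T) 𝒳) {Q : 𝒳.obj → Prop}
    (hQ : AlgSt.IsOpenSubstack 𝒳 Q Scheme.fppfPrecoverage) :
    AlgSt.SmoothLocally (fun T => IsReduced T) (AlgSt.fullSub 𝒳 Q) := fun U x hx =>
  hred U (BasedFunctor.comp x (AlgSt.subIncl 𝒳 Q)) (smooth_comp_open hQ x hx)

/-- quasi-compactness of the inertia of a full substack which is algebraic -/
theorem qc_inertia_sub (h𝒳 : AlgSt.IsAlgStack Scheme.fppfPrecoverage 𝒳)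
    (hI : AlgSt.IsQuasiCompactMor Scheme.fppfPrecoverage (FibCat.inertiaToBase (FibCat.toSelf 𝒳))) {Z : 𝒳.obj → Prop}
    (hZ : AlgSt.IsAlgStack Scheme.fppfPrecoverage (AlgSt.fullSub 𝒳 Z)) :
    AlgSt.IsQuasiCompactMor Scheme.fppfPrecoverage (FibCat.inertiaToBase (FibCat.toSelf (AlgSt.fullSub 𝒳 Z))) := by
  have h1 := (K895.SubInert.isCart Z).repByAlgSpWith (K895.GenInert.qc_inertia h𝒳 hI)
  exact (Groth.Agent.S12981.result S _ _ (K895.GenInert.isAlgStack_inertia hZ) hZ _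
    (K735.Rep.repByAlgSp1_of_with h1)).1 h1

theorem isLocClosed (h𝒳 : AlgSt.IsAlgStack Scheme.fppfPrecoverage 𝒳) {Z : 𝒳.obj → Prop}
    (hZ : AlgSt.IsClosedSubstack 𝒳 Z Scheme.fppfPrecoverage) {Q : (AlgSt.fullSub 𝒳 Z).obj → Prop}
    (hQ : AlgSt.IsOpenSubstack (AlgSt.fullSub 𝒳 Z) Q Scheme.fppfPrecoverage) :
    AlgSt.IsLocClosedSubstack 𝒳 (K895.SubSub.pred Z Q) Scheme.fppfPrecoverage := by
  have hZ' := (K737.SubSt.isClosedSubstack_iff h𝒳 Z).1 hZ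
  have hQ' := (K737.OpenSt.isOpenSubstack_iff hZ.2.1 Q).1 hQ
  refine (K737.SubSt.isLocClosedSubstack_iff h𝒳 _).2 ⟨K895.SubSub.isClosedUnderIso Z Q hZ'.1 hQ'.1,
    K895.SubSub.hasLoci Z Q hZ'.2 hQ'.2 K737.Open.closedImm_le_mono ?_⟩
  intro A B C f g hf hg
  have : IsOpenImmersion f := hf
  have : IsClosedImmersion g := hg
  have : IsImmersion f := inferInstance
  have : IsImmersion g := inferInstance
  exact (inferInstance : IsImmersion (f ≫ g))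

/-- a quasi-compact open substack, nonempty if the given open substack is -/
theorem exists_qc_open (h𝒳 : AlgSt.IsAlgStack Scheme.fppfPrecoverage 𝒳) {Q : 𝒳.obj → Prop}
    (hQ : AlgSt.IsOpenSubstack 𝒳 Q Scheme.fppfPrecoverage) :
    ∃ Q' : 𝒳.obj → Prop, AlgSt.IsOpenSubstack 𝒳 Q' Scheme.fppfPrecoverage ∧ (∀ x, Q' x → Q x) ∧
      AlgSt.IsQuasiCompact (AlgSt.fullSub 𝒳 Q') ∧
      ((Set.range (AlgSt.Points.map (AlgSt.subIncl 𝒳 Q))).Nonempty →
        (Set.range (AlgSt.Points.map (AlgSt.subIncl 𝒳 Q'))).Nonempty) := by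
  obtain ⟨V, v, hv, hs⟩ := hQ.2.1.atlas
  have hvs : Function.Surjective (AlgSt.Points.ofChart v) := K742.EvQ.points_of_surj hQ.2.1.1.1 hs
  obtain ⟨A, hA, hne⟩ : ∃ A : V.left.Opens, IsAffineOpen A ∧ (Nonempty V.left → (A : Set V.left).Nonempty) := by
    by_cases h : Nonempty V.left
    · obtain ⟨t⟩ := h
      obtain ⟨_, ⟨A, hA, rfl⟩, htA, -⟩ :=
        V.left.isBasis_affineOpens.exists_subset_of_mem_open (Set.mem_univ t) isOpen_univ
      exact ⟨A, hA, fun _ => ⟨t, htA⟩⟩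
    · exact ⟨⊥, isAffineOpen_bot _, fun h' => (h h').elim⟩
  let c' : FibCat.overCat (opensOver V A) ⥤ᵇ AlgSt.fullSub 𝒳 Q := BasedFunctor.comp (AlgSt.overMap (opensι V A)) v
  let c : FibCat.overCat (opensOver V A) ⥤ᵇ 𝒳 := BasedFunctor.comp c' (AlgSt.subIncl 𝒳 Q)
  have hc' : AlgSt.RepByAlgSpWith (LocP @Smooth) c' := by
    have h1 : Smooth (opensι V A).left := inferInstanceAs (Smooth A.ι)
    exact K743.Comp.locP_overMap_comp K597.etLoc_smooth _ h1 _ hv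
  have hc : AlgSt.RepByAlgSpWith (LocP @Smooth) c := smooth_comp_open hQ c' hc'
  let O : Set (AlgSt.Points 𝒳) := Set.range (AlgSt.Points.ofChart c)
  have hO : IsOpen O := (K736.QC.isOpenMap_ofChart h𝒳 hc).isOpen_range
  have ho := K737.OpenSt.isOpenSubstack_predOf h𝒳 hO
  have hcO : ∀ a, predOf O (c.obj a) := fun a => (predOf_obj_iff h𝒳.1.1 _ _ a).2 (by
    rintro _ ⟨t, rfl⟩
    exact ⟨_, rfl⟩)
  refine ⟨predOf O, ho.1, fun x hx => ?_, ⟨opensOver V A, K737.Image.lift c hcO, hA,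
    K737.Image.repByAlgSpWith_lift c hcO _ hc, ?_⟩, ?_⟩
  · refine (K737.OpenSt.iff_predOf h𝒳 hQ x).2 (predOf_mono ?_ hx)
    rintro _ ⟨t, rfl⟩
    exact ⟨AlgSt.Points.ofChart c' t, rfl⟩
  · rw [← K735.Top.repByAlgSpWith_surjective_iff ho.1.2.1.1.1 (K735.Fp.isFibGrpd_overCat _)
        (K735.Rep.repByAlgSp1_of_with (K737.Image.repByAlgSpWith_lift c hcO _ hc)),
      K735.PtsSp.surjective_map_iff_surjective_ofChart]
    intro q
    have hq : AlgSt.Points.map (AlgSt.subIncl 𝒳 (predOf O)) q ∈ O := ho.2.le ⟨q, rfl⟩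
    obtain ⟨t, ht⟩ := hq
    refine ⟨t, ?_⟩
    apply K737.Image.injective_map_subIncl (Q := predOf O) h𝒳.1.1 (fun x z φ h => predOf_of_hom φ h)
    rw [← ht]
    rfl
  · rintro ⟨_, q, rfl⟩
    obtain ⟨t, -⟩ := hvs q
    obtain ⟨a, ha⟩ := hne ⟨t⟩
    rw [ho.2]
    exact ⟨AlgSt.Points.ofChart c (⟨a, ha⟩ : A), _, rfl⟩

/-- restriction to a smaller full substack -/
theorem repByAlgSpWith_fpFst_of_le {𝒴 : AlgSt.Cat S} (p : 𝒴 ⥤ᵇ 𝒳) {P : MorphismProperty (Sp S)} {Q Q' : 𝒳.obj → Prop}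
    (hle : ∀ x, Q' x → Q x) (h : AlgSt.RepByAlgSpWith P (FibCat.fpFst (AlgSt.subIncl 𝒳 Q) p)) :
    AlgSt.RepByAlgSpWith P (FibCat.fpFst (AlgSt.subIncl 𝒳 Q') p) := by
  let j : AlgSt.fullSub 𝒳 Q' ⥤ᵇ AlgSt.fullSub 𝒳 Q :=
    K737.Image.lift (AlgSt.subIncl 𝒳 Q') (fun a => hle _ a.property)
  have h1 := K734.Rep.repByAlgSpWith_fpFst P _ j h
  exact K735.Rep.repByAlgSpWith_of_sq P _ (FibCat.fpFst (BasedFunctor.comp j (AlgSt.subIncl 𝒳 Q)) p)
    (K734.Fib.fpPaste j (AlgSt.subIncl 𝒳 Q) p) (BasedFunctor.id _) (K734.Fib.isEquivOver_fpPaste _ _ _)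
    (K734.Fib.isEquivOver_refl _) (Iso.refl _) h1

end K895.Strat
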