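import Groth.Agent.Gerb.K895.Strat

/-!
# Stratification of a stack with quasi-compact inertia by gerbes (helper895)

The results take as hypothesis `GerbeCrit S` : an algebraic stack with flat and locally finitely presented inertia is a
gerbe.
-/

set_option autoImplicit false
set_option backward.isDefEq.respectTransparency false
set_option backward.isDefEq.respectTransparency.types false

universe v₃ u₃ v₂ u₂ w v u

open CategoryTheory CategoryTheory.Limits AlgebraicGeometry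
open Opposite AlgSp K737.Open

namespace K895.StratMain

variable {S : Scheme.{u}} {𝒳 : AlgSt.Cat S}

/-- the criterion: flat and lfp inertia implies gerbe -/
def GerbeCrit (S : Scheme.{u}) : Prop :=
  ∀ 𝒴 : AlgSt.Cat S, AlgSt.IsAlgStack Scheme.fppfPrecoverage 𝒴 →
    AlgSt.LocQ (LocP @Flat) (FibCat.inertiaToBase (FibCat.toSelf 𝒴)) →
    AlgSt.LocQ (LocP @LocallyOfFinitePresentation) (FibCat.inertiaToBase (FibCat.toSelf 𝒴)) →
    Gerb.IsAlgGerbe Scheme.fppfPrecoverage 𝒴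

theorem gerbe_of_fpFst (hG : GerbeCrit S) {Q : 𝒳.obj → Prop}
    (hQ : AlgSt.IsAlgStack Scheme.fppfPrecoverage (AlgSt.fullSub 𝒳 Q))
    (h1 : AlgSt.RepByAlgSpWith (LocP @Flat)
      (FibCat.fpFst (AlgSt.subIncl 𝒳 Q) (FibCat.inertiaToBase (FibCat.toSelf 𝒳))))
    (h2 : AlgSt.RepByAlgSpWith (LocP @LocallyOfFinitePresentation)
      (FibCat.fpFst (AlgSt.subIncl 𝒳 Q) (FibCat.inertiaToBase (FibCat.toSelf 𝒳)))) :
    Gerb.IsAlgGerbe Scheme.fppfPrecoverage (AlgSt.fullSub 𝒳 Q) :=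
  hG _ hQ (K894.LocQ.locQ_flat (K895.GenInert.isAlgStack_inertia hQ) hQ _ (K895.GenInert.repByAlgSpWith_sub Q h1))
    (K894.LocQ.locQ_lfp (K895.GenInert.isAlgStack_inertia hQ) hQ _ (K895.GenInert.repByAlgSpWith_sub Q h2))

/-- the dense gerbe stratum -/
theorem stratum (hG : GerbeCrit S) (h𝒳 : AlgSt.IsAlgStack Scheme.fppfPrecoverage 𝒳)
    (hI : AlgSt.IsQuasiCompactMor Scheme.fppfPrecoverage (FibCat.inertiaToBase (FibCat.toSelf 𝒳)))
    (T : Set (AlgSt.Points 𝒳)) (hT : IsClosed T) :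
    ∃ Q : 𝒳.obj → Prop, (AlgSt.IsLocClosedSubstack 𝒳 Q Scheme.fppfPrecoverage ∧
        AlgSt.SmoothLocally (fun X => IsReduced X) (AlgSt.fullSub 𝒳 Q) ∧
        Gerb.IsAlgGerbe Scheme.fppfPrecoverage (AlgSt.fullSub 𝒳 Q) ∧
        Dense ((Subtype.val : T → AlgSt.Points 𝒳) ⁻¹' Set.range (AlgSt.Points.map (AlgSt.subIncl 𝒳 Q)))) ∧
      Set.range (AlgSt.Points.map (AlgSt.subIncl 𝒳 Q)) ⊆ T ∧
      IsOpen ((Subtype.val : T → AlgSt.Points 𝒳) ⁻¹' Set.range (AlgSt.Points.map (AlgSt.subIncl 𝒳 Q))) ∧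
      (T.Nonempty → (Set.range (AlgSt.Points.map (AlgSt.subIncl 𝒳 Q))).Nonempty) := by
  obtain ⟨Z, hZ, rfl, hred⟩ := K737.SubDesc.exists_reduced_closed h𝒳 T hT
  have hemb := K895.SubTop.isClosedEmbedding_subIncl h𝒳 hZ
  have hIZ := K895.Strat.qc_inertia_sub h𝒳 hI hZ.2.1
  obtain ⟨Q, hQ, hd, h1, h2⟩ := K895.GenFlatSt.main hZ.2.1 hred _ (K895.GenInert.qc_inertia hZ.2.1 hIZ)
    (K895.GenInert.lft_inertia hZ.2.1)
  have ho : IsOpen (Set.range (AlgSt.Points.map (AlgSt.subIncl (AlgSt.fullSub 𝒳 Z) Q))) :=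
    K737.OpenSt.isOpen_range_of_isOpenSubstack hZ.2.1 hQ
  refine ⟨K895.SubSub.pred Z Q, ⟨K895.Strat.isLocClosed h𝒳 hZ hQ,
    K895.SubSub.smoothLocally Z Q _ (K895.Strat.reduced_of_open hred hQ),
    K895.SubSub.isAlgGerbe Z Q _ (gerbe_of_fpFst hG hQ.2.1 h1 h2), ?_⟩, ?_, ?_, ?_⟩
  · rw [K895.SubSub.range_pred]
    exact K895.TopEmb.dense_preimage hemb.isEmbedding hd
  · rw [K895.SubSub.range_pred]
    exact Set.image_subset_range _ _
  · rw [K895.SubSub.range_pred]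
    exact K895.TopEmb.isOpen_preimage hemb.isEmbedding ho
  · rintro ⟨_, p, rfl⟩
    rw [K895.SubSub.range_pred, Set.image_nonempty]
    have : Nonempty (AlgSt.Points (AlgSt.fullSub 𝒳 Z)) := ⟨p⟩
    exact hd.nonempty

/-- the quasi-compact gerbe stratum -/
theorem stratum_qc (hG : GerbeCrit S) (h𝒳 : AlgSt.IsAlgStack Scheme.fppfPrecoverage 𝒳)
    (hI : AlgSt.IsQuasiCompactMor Scheme.fppfPrecoverage (FibCat.inertiaToBase (FibCat.toSelf 𝒳)))
    (T : Set (AlgSt.Points 𝒳)) (hT : IsClosed T) :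
    ∃ Q : 𝒳.obj → Prop, (AlgSt.IsLocClosedSubstack 𝒳 Q Scheme.fppfPrecoverage ∧
        AlgSt.SmoothLocally (fun X => IsReduced X) (AlgSt.fullSub 𝒳 Q) ∧
        AlgSt.IsQuasiCompact (AlgSt.fullSub 𝒳 Q) ∧
        Gerb.IsAlgGerbe Scheme.fppfPrecoverage (AlgSt.fullSub 𝒳 Q)) ∧
      Set.range (AlgSt.Points.map (AlgSt.subIncl 𝒳 Q)) ⊆ T ∧
      IsOpen ((Subtype.val : T → AlgSt.Points 𝒳) ⁻¹' Set.range (AlgSt.Points.map (AlgSt.subIncl 𝒳 Q))) ∧
      (T.Nonempty → (Set.range (AlgSt.Points.map (AlgSt.subIncl 𝒳 Q))).Nonempty) := by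
  obtain ⟨Z, hZ, rfl, hred⟩ := K737.SubDesc.exists_reduced_closed h𝒳 T hT
  have hemb := K895.SubTop.isClosedEmbedding_subIncl h𝒳 hZ
  have hIZ := K895.Strat.qc_inertia_sub h𝒳 hI hZ.2.1
  obtain ⟨Q₀, hQ₀, hd, h1, h2⟩ := K895.GenFlatSt.main hZ.2.1 hred _ (K895.GenInert.qc_inertia hZ.2.1 hIZ)
    (K895.GenInert.lft_inertia hZ.2.1)
  obtain ⟨Q, hQ, hle, hqc, hne⟩ := K895.Strat.exists_qc_open hZ.2.1 hQ₀
  have ho : IsOpen (Set.range (AlgSt.Points.map (AlgSt.subIncl (AlgSt.fullSub 𝒳 Z) Q))) :=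
    K737.OpenSt.isOpen_range_of_isOpenSubstack hZ.2.1 hQ
  refine ⟨K895.SubSub.pred Z Q, ⟨K895.Strat.isLocClosed h𝒳 hZ hQ,
    K895.SubSub.smoothLocally Z Q _ (K895.Strat.reduced_of_open hred hQ), K895.SubSub.isQuasiCompact Z Q hqc,
    K895.SubSub.isAlgGerbe Z Q _ (gerbe_of_fpFst hG hQ.2.1 (K895.Strat.repByAlgSpWith_fpFst_of_le _ hle h1)
      (K895.Strat.repByAlgSpWith_fpFst_of_le _ hle h2))⟩, ?_, ?_, ?_⟩
  · rw [K895.SubSub.range_pred]
    exact Set.image_subset_range _ _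
  · rw [K895.SubSub.range_pred]
    exact K895.TopEmb.isOpen_preimage hemb.isEmbedding ho
  · rintro ⟨_, p, rfl⟩
    rw [K895.SubSub.range_pred, Set.image_nonempty]
    have : Nonempty (AlgSt.Points (AlgSt.fullSub 𝒳 Z)) := ⟨p⟩
    exact hne hd.nonempty

end K895.StratMain
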