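import Groth.Agent.Gerb.K895.LocEquiv
import Groth.Agent.Gerb.K895.Global

/-!
# Full faithfulness of a functor of prestacks can be tested on a covering sub (helper895)
-/

set_option autoImplicit false
set_option backward.isDefEq.respectTransparency false
set_option backward.isDefEq.respectTransparency.types false

universe v₃ u₃ v₂ u₂ v u

open CategoryTheory K895.Fib K895.Glue

namespace K895.SubFF

variable {C : Type u} [Category.{v} C] {J : GrothendieckTopology C}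
  {ℬ : BasedCategory.{v₂, u₂} C} {𝒳 : BasedCategory.{v₃, u₃} C}

/-- Objects of `ℬ` are locally in `P`. -/
def Covers (J : GrothendieckTopology C) (P : ℬ.obj → Prop) : Prop :=
  ∀ b : ℬ.obj, ∃ R ∈ J (ℬ.p.obj b), ∀ ⦃V : C⦄ (f : V ⟶ ℬ.p.obj b), R f →
    ∃ (a : ℬ.obj) (m : a ⟶ b), P a ∧ ℬ.p.IsHomLift f m

theorem Covers.at {P : ℬ.obj → Prop} (h : Covers J P) {U : C} (b : ℬ.obj) (hb : ℬ.p.obj b = U) :
    ∃ R ∈ J U, ∀ ⦃V : C⦄ (f : V ⟶ U), R f → ∃ (a : ℬ.obj) (m : a ⟶ b), P a ∧ ℬ.p.IsHomLift f m := by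
  subst hb
  exact h b

theorem faithful (hℬ : Stk.IsPrestack J ℬ) (h𝒳 : FibCat.IsFibGrpd 𝒳.p) (F : ℬ ⥤ᵇ 𝒳) {P : ℬ.obj → Prop}
    (hP : Covers J P) (hF : ∀ (a : ℬ.obj), P a → ∀ m m' : a ⟶ a, ℬ.p.IsHomLift (𝟙 (ℬ.p.obj a)) m →
      ℬ.p.IsHomLift (𝟙 (ℬ.p.obj a)) m' → F.map m = F.map m' → m = m') : F.toFunctor.Faithful := by
  have hfib := hℬ.1
  constructor
  intro x x' α β e
  have e' : F.map α = F.map β := e
  have hp : ℬ.p.map α = ℬ.p.map β := by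
    have h1 : ℬ.p.IsHomLift (ℬ.p.map α) β := by
      apply lift_of_map F
      rw [← e']
      exact lift_map F (IsHomLift.map ℬ.p α)
    exact IsHomLift.eq_of_isHomLift ℬ.p (ℬ.p.map α) β
  have hα : ℬ.p.IsHomLift (ℬ.p.map α) α := IsHomLift.map ℬ.p α
  have hβ : ℬ.p.IsHomLift (ℬ.p.map α) β := hp ▸ IsHomLift.map ℬ.p β
  obtain ⟨k, hk, ek⟩ := exists_fac hfib (𝟙 _) (ℬ.p.map α) α β hα (lift_eq hβ (Category.id_comp _).symm)
  have hFk : F.map k = 𝟙 (F.obj x) := by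
    refine hom_unique h𝒳 (𝟙 _) (ℬ.p.map α) (F.map α) (lift_map F hα) _ _ (lift_map F hk)
      (IsHomLift.id (F.w_obj x)) ?_
    rw [← F.toFunctor.map_comp, ek, Category.id_comp, e']
  obtain ⟨R, hR, hloc⟩ := hP x
  have hpre := hℬ.2 R hR
  have hk1 : k = 𝟙 x := by
    refine glue_unique hfib hpre k (𝟙 x) hk (IsHomLift.id rfl) fun V f hf => ?_
    obtain ⟨x₀, a, hPx, ha⟩ := hloc f hf
    refine ⟨x₀, a, ha, ?_⟩
    obtain ⟨k₀, hk₀, ek₀⟩ := exists_fac hfib (𝟙 V) f a (a ≫ k) ha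
      (lift_eq (lift_comp_id ha hk) (Category.id_comp _).symm)
    have hx₀ : ℬ.p.obj x₀ = V := obj_eq_of_lift_left ha
    subst hx₀
    have hFk₀ : F.map k₀ = 𝟙 _ := by
      refine hom_unique h𝒳 (𝟙 _) f (F.map a) (lift_map F ha) _ _ (lift_map F hk₀)
        (IsHomLift.id (F.w_obj x₀)) ?_
      rw [← F.toFunctor.map_comp, ek₀, F.toFunctor.map_comp, hFk, Category.comp_id, Category.id_comp]
    have hk₀' : k₀ = 𝟙 x₀ := hF x₀ hPx k₀ (𝟙 x₀) hk₀ (IsHomLift.id rfl)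
      (hFk₀.trans (F.toFunctor.map_id x₀).symm)
    rw [← ek₀, hk₀', Category.id_comp, Category.comp_id]
  rw [← ek, hk1, Category.id_comp]

theorem full (hℬ : Stk.IsPrestack J ℬ) (h𝒳 : Stk.IsPrestack J 𝒳) (F : ℬ ⥤ᵇ 𝒳) {P : ℬ.obj → Prop}
    (hP : Covers J P) [F.toFunctor.Faithful]
    (hF : ∀ (a a' : ℬ.obj), P a → P a' → ∀ k : F.obj a ⟶ F.obj a', 𝒳.p.IsHomLift (𝟙 (ℬ.p.obj a)) k →
      ∃ m : a ⟶ a', F.map m = k) : F.toFunctor.Full := by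
  have hfib := hℬ.1
  have key : ∀ {U : C} (x x' : ℬ.obj) (b : F.obj x ⟶ F.obj x'), ℬ.p.obj x = U →
      𝒳.p.IsHomLift (𝟙 U) b → ∃ b₀ : x ⟶ x', F.map b₀ = b := by
    intro U x x' b hx hb
    have hx' : ℬ.p.obj x' = U := (F.w_obj x').symm.trans (obj_eq_of_lift_right hb)
    have hloc : ∃ R ∈ J U, ∀ ⦃V : C⦄ (f : V ⟶ U), R f → ∃ (x₀ : ℬ.obj) (a : x₀ ⟶ x) (a' : x₀ ⟶ x'),
        ℬ.p.IsHomLift f a ∧ ℬ.p.IsHomLift f a' ∧ F.map a ≫ b = F.map a' := by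
      obtain ⟨R₁, hR₁, h₁⟩ := hP.at x hx
      obtain ⟨R₂, hR₂, h₂⟩ := hP.at x' hx'
      refine ⟨R₁ ⊓ R₂, J.intersection_covering hR₁ hR₂, fun V f hf => ?_⟩
      obtain ⟨x₀, a, hPx, ha⟩ := h₁ f hf.1
      obtain ⟨x₁, a₁, hPx₁, ha₁⟩ := h₂ f hf.2
      have hx₀ : ℬ.p.obj x₀ = V := obj_eq_of_lift_left ha
      subst hx₀
      obtain ⟨γ, hγ, eγ⟩ := exists_fac h𝒳.1 (𝟙 _) f (F.map a₁) (F.map a ≫ b) (lift_map F ha₁)
        (lift_eq (lift_comp_id (lift_map F ha) hb) (Category.id_comp _).symm)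
      obtain ⟨δ, hδ⟩ := hF x₀ x₁ hPx hPx₁ γ hγ
      refine ⟨x₀, a, δ ≫ a₁, ha, lift_id_comp (lift_of_map F (by rw [hδ]; exact hγ)) ha₁, ?_⟩
      rw [F.toFunctor.map_comp]
      exact (congrArg (· ≫ F.map a₁) hδ).trans eγ |>.symm
    obtain ⟨R, hR, hloc⟩ := hloc
    have hpre := hℬ.2 R hR
    obtain ⟨b₀, hb₀, h⟩ := glue_hom hfib hx hx' hpre (fun y φ ψ => F.map φ ≫ b = F.map ψ)
      (by
        intro V f hf
        obtain ⟨x₀, a, a', ha, ha', e⟩ := hloc f hf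
        exact ⟨x₀, a, a', ha, ha', e⟩)
      (by
        intro z y χ φ ψ e
        rw [F.toFunctor.map_comp, F.toFunctor.map_comp, Category.assoc, e])
      (by
        intro V f hf y φ ψ ψ' _ _ _ e e'
        exact F.toFunctor.map_injective (e.symm.trans e'))
    refine ⟨b₀, glue_unique h𝒳.1 (h𝒳.2 R hR) _ _ (lift_map F hb₀) hb fun V f hf => ?_⟩
    obtain ⟨x₀, a, a', ha, ha', -⟩ := hloc f hf
    exact ⟨F.obj x₀, F.map a, lift_map F ha, by rw [h f hf a ha, F.toFunctor.map_comp]⟩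
  constructor
  intro x x' b
  have hb : 𝒳.p.IsHomLift (𝒳.p.map b) b := IsHomLift.map 𝒳.p b
  obtain ⟨x'', c, hc⟩ := exists_lift hfib (𝒳.p.map b) x' (F.w_obj x').symm
  have hx'' : ℬ.p.obj x'' = 𝒳.p.obj (F.obj x) := obj_eq_of_lift_left hc
  obtain ⟨b', hb', eb'⟩ := exists_fac h𝒳.1 (𝟙 _) (𝒳.p.map b) (F.map c) b (lift_map F hc)
    (lift_eq hb (Category.id_comp _).symm)
  obtain ⟨b₀, e₀⟩ := key x x'' b' (F.w_obj x).symm hb'
  exact ⟨b₀ ≫ c, by rw [F.toFunctor.map_comp, ← eb']; exact congrArg (· ≫ F.map c) e₀⟩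

/-- A functor from a stack to a prestack which is fully faithful (on vertical morphisms) on a covering sub and locally
surjective on objects is an equivalence. -/
theorem isEquivOver (hℬ : Stk.IsStack J ℬ) (h𝒳 : Stk.IsPrestack J 𝒳) (F : ℬ ⥤ᵇ 𝒳) {P : ℬ.obj → Prop}
    (hP : Covers J P)
    (hF : ∀ (a : ℬ.obj), P a → ∀ m m' : a ⟶ a, ℬ.p.IsHomLift (𝟙 (ℬ.p.obj a)) m →
      ℬ.p.IsHomLift (𝟙 (ℬ.p.obj a)) m' → F.map m = F.map m' → m = m')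
    (hF' : ∀ (a a' : ℬ.obj), P a → P a' → ∀ k : F.obj a ⟶ F.obj a', 𝒳.p.IsHomLift (𝟙 (ℬ.p.obj a)) k →
      ∃ m : a ⟶ a', F.map m = k)
    (h : Gerb.LocSurjObj J F) : FibCat.IsEquivOver F := by
  have hℬ' := LocEquiv.isPrestack_of_isStack hℬ
  have h1 := faithful hℬ' h𝒳.1 F hP hF
  have h2 := full hℬ' h𝒳 F hP hF'
  exact LocEquiv.isEquivOver_of_locSurjObj hℬ h𝒳 F h

end K895.SubFF
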