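import Groth.Agent.Gerb.K895.SubTop
import Groth.Agent.AlgSt.K737.SubDesc
import Groth.Agent.AlgSt.K742.SmComp
import Groth.Agent.AlgSt.K743.Comp
import Groth.Prelude.Def_StGerb

/-!
# Substacks of substacks (helper895)
-/

set_option autoImplicit false
set_option backward.isDefEq.respectTransparency false
set_option backward.isDefEq.respectTransparency.types false

universe v₃ u₃ v₂ u₂ w v u

open CategoryTheory CategoryTheory.Limits AlgebraicGeometry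
open Opposite AlgSp K737.Open

namespace K895.SubSub

section Gen

variable {S : Scheme.{u}} {𝒳 : BasedCategory.{v₂, u₂} (Over S)} (Z : 𝒳.obj → Prop)
  (Q : (AlgSt.fullSub 𝒳 Z).obj → Prop)

/-- the predicate on `𝒳` cutting out a substack of a substack -/
def pred : 𝒳.obj → Prop := fun x => ∃ h : Z x, Q ⟨x, h⟩

/-- comparison functor -/
def E : AlgSt.fullSub 𝒳 (pred Z Q) ⥤ᵇ AlgSt.fullSub (AlgSt.fullSub 𝒳 Z) Q where
  toFunctor :=
    { obj := fun x => ⟨⟨x.obj, x.property.choose⟩, x.property.choose_spec⟩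
      map := fun f => ObjectProperty.homMk (ObjectProperty.homMk f.hom)
      map_id := fun _ => rfl
      map_comp := fun _ _ => rfl }
  w := rfl

/-- the inverse comparison functor -/
def E' : AlgSt.fullSub (AlgSt.fullSub 𝒳 Z) Q ⥤ᵇ AlgSt.fullSub 𝒳 (pred Z Q) where
  toFunctor :=
    { obj := fun x => ⟨x.obj.obj, x.obj.property, x.property⟩
      map := fun f => ObjectProperty.homMk f.hom.hom
      map_id := fun _ => rfl
      map_comp := fun _ _ => rfl }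
  w := rfl

theorem E_comp_E' : BasedFunctor.comp (E Z Q) (E' Z Q) = BasedFunctor.id _ := rfl

theorem E'_comp_E : BasedFunctor.comp (E' Z Q) (E Z Q) = BasedFunctor.id _ := rfl

theorem E_incl : BasedFunctor.comp (E Z Q) (BasedFunctor.comp (AlgSt.subIncl (AlgSt.fullSub 𝒳 Z) Q)
    (AlgSt.subIncl 𝒳 Z)) = AlgSt.subIncl 𝒳 (pred Z Q) := rfl

theorem E'_incl : BasedFunctor.comp (E' Z Q) (AlgSt.subIncl 𝒳 (pred Z Q)) =
    BasedFunctor.comp (AlgSt.subIncl (AlgSt.fullSub 𝒳 Z) Q) (AlgSt.subIncl 𝒳 Z) := rfl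

theorem isEquivOver_E : FibCat.IsEquivOver (E Z Q) := ⟨E' Z Q, ⟨Iso.refl _⟩, ⟨Iso.refl _⟩⟩

theorem isEquivOver_E' : FibCat.IsEquivOver (E' Z Q) := ⟨E Z Q, ⟨Iso.refl _⟩, ⟨Iso.refl _⟩⟩

/-- range of the points -/
theorem range_pred : Set.range (AlgSt.Points.map (AlgSt.subIncl 𝒳 (pred Z Q))) =
    AlgSt.Points.map (AlgSt.subIncl 𝒳 Z) '' Set.range (AlgSt.Points.map (AlgSt.subIncl (AlgSt.fullSub 𝒳 Z) Q)) := by
  ext p
  constructor
  · rintro ⟨q, rfl⟩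
    refine ⟨_, ⟨AlgSt.Points.map (E Z Q) q, rfl⟩, ?_⟩
    rw [← K735.Pts.map_comp, ← K735.Pts.map_comp, E_incl]
  · rintro ⟨_, ⟨q, rfl⟩, rfl⟩
    refine ⟨AlgSt.Points.map (E' Z Q) q, ?_⟩
    rw [← K735.Pts.map_comp, ← K735.Pts.map_comp, E'_incl]

theorem isClosedUnderIso (hZ : ObjectProperty.IsClosedUnderIsomorphisms Z)
    (hQ : ObjectProperty.IsClosedUnderIsomorphisms Q) : ObjectProperty.IsClosedUnderIsomorphisms (pred Z Q) where
  of_iso {x y} e := by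
    rintro ⟨h, h'⟩
    exact ⟨hZ.of_iso e h, hQ.of_iso (X := ⟨x, h⟩) (Y := ⟨y, hZ.of_iso e h⟩) (ObjectProperty.isoMk _ e) h'⟩

theorem hasLoci {P₁ P₂ P : MorphismProperty Scheme.{u}} (h₁ : K737.Pts.HasLoci P₁ Z) (h₂ : K737.Pts.HasLoci P₂ Q)
    (hP₁ : P₁ ≤ MorphismProperty.monomorphisms Scheme.{u})
    (hP : ∀ {A B C : Scheme.{u}} (f : A ⟶ B) (g : B ⟶ C), P₂ f → P₁ g → P (f ≫ g)) : K737.Pts.HasLoci P (pred Z Q) := by
  intro U y
  obtain ⟨A, i, hi, hl⟩ := h₁ U y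
  have hmono : Mono i.left := hP₁ _ hi
  have : Mono i := Over.mono_of_mono_left i
  have hx' : ∀ a, Z ((BasedFunctor.comp (AlgSt.overMap i) y).obj a) := fun a => (hl _).2 ⟨a.hom, rfl⟩
  obtain ⟨B, j, hj, hl'⟩ := h₂ A (K737.Image.lift (BasedFunctor.comp (AlgSt.overMap i) y) hx')
  have key : ∀ (g : Over U) (k : g.left ⟶ A) (_ : k ≫ i = g.hom) (h : Z (y.obj g)),
      (⟨y.obj g, h⟩ : (AlgSt.fullSub 𝒳 Z).obj) =
        (K737.Image.lift (BasedFunctor.comp (AlgSt.overMap i) y) hx').obj (Over.mk k) := by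
    intro g k hk h
    have e : (AlgSt.overMap i).obj (Over.mk k) = g := by
      change Over.mk (k ≫ i) = g
      rw [hk]
      rfl
    apply ObjectProperty.FullSubcategory.ext
    exact congrArg y.obj e.symm
  refine ⟨B, j ≫ i, hP _ _ hj hi, fun g => ⟨?_, ?_⟩⟩
  · rintro ⟨h, h'⟩
    obtain ⟨k, hk⟩ := (hl g).1 h
    rw [key g k hk h] at h'
    obtain ⟨k', hk'⟩ := (hl' (Over.mk k)).1 h'
    refine ⟨k', ?_⟩
    rw [← Category.assoc, hk']
    exact hk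
  · rintro ⟨k', hk'⟩
    have hk : (k' ≫ j) ≫ i = g.hom := by rw [Category.assoc, hk']
    have h : Z (y.obj g) := (hl g).2 ⟨k' ≫ j, hk⟩
    refine ⟨h, ?_⟩
    rw [key g _ hk h]
    exact (hl' (Over.mk (k' ≫ j))).2 ⟨k', rfl⟩

/-- transport of gerbes -/
theorem isAlgGerbe (K : Precoverage Scheme.{u}) (h : Gerb.IsAlgGerbe K (AlgSt.fullSub (AlgSt.fullSub 𝒳 Z) Q)) :
    Gerb.IsAlgGerbe K (AlgSt.fullSub 𝒳 (pred Z Q)) := by
  obtain ⟨X, π, h1, h2⟩ := h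
  refine ⟨X, BasedFunctor.comp (E Z Q) π, fun y => ?_, fun x x' b hb => ?_⟩
  · obtain ⟨R, hR, H⟩ := h1 y
    refine ⟨R, hR, fun V f hf => ?_⟩
    obtain ⟨x, g, hg⟩ := H f hf
    exact ⟨(E' Z Q).obj x, g, hg⟩
  · obtain ⟨R, hR, H⟩ := h2 ((E Z Q).obj x) ((E Z Q).obj x') b hb
    refine ⟨R, hR, fun V f hf => ?_⟩
    obtain ⟨x₀, φ, ψ, hφ, hψ, e⟩ := H f hf
    refine ⟨(E' Z Q).obj x₀, (E' Z Q).map φ, (E' Z Q).map ψ, ?_, ?_, e⟩
    · exact BasedFunctor.preserves_isHomLift (E' Z Q) f φ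
    · exact BasedFunctor.preserves_isHomLift (E' Z Q) f ψ

/-- transport of smooth local properties along an equivalence -/
theorem smoothLocally (P : Scheme.{u} → Prop) (h : AlgSt.SmoothLocally P (AlgSt.fullSub (AlgSt.fullSub 𝒳 Z) Q)) :
    AlgSt.SmoothLocally P (AlgSt.fullSub 𝒳 (pred Z Q)) := by
  intro U x hx
  refine h U (BasedFunctor.comp x (E Z Q)) ?_
  exact K735.Rep.repByAlgSpWith_of_sq _ x _ (BasedFunctor.id _) (E' Z Q) (K734.Fib.isEquivOver_refl _)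
    (isEquivOver_E' Z Q) (Iso.refl _) hx

theorem isQuasiCompact (h : AlgSt.IsQuasiCompact (AlgSt.fullSub (AlgSt.fullSub 𝒳 Z) Q)) :
    AlgSt.IsQuasiCompact (AlgSt.fullSub 𝒳 (pred Z Q)) := by
  obtain ⟨U, x, hU, hx, hx'⟩ := h
  refine ⟨U, BasedFunctor.comp x (E' Z Q), hU, ?_, ?_⟩
  · exact K735.Rep.repByAlgSpWith_of_sq _ x _ (BasedFunctor.id _) (E Z Q) (K734.Fib.isEquivOver_refl _)
      (isEquivOver_E Z Q) (Iso.refl _) hx
  · exact K735.Rep.repByAlgSpWith_of_sq _ x _ (BasedFunctor.id _) (E Z Q) (K734.Fib.isEquivOver_refl _)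
      (isEquivOver_E Z Q) (Iso.refl _) hx'

end Gen

end K895.SubSub
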