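import Groth.Agent.AlgSt.K737.SubSt
import Groth.Agent.AlgSt.K737.OpenSt
import Groth.Agent.AlgSt.K736.QC

/-!
# The inclusion of a closed substack is a closed embedding on points (helper895)
-/

set_option autoImplicit false
set_option backward.isDefEq.respectTransparency false
set_option backward.isDefEq.respectTransparency.types false

universe v₃ u₃ v₂ u₂ w v u

open CategoryTheory CategoryTheory.Limits AlgebraicGeometry
open Opposite AlgSp K737.Open

namespace K895.SubTop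

variable {S : Scheme.{u}} {𝒳 : AlgSt.Cat S}

theorem isClosed_iff {T : Set (AlgSt.Points 𝒳)} : IsClosed T ↔
    ∀ (U : Over S) (x : FibCat.overCat U ⥤ᵇ 𝒳), AlgSt.RepByAlgSpWith (LocP @Smooth) x →
      IsClosed (AlgSt.Points.ofChart x ⁻¹' T) := by
  rw [← isOpen_compl_iff, AlgSt.Points.isOpen_iff]
  simp only [Set.preimage_compl, isOpen_compl_iff]

theorem isClosedMap_subIncl (h𝒳 : AlgSt.IsAlgStack Scheme.fppfPrecoverage 𝒳) {Q : 𝒳.obj → Prop}
    (hQ : AlgSt.IsClosedSubstack 𝒳 Q Scheme.fppfPrecoverage) :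
    IsClosedMap (AlgSt.Points.map (AlgSt.subIncl 𝒳 Q)) := by
  obtain ⟨hiso, H⟩ := (K737.SubSt.isClosedSubstack_iff h𝒳 Q).1 hQ
  intro C hC
  rw [isClosed_iff]
  intro V v hv
  obtain ⟨Z, i, hi, hl⟩ := H V v
  have hx' : ∀ a, Q ((BasedFunctor.comp (AlgSt.overMap i) v).obj a) := fun a => (hl _).2 ⟨a.hom, rfl⟩
  have hs := K737.SubSt.repByAlgSpWith_locus K737.Open.closedImm_le_mono h𝒳.1.1 hiso H v i hi hl hx' _ hv
  have hc := isClosed_iff.1 hC _ _ hs
  have e : AlgSt.Points.ofChart v ⁻¹' (AlgSt.Points.map (AlgSt.subIncl 𝒳 Q) '' C) =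
      i.left '' (AlgSt.Points.ofChart (K737.Image.lift (BasedFunctor.comp (AlgSt.overMap i) v) hx') ⁻¹' C) := by
    have hcomm : ∀ z : ↥Z.left, AlgSt.Points.map (AlgSt.subIncl 𝒳 Q)
        (AlgSt.Points.ofChart (K737.Image.lift (BasedFunctor.comp (AlgSt.overMap i) v) hx') z) =
          AlgSt.Points.ofChart v (i.left z) := by
      intro z
      rw [← K735.PtsSp.ofChart_overMap]
      rfl
    have hinj := K737.Image.injective_map_subIncl (Q := Q) h𝒳.1.1 (fun x z φ h => H.of_hom h𝒳.1.1 hiso φ h)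
    ext t
    constructor
    · rintro ⟨c, hcC, hct⟩
      have : t ∈ Set.range i.left := (H.ofChart_mem_range_iff K737.Open.closedImm_le_mono h𝒳.1.1 hiso v i hi hl t).1
        ⟨c, hct⟩
      obtain ⟨z, rfl⟩ := this
      refine ⟨z, ?_, rfl⟩
      have : AlgSt.Points.ofChart (K737.Image.lift (BasedFunctor.comp (AlgSt.overMap i) v) hx') z = c := by
        apply hinj
        rw [hcomm, hct]
      rw [Set.mem_preimage, this]
      exact hcC
    · rintro ⟨z, hz, rfl⟩
      exact ⟨_, hz, hcomm z⟩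
  rw [e]
  have : IsClosedImmersion i.left := hi
  exact i.left.isClosedEmbedding.isClosedMap _ hc

theorem isClosedEmbedding_subIncl (h𝒳 : AlgSt.IsAlgStack Scheme.fppfPrecoverage 𝒳) {Q : 𝒳.obj → Prop}
    (hQ : AlgSt.IsClosedSubstack 𝒳 Q Scheme.fppfPrecoverage) :
    Topology.IsClosedEmbedding (AlgSt.Points.map (AlgSt.subIncl 𝒳 Q)) := by
  obtain ⟨hiso, H⟩ := (K737.SubSt.isClosedSubstack_iff h𝒳 Q).1 hQ
  exact Topology.IsClosedEmbedding.of_continuous_injective_isClosedMap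
    (K735.Top.continuous_map (K735.Top.chartCont_of_isAlgStack h𝒳) _)
    (K737.Image.injective_map_subIncl (Q := Q) h𝒳.1.1 (fun x z φ h => H.of_hom h𝒳.1.1 hiso φ h))
    (isClosedMap_subIncl h𝒳 hQ)

end K895.SubTop
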