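import Groth.Agent.Gerb.K895.Fib
import Groth.Agent.AlgSt.K735.Fp
import Groth.Agent.AlgSt.K739.Rep

/-!
# The presheaf of triples `(a, b, θ)` : the 2-fibre product of two objects as a category of elements (helper895)

For functors `y : overCat T ⥤ᵇ ℋ`, `x : overCat U ⥤ᵇ ℋ` into a category fibred in groupoids, `K895.Tri.psh` is the presheaf
`V ↦ {(a : V ⟶ T, b : V ⟶ U, θ : y(a) ⟶ x(b) over 𝟙 V)}` and `K895.Tri.toFp : ofPsh psh ⥤ᵇ fp y x` is an equivalence.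
-/

set_option autoImplicit false
set_option backward.isDefEq.respectTransparency false
set_option backward.isDefEq.respectTransparency.types false

universe w v₂ u₂ v u

open CategoryTheory Opposite

namespace K895.Tri

variable {C : Type u} [Category.{v} C] {ℋ : BasedCategory.{v₂, u₂} C} {T U : C}
  (y : FibCat.overCat T ⥤ᵇ ℋ) (x : FibCat.overCat U ⥤ᵇ ℋ)

/-- A triple `(a, b, θ)`. -/
structure Sec (V : C) : Type (max w v v₂) where
  a : V ⟶ T
  b : V ⟶ U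
  θ : y.obj (Over.mk a) ⟶ x.obj (Over.mk b)
  hθ : ℋ.p.IsHomLift (𝟙 V) θ

variable {y x}

/-- Morphism of `C/T` over `g`. -/
abbrev up {V V' : C} (g : V' ⟶ V) {a : V ⟶ T} {a' : V' ⟶ T} (h : a' = g ≫ a) :
    (Over.mk a' : (FibCat.overCat T).obj) ⟶ (Over.mk a : (FibCat.overCat T).obj) :=
  Over.homMk g (by simp [h])

theorem lift_up {V V' : C} (g : V' ⟶ V) {a : V ⟶ T} {a' : V' ⟶ T} (h : a' = g ≫ a) :
    (FibCat.overCat T).p.IsHomLift g (up g h) :=
  (inferInstance : (FibCat.overCat T).p.IsHomLift ((FibCat.overCat T).p.map (up g h)) (up g h))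

theorem lift_map_up (y : FibCat.overCat T ⥤ᵇ ℋ) {V V' : C} (g : V' ⟶ V) {a : V ⟶ T} {a' : V' ⟶ T}
    (h : a' = g ≫ a) : ℋ.p.IsHomLift g (y.map (up g h)) :=
  Fib.lift_map y (lift_up g h)

theorem up_comp {V V' V'' : C} (g : V' ⟶ V) (g' : V'' ⟶ V') {a : V ⟶ T} {a' : V' ⟶ T} {a'' : V'' ⟶ T}
    (h : a' = g ≫ a) (h' : a'' = g' ≫ a') (h'' : a'' = (g' ≫ g) ≫ a) :
    (up g' h' ≫ up g h : (Over.mk a'' : (FibCat.overCat T).obj) ⟶ _) = up (g' ≫ g) h'' := by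
  apply Over.OverMorphism.ext
  rfl

theorem up_id {V : C} {a : V ⟶ T} (h : a = 𝟙 V ≫ a) :
    (up (𝟙 V) h : (Over.mk a : (FibCat.overCat T).obj) ⟶ _) = 𝟙 _ := by
  apply Over.OverMorphism.ext
  rfl

/-- `s'` is the restriction of `s` along `g`. -/
structure Rel {V V' : C} (g : V' ⟶ V) (s' : Sec.{w} y x V') (s : Sec.{w} y x V) : Prop where
  ha : s'.a = g ≫ s.a
  hb : s'.b = g ≫ s.b
  w : s'.θ ≫ x.map (up g hb) = y.map (up g ha) ≫ s.θ

theorem Rel.id {V : C} (s : Sec.{w} y x V) : Rel (𝟙 V) s s where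
  ha := (Category.id_comp _).symm
  hb := (Category.id_comp _).symm
  w := by
    rw [up_id, up_id]
    erw [x.map_id, y.map_id]
    simp

theorem Rel.comp {V V' V'' : C} {g : V' ⟶ V} {g' : V'' ⟶ V'} {s'' : Sec.{w} y x V''} {s' : Sec.{w} y x V'}
    {s : Sec.{w} y x V} (h' : Rel g' s'' s') (h : Rel g s' s) : Rel (g' ≫ g) s'' s where
  ha := by rw [h'.ha, h.ha, Category.assoc]
  hb := by rw [h'.hb, h.hb, Category.assoc]
  w := by
    rw [← up_comp g g' h.ha h'.ha, ← up_comp g g' h.hb h'.hb]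
    erw [x.map_comp, y.map_comp]
    rw [← Category.assoc, h'.w, Category.assoc, h.w, Category.assoc]

theorem Rel.unique (hℋ : FibCat.IsFibGrpd ℋ.p) {V V' : C} {g : V' ⟶ V} {s' s'' : Sec.{w} y x V'}
    {s : Sec.{w} y x V} (h' : Rel g s' s) (h'' : Rel g s'' s) : s' = s'' := by
  obtain ⟨a', b', θ', hθ'⟩ := s'
  obtain ⟨a'', b'', θ'', hθ''⟩ := s''
  obtain ⟨ha', hb', w'⟩ := h'
  obtain ⟨ha'', hb'', w''⟩ := h''
  dsimp only at ha' hb' ha'' hb'' w' w''
  subst ha' hb' ha'' hb''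
  congr 1
  exact Fib.hom_unique hℋ (𝟙 V') g (x.map (up g rfl)) (lift_map_up x g rfl) θ' θ'' hθ' hθ''
    (w'.trans w''.symm)

theorem Rel.exists (hℋ : FibCat.IsFibGrpd ℋ.p) {V V' : C} (g : V' ⟶ V) (s : Sec.{w} y x V) :
    ∃ s' : Sec.{w} y x V', Rel g s' s := by
  obtain ⟨θ', h1, h2⟩ := Fib.exists_fac hℋ (𝟙 V') g (x.map (up g (a := s.b) rfl))
    (y.map (up g (a := s.a) rfl) ≫ s.θ) (lift_map_up x g rfl)
    (Fib.lift_eq (Fib.lift_comp_id (lift_map_up y g rfl) s.hθ) (Category.id_comp _).symm)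
  exact ⟨⟨g ≫ s.a, g ≫ s.b, θ', h1⟩, rfl, rfl, h2⟩

/-- The presheaf of triples. -/
noncomputable def psh (hℋ : FibCat.IsFibGrpd ℋ.p) (y : FibCat.overCat T ⥤ᵇ ℋ) (x : FibCat.overCat U ⥤ᵇ ℋ) :
    Cᵒᵖ ⥤ Type (max w v v₂) where
  obj V := Sec.{w} y x V.unop
  map g := ↾fun s => (Rel.exists hℋ g.unop s).choose
  map_id V := by
    ext s
    exact Rel.unique hℋ (Rel.exists hℋ (𝟙 V.unop) s).choose_spec (Rel.id s)
  map_comp f g := by
    ext s
    exact Rel.unique hℋ (Rel.exists hℋ (g.unop ≫ f.unop) s).choose_spec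
      (Rel.comp (Rel.exists hℋ g.unop _).choose_spec (Rel.exists hℋ f.unop s).choose_spec)

theorem map_rel (hℋ : FibCat.IsFibGrpd ℋ.p) {V V' : C} (g : V' ⟶ V) (s : Sec.{w} y x V) :
    Rel g ((psh.{w} hℋ y x).map g.op s) s := (Rel.exists hℋ g s).choose_spec

theorem map_eq_iff (hℋ : FibCat.IsFibGrpd ℋ.p) {V V' : C} (g : V' ⟶ V) (s : Sec.{w} y x V)
    (s' : Sec.{w} y x V') : (psh.{w} hℋ y x).map g.op s = s' ↔ Rel g s' s := by
  constructor
  · rintro rfl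
    exact map_rel hℋ g s
  · intro h
    exact Rel.unique hℋ (map_rel hℋ g s) h

open K735.Fib K735.Fp in
/-- The category of elements of the presheaf of triples maps to the 2-fibre product. -/
noncomputable def toFp (hℋ : FibCat.IsFibGrpd ℋ.p) (y : FibCat.overCat T ⥤ᵇ ℋ) (x : FibCat.overCat U ⥤ᵇ ℋ) :
    Stk.ofPsh (psh.{w} hℋ y x) ⥤ᵇ FibCat.fp y x where
  toFunctor :=
    { obj := fun e => mkFp y x (Over.mk e.sec.a) (Over.mk e.sec.b)
        (@asIso _ _ _ _ e.sec.θ (Fib.isIso hℋ (𝟙 e.base) e.sec.θ e.sec.hθ)) (vert_of_isHomLift e.sec.hθ)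
      map := fun {e' e} f =>
        have h := (map_eq_iff hℋ f.hom e.sec e'.sec).1 f.map_sec
        homFp (up f.hom h.ha) (up f.hom h.hb) h.w.symm
      map_id := fun _ => fp_hom_ext (Over.OverMorphism.ext rfl) (Over.OverMorphism.ext rfl)
      map_comp := fun _ _ => fp_hom_ext (Over.OverMorphism.ext rfl) (Over.OverMorphism.ext rfl) }
  w := rfl

theorem toFp_obj_fst (hℋ : FibCat.IsFibGrpd ℋ.p) (y : FibCat.overCat T ⥤ᵇ ℋ) (x : FibCat.overCat U ⥤ᵇ ℋ)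
    (e : (Stk.ofPsh (psh.{w} hℋ y x)).obj) : ((toFp hℋ y x).obj e).obj.fst = Over.mk e.sec.a := rfl

open K735.Fib K735.Fp in
theorem isEquivOver_toFp (hℋ : FibCat.IsFibGrpd ℋ.p) (y : FibCat.overCat T ⥤ᵇ ℋ) (x : FibCat.overCat U ⥤ᵇ ℋ) :
    FibCat.IsEquivOver (toFp.{w} hℋ y x) := by
  apply isEquivOver_of
  · intro e' e f g h
    apply Stk.EltObj.hom_ext
    have := congrArg (fun k => (FibCat.overCat T).p.map k.hom.fst) h
    exact this
  · intro e' e k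
    have h1 : e'.sec.a = k.hom.fst.left ≫ e.sec.a := (Over.w k.hom.fst).symm
    have h0 : k.hom.snd.left = k.hom.fst.left := by
      have : (FibCat.overCat U).p.map k.hom.snd = (FibCat.overCat T).p.map k.hom.fst := by
        simpa using fp_map_snd k
      exact this
    have h2 : e'.sec.b = k.hom.fst.left ≫ e.sec.b := by
      rw [← h0]
      exact (Over.w k.hom.snd).symm
    have hf : k.hom.fst = up k.hom.fst.left h1 := Over.OverMorphism.ext rfl
    have hs : k.hom.snd = up k.hom.fst.left h2 := Over.OverMorphism.ext h0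
    refine ⟨⟨k.hom.fst.left, (map_eq_iff hℋ k.hom.fst.left e.sec e'.sec).2 ⟨h1, h2, ?_⟩⟩, ?_⟩
    · rw [← hf, ← hs]
      exact (fp_w k).symm
    · exact fp_hom_ext hf.symm hs.symm
  · intro z
    have hv : z.obj.snd.left = z.obj.fst.left := fp_snd_eq z
    let b : z.obj.fst.left ⟶ U := eqToHom hv.symm ≫ z.obj.snd.hom
    let σ : (Over.mk b : (FibCat.overCat U).obj) ≅ z.obj.snd :=
      Over.isoMk (eqToIso hv.symm) rfl
    let τ : (Over.mk z.obj.fst.hom : (FibCat.overCat T).obj) ≅ z.obj.fst := Over.isoMk (Iso.refl _) (by simp)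
    have hσ : Vert (FibCat.overCat U).p σ.hom := vert_of_map_eq (p := (FibCat.overCat U).p) hv.symm rfl
    have hτ : Vert (FibCat.overCat T).p τ.hom := vert_of_map_eq (p := (FibCat.overCat T).p) rfl rfl
    have hσ' : Vert ℋ.p (x.map σ.inv) := Vert.map x (Vert.iso_inv hσ)
    have hτ' : Vert ℋ.p (y.map τ.hom) := Vert.map y hτ
    have hθ : Vert ℋ.p ((y.map τ.hom ≫ z.obj.iso.hom) ≫ x.map σ.inv) := (hτ'.comp (fp_vert z)).comp hσ'
    let s : Sec.{w} y x z.obj.fst.left :=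
      ⟨z.obj.fst.hom, b, (y.map τ.hom ≫ z.obj.iso.hom) ≫ x.map σ.inv, hθ.isHomLift (y.w_obj _)⟩
    refine ⟨⟨z.obj.fst.left, s⟩, isoFp τ σ ?_, ?_⟩
    · change y.map τ.hom ≫ z.obj.iso.hom = ((y.map τ.hom ≫ z.obj.iso.hom) ≫ x.map σ.inv) ≫ x.map σ.hom
      rw [Category.assoc (y.map τ.hom ≫ z.obj.iso.hom)]
      have : x.map σ.inv ≫ x.map σ.hom = 𝟙 _ := by
        rw [← x.toFunctor.map_comp, σ.inv_hom_id, x.toFunctor.map_id]
      rw [this, Category.comp_id]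
    · exact (vert_fp_iff _).2 hτ

end K895.Tri
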