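import Groth.Agent.Gerb.K895.Global

/-!
# 2-morphisms between functors out of a gerbe with a global object (helper895)
-/

set_option autoImplicit false
set_option backward.isDefEq.respectTransparency false
set_option backward.isDefEq.respectTransparency.types false

universe v₅ u₅ v₄ u₄ v₃ u₃ v₂ u₂ v u

open CategoryTheory K895.Fib K895.Glue

namespace K895.TwoMor

variable {C : Type u} [Category.{v} C] {J : GrothendieckTopology C}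

/-- uniqueness of gluing for morphisms over an arbitrary morphism -/
theorem glue_unique' {𝒳 : BasedCategory.{v₂, u₂} C} (h𝒳 : Stk.IsPrestack J 𝒳) {U U' : C} (k : U ⟶ U')
    {x x' : 𝒳.obj} (b b' : x ⟶ x') (hb : 𝒳.p.IsHomLift k b) (hb' : 𝒳.p.IsHomLift k b')
    (R : Sieve U) (hR : R ∈ J U)
    (hloc : ∀ ⦃V : C⦄ (f : V ⟶ U), R f → ∃ (y : 𝒳.obj) (φ : y ⟶ x), 𝒳.p.IsHomLift f φ ∧
      φ ≫ b = φ ≫ b') : b = b' := by
  obtain ⟨t, ht, et⟩ := exists_fac h𝒳.1 (𝟙 _) k b b' hb (lift_eq hb' (Category.id_comp _).symm)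
  have : t = 𝟙 x := by
    refine glue_unique h𝒳.1 (h𝒳.2 R hR) t (𝟙 x) ht (IsHomLift.id (obj_eq_of_lift_left hb)) fun V f hf => ?_
    obtain ⟨y, φ, hφ, e⟩ := hloc f hf
    refine ⟨y, φ, hφ, ?_⟩
    refine hom_unique h𝒳.1 f k b hb _ _ (lift_comp_id hφ ht)
      (lift_comp_id hφ (IsHomLift.id (obj_eq_of_lift_left hb))) ?_
    rw [Category.assoc, et, Category.comp_id, e]
  rw [← et, this, Category.id_comp]

variable {𝒳 : BasedCategory.{v₂, u₂} C} {𝒴 : BasedCategory.{v₃, u₃} C} {T : C} (hT : Limits.IsTerminal T)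
  (hfib : FibCat.IsFibGrpd 𝒳.p) (hg : Gerb.LocSurjHom J (FibCat.toSelf 𝒳))
  (h𝒴 : Stk.IsPrestack J 𝒴)
  (F G : 𝒳 ⥤ᵇ 𝒴) (s : 𝒳.obj) (hs : 𝒳.p.obj s = T) (g : F.obj s ⟶ G.obj s)
  (hgl : 𝒴.p.IsHomLift (𝟙 T) g)

include hT hs h𝒴 hgl in
theorem exists_r (x : 𝒳.obj) (c : x ⟶ s) : ∃ r : F.obj x ⟶ G.obj x,
    𝒴.p.IsHomLift (𝟙 (𝒳.p.obj x)) r ∧ r ≫ G.map c = F.map c ≫ g := by
  have hc := Global.lift_terminal hT s hs c rfl
  exact exists_fac h𝒴.1 (𝟙 _) (hT.from _) (G.map c) (F.map c ≫ g) (lift_map G hc)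
    (lift_eq (lift_comp_id (lift_map F hc) hgl) (Category.id_comp _).symm)

include hT hs h𝒴 hgl hfib hg in
/-- **Theorem**: a morphism `F s ⟶ G s` over the identity which intertwines the automorphism sheaves extends to a
2-morphism `F ⟶ G`. -/
theorem exists_trans
    (hconj : ∀ (x' : 𝒳.obj) (c : x' ⟶ s) (g' : F.obj x' ⟶ G.obj x'),
      𝒴.p.IsHomLift (𝟙 (𝒳.p.obj x')) g' → F.map c ≫ g = g' ≫ G.map c →
        ∀ α : Gerb.AutO x', F.map α.hom.1 ≫ g' = g' ≫ G.map α.hom.1) :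
    ∃ ρ : F ⟶ G, (BasedNatTrans.toNatTrans ρ).app s = g := by
  choose r hr er using exists_r hT h𝒴 F G s hs g hgl
  have hrU : ∀ (x : 𝒳.obj) (c : x ⟶ s) {U : C}, 𝒳.p.obj x = U → 𝒴.p.IsHomLift (𝟙 U) (r x c) := by
    rintro x c U rfl; exact hr x c
  -- naturality of `r`
  have rnat : ∀ {x x' : 𝒳.obj} (k : x ⟶ x') (c : x' ⟶ s), r x (k ≫ c) ≫ G.map k = F.map k ≫ r x' c := by
    intro x x' k c
    have hc := Global.lift_terminal hT s hs c rfl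
    refine hom_unique h𝒴.1 (𝒳.p.map k) (hT.from _) (G.map c) (lift_map G hc) _ _
      (lift_id_comp (hr x _) (lift_map G (IsHomLift.map 𝒳.p k)))
      (lift_comp_id (lift_map F (IsHomLift.map 𝒳.p k)) (hr x' c)) ?_
    rw [Category.assoc, Category.assoc, ← G.toFunctor.map_comp, er, er, F.toFunctor.map_comp,
      Category.assoc]
  -- independence of `c`
  have rind : ∀ {x : 𝒳.obj} (c c' : x ⟶ s), r x c = r x c' := by
    intro x c c'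
    have hc := Global.lift_terminal hT s hs c rfl
    have hc' := Global.lift_terminal hT s hs c' rfl
    obtain ⟨δ, hδ, eδ⟩ := exists_fac hfib (𝟙 _) (hT.from _) c c' hc
      (lift_eq hc' (Category.id_comp _).symm)
    have h1 := hconj x c (r x c) (hr x c) (er x c).symm (Global.mkAut hfib δ hδ)
    have h1' : F.map δ ≫ r x c = r x c ≫ G.map δ := h1
    refine hom_unique h𝒴.1 (𝟙 _) (hT.from _) (G.map c') (lift_map G hc') _ _ (hr x c) (hr x c') ?_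
    rw [er x c', ← eδ, F.toFunctor.map_comp, G.toFunctor.map_comp, Category.assoc, ← er x c,
      ← reassoc_of% h1']
  let P : ∀ (y : 𝒳.obj) ⦃z : 𝒴.obj⦄, (z ⟶ F.obj y) → (z ⟶ G.obj y) → Prop := fun y z α β =>
    ∃ (z₀ : 𝒳.obj) (c : z₀ ⟶ s) (a : z₀ ⟶ y) (γ : z ⟶ F.obj z₀), α = γ ≫ F.map a ∧ β = γ ≫ r z₀ c ≫ G.map a
  have hun : ∀ (y : 𝒳.obj) ⦃V : C⦄ (f : V ⟶ 𝒳.p.obj y) ⦃z : 𝒴.obj⦄ (α : z ⟶ F.obj y) (β β' : z ⟶ G.obj y),
      𝒴.p.IsHomLift f α → P y α β → P y α β' → β = β' := by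
    rintro y V f z α _ _ hα ⟨z₀, c, a, γ, e₀, rfl⟩ ⟨z₁, c₁, a₁, γ₁, e₁, rfl⟩
    obtain ⟨w, w₀, hw₀⟩ := exists_lift hfib f y rfl
    have hz : 𝒴.p.obj z = V := obj_eq_of_lift_left hα
    subst hz
    have claim : ∀ (z₀ : 𝒳.obj) (c : z₀ ⟶ s) (a : z₀ ⟶ y) (γ : z ⟶ F.obj z₀), α = γ ≫ F.map a →
        ∃ (c' : w ⟶ s) (ε : z ⟶ F.obj w), 𝒴.p.IsHomLift (𝟙 (𝒴.p.obj z)) ε ∧ ε ≫ F.map w₀ = α ∧
          γ ≫ r z₀ c ≫ G.map a = ε ≫ r w c' ≫ G.map w₀ := by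
      intro z₀ c a γ e₀
      let k : 𝒴.p.obj z ⟶ 𝒳.p.obj z₀ := 𝒴.p.map γ ≫ eqToHom (F.w_obj z₀)
      have hk : 𝒴.p.IsHomLift k γ := inferInstance
      have hkf : f = k ≫ 𝒳.p.map a := by
        have h1 : 𝒴.p.IsHomLift (k ≫ 𝒳.p.map a) (γ ≫ F.map a) :=
          lift_comp hk (lift_map F (IsHomLift.map 𝒳.p a))
        have h2 : 𝒴.p.IsHomLift f (γ ≫ F.map a) := e₀ ▸ hα
        exact (IsHomLift.fac 𝒴.p f (γ ≫ F.map a)).trans
          (IsHomLift.fac 𝒴.p (k ≫ 𝒳.p.map a) (γ ≫ F.map a)).symm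
      obtain ⟨m, hm, em⟩ := exists_fac hfib k (𝒳.p.map a) a w₀ (IsHomLift.map 𝒳.p a)
        (lift_eq hw₀ hkf)
      obtain ⟨ε, hε, eε⟩ := exists_fac h𝒴.1 (𝟙 _) k (F.map m) γ (lift_map F hm)
        (lift_eq hk (Category.id_comp _).symm)
      refine ⟨m ≫ c, ε, hε, ?_, ?_⟩
      · rw [e₀, ← eε, ← em, F.toFunctor.map_comp, Category.assoc]
      · rw [← eε, Category.assoc, ← em, G.toFunctor.map_comp, reassoc_of% (rnat m c)]
    obtain ⟨c', ε, hε, h1, h2⟩ := claim z₀ c a γ e₀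
    obtain ⟨c'', ε', hε', h1', h2'⟩ := claim z₁ c₁ a₁ γ₁ e₁
    have : ε = ε' := hom_unique h𝒴.1 (𝟙 _) f (F.map w₀) (lift_map F hw₀) ε ε' hε hε' (h1.trans h1'.symm)
    rw [h2, h2', this, rind c' c'']
  have hex : ∀ y : 𝒳.obj, ∃ ρ : F.obj y ⟶ G.obj y, 𝒴.p.IsHomLift (𝟙 (𝒳.p.obj y)) ρ ∧
      ∀ (z₀ : 𝒳.obj) (c : z₀ ⟶ s) (a : z₀ ⟶ y), F.map a ≫ ρ = r z₀ c ≫ G.map a := by
    intro y
    obtain ⟨R, hR, hloc⟩ := Global.exists_triv hT hfib hg s hs y rfl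
    obtain ⟨ρ, hρ, h⟩ := glue_hom h𝒴.1 (x := F.obj y) (x' := G.obj y) (F.w_obj y) (G.w_obj y) (h𝒴.2 R hR)
      (P y)
      (by
        intro V f hf
        obtain ⟨x₀, a, c, ha⟩ := hloc f hf
        exact ⟨F.obj x₀, F.map a, r x₀ c ≫ G.map a, lift_map F ha,
          lift_id_comp (hrU x₀ c (obj_eq_of_lift_left ha)) (lift_map G ha),
          ⟨x₀, c, a, 𝟙 _, (Category.id_comp _).symm, (Category.id_comp _).symm⟩⟩)
      (by
        rintro z y k _ _ ⟨z₀, c, a, γ, rfl, rfl⟩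
        exact ⟨z₀, c, a, k ≫ γ, by simp, by simp⟩)
      (by
        intro V f _ z α β β' hα _ _ h1 h2
        exact hun y f α β β' hα h1 h2)
    refine ⟨ρ, hρ, fun z₀ c a => ?_⟩
    have hpull : R.pullback (𝒳.p.map a) ∈ J (𝒳.p.obj z₀) := J.pullback_stable _ hR
    refine glue_unique' h𝒴 (𝒳.p.map a) _ _ (lift_comp_id (lift_map F (IsHomLift.map 𝒳.p a)) hρ)
      (lift_id_comp (hr z₀ c) (lift_map G (IsHomLift.map 𝒳.p a))) _ hpull ?_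
    intro V f hf
    obtain ⟨z₁, m, hm⟩ := exists_lift hfib f z₀ rfl
    refine ⟨F.obj z₁, F.map m, lift_map F hm, ?_⟩
    have h1 := h (f ≫ 𝒳.p.map a) hf (F.map (m ≫ a)) (lift_map F (lift_comp hm (IsHomLift.map 𝒳.p a)))
    have h2 : P y (F.map (m ≫ a)) (r z₁ (m ≫ c) ≫ G.map (m ≫ a)) :=
      ⟨z₁, m ≫ c, m ≫ a, 𝟙 _, (Category.id_comp _).symm, (Category.id_comp _).symm⟩
    have h3 := hun y (f ≫ 𝒳.p.map a) _ _ _ (lift_map F (lift_comp hm (IsHomLift.map 𝒳.p a))) h1 h2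
    rw [F.toFunctor.map_comp, G.toFunctor.map_comp, reassoc_of% (rnat m c), Category.assoc] at h3
    exact h3
  choose ρ hρ eρ using hex
  refine ⟨mkTrans ρ hρ ?_, ?_⟩
  · intro y y' m
    obtain ⟨R, hR, hloc⟩ := Global.exists_triv hT hfib hg s hs y rfl
    refine glue_unique' h𝒴 (𝒳.p.map m) _ _ (lift_comp_id (lift_map F (IsHomLift.map 𝒳.p m)) (hρ y'))
      (lift_id_comp (hρ y) (lift_map G (IsHomLift.map 𝒳.p m))) R hR ?_
    intro V f hf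
    obtain ⟨x₀, a, c, ha⟩ := hloc f hf
    refine ⟨F.obj x₀, F.map a, lift_map F ha, ?_⟩
    rw [reassoc_of% (eρ y x₀ c a), ← Category.assoc, ← F.toFunctor.map_comp, eρ y' x₀ c (a ≫ m),
      G.toFunctor.map_comp]
  · change ρ s = g
    have h1 := eρ s s (𝟙 s) (𝟙 s)
    have h2 := er s (𝟙 s)
    rw [F.toFunctor.map_id, G.toFunctor.map_id] at h1 h2
    rw [Category.id_comp, Category.comp_id] at h1 h2
    rw [h1, h2]

end K895.TwoMor
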